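import Cfsg.Agent.Mrg.Omega.KL.TwoZ.Ex
import Cfsg.Agent.Mrg.Omega.TC.No
import Cfsg.Agent.Mrg.Omega.NO3S.EMany.LowExt


/-!
# From `Out` to the input of THEOREM KL*(q) (`StarQ.InpQ`), centres of any order

* `exists_odd` : elements of odd order lift;
* `PreQ` : the input of THEOREM KL*(q) for an `A` which is exact modulo the kernel; **`PreQ.inp`** : `PreQ → InpQ`;
* **`Fr.preQ`** : `Out T V Z i X B` gives `PreQ` for `C_i` acting on `X`; **`Fr.inpQ`**, **`Fr.out_false`**,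
  **`Fr.ex_false`** : with `Two.Ext` only the second alternative of `Fr.ex` is left.
-/

set_option autoImplicit false
set_option linter.unusedSectionVars false

namespace Cfsg.Agent.Omega.KL.TwoZ

open Subgroup Cfsg Cfsg.Agent.Omega.MinPar
open Cfsg.Agent.ZN (o2 zc)
open Cfsg.Agent.ClassTwoFusion.Quad Cfsg.Agent.Omega.ML.MinFrame
open Cfsg.Agent.Omega.OM.KTwo (ne_add_one eq_add_one add_one_add_one le_normalizer_V le_V exists_mul_of_mem_sup)
open Cfsg.Agent.MinSimple.MinParabolic (IsMinPar)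
open Cfsg.Agent.Omega.NoFF.Basic (conj_conj mem_conj conj_le_iff comm_symm comm_mono Z_le_V V_le)
open Cfsg.Agent.ZN.ChoiceSit (Syl exists_syl syl_conj o2_le_syl syl_not_dvd)
open Cfsg.Agent.MinSimple.VModule (mem_zc zc_le normalizer_le_normalizer_zc le_o2
  o2_isPGroup o2_le zc_le_centralizer le_centralizer_zc le_normalizer_o2)
open Cfsg.Agent.Omega.TC.LemZ (card_eq le_norm_of norm_cent norm_inf)
open Cfsg.Agent.Omega.KL.Quo (norm_lift)
open Cfsg.Agent.Omega.KL.StarQ (InpQ)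
open Cfsg.Agent.Omega.KL.TwoS (Mx relIndex_anti relIndex_mono)
open scoped Pointwise

universe u v

/-- the input of THEOREM KL*(q) for `C` acting on `M`, with an `A` which is exact modulo the kernel -/
structure PreQ {C : Type u} [Group C] {M : Type v} [Group M] [MulDistribMulAction C M] (T A : Subgroup C)
    (Z Y : Subgroup M) : Prop where
  sq : ∀ m : M, m * m = 1
  two : IsPGroup 2 T
  syl : ¬ 2 ∣ T.index
  tZ : ∀ z ∈ Z, ∀ t ∈ T, t • z = z
  NZ : ∀ g ∈ normalizer (T : Set C), ∀ z ∈ Z, g • z ∈ Z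
  NY : ∀ g ∈ normalizer (T : Set C), ∀ w ∈ Y, g • w ∈ Y
  cY : ∀ w ∈ Y, (∀ t ∈ T, t • w = w) → ∀ g : C, g • w = w
  par : ∀ P : Subgroup C, IsMinPar T P → (∀ z ∈ Z, ∀ p ∈ P, p • z = z) ∨
    ∀ g ∈ P, Odd (orderOf g) → ∀ w ∈ Y, g • w = w
  el : ∀ a ∈ A, a * a = 1
  AZ : A ≤ o2 (fxr C Z)
  AY : A ≤ o2 (fxr C Y ⊔ T)
  /-- `A` is faithful on `⟨Z^C⟩` modulo the kernel -/
  nk : ∀ a ∈ A, (∀ (c : C), ∀ z ∈ Z, a • c • z = c • z) → ∀ m : M, a • m = m
  mv : ∃ a ∈ A, ∃ m : M, a • m ≠ m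
  no : ∀ B : Subgroup C, B ≤ A → (fxr C (⊤ : Subgroup M)).relIndex B ≤ (cv M (B : Set C)).index
  le : (cv M (A : Set C)).index ≤ (fxr C (⊤ : Subgroup M)).relIndex A
  KC : IsKGroup C

/-- the elements of odd order lift -/
theorem exists_odd {C H : Type*} [Group C] [Finite C] [Group H] (π : C →* H) {P : Subgroup C} {g : H}
    (hg : g ∈ P.map π) (ho : Odd (orderOf g)) : ∃ c ∈ P, Odd (orderOf c) ∧ π c = g := by
  obtain ⟨c, hc, rfl⟩ := hg
  obtain ⟨k, m, hm, hcm⟩ := Nat.exists_eq_two_pow_mul_odd (n := orderOf c) (orderOf_pos c).ne'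
  have hcop : Nat.Coprime (2 ^ k) (orderOf (π c)) := Nat.Coprime.pow_left k (Nat.coprime_two_left.2 ho)
  obtain ⟨n, hn1, hn2⟩ := Nat.chineseRemainder hcop 0 1
  refine ⟨c ^ n, pow_mem hc n, ?_, ?_⟩
  · have h1 : 2 ^ k ∣ n := (Nat.modEq_zero_iff_dvd).1 hn1
    obtain ⟨l, rfl⟩ := h1
    refine Odd.of_dvd_nat hm (orderOf_dvd_of_pow_eq_one ?_)
    rw [← pow_mul, mul_comm (2 ^ k) l, mul_assoc, ← hcm, mul_comm, pow_mul, pow_orderOf_eq_one, one_pow]
  · rw [map_pow]
    conv_rhs => rw [← pow_one (π c)]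
    exact pow_eq_pow_iff_modEq.2 hn2

section pre

variable {C : Type u} [Group C] [Finite C] {M : Type v} [Group M] [Finite M] [MulDistribMulAction C M]
  {T A : Subgroup C} {Z Y : Subgroup M}

theorem PreQ.inp (h : PreQ T A Z Y) :
    ∃ (H : Type u) (_ : Group H) (_ : Finite H) (_ : MulDistribMulAction H M) (T' A' : Subgroup H),
      InpQ T' A' Z Y := by
  have htriv : ∀ k ∈ fxr C (⊤ : Subgroup M), ∀ m : M, k • m = m := fun k hk m => hk m (mem_top m)
  have hN : (fxr C (⊤ : Subgroup M)).Normal := fxr_normal fun _ _ _ => mem_top _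
  set N := fxr C (⊤ : Subgroup M) with hNdef
  let _ : MulDistribMulAction (C ⧸ N) M := quoAct N htriv
  let π : C →* C ⧸ N := QuotientGroup.mk' N
  have hπ : Function.Surjective π := QuotientGroup.mk'_surjective N
  have he : ∀ (g : C) (v : M), π g • v = g • v := fun _ _ => rfl
  have hker : ∀ k : C, (∀ v : M, k • v = v) → π k = 1 := fun k hk =>
    (QuotientGroup.eq_one_iff k).2 fun v _ => hk v
  have hker2 : ∀ k : C, π k = 1 → ∀ v : M, k • v = v := fun k hk v =>
    (QuotientGroup.eq_one_iff k).1 hk v (mem_top v)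
  -- stabilisers
  have hfx : ∀ Y' : Subgroup M, (fxr C Y').map π = fxr (C ⧸ N) Y' := by
    intro Y'
    ext g
    constructor
    · rintro ⟨c, hc, rfl⟩
      exact hc
    · intro hg
      obtain ⟨c, rfl⟩ := hπ g
      exact ⟨c, hg, rfl⟩
  have ho2 : ∀ S : Subgroup C, A ≤ o2 S → A.map π ≤ o2 (S.map π) := by
    intro S hS
    refine (map_mono hS).trans (le_o2 (map_mono (o2_le _)) ((o2_isPGroup _).map π) ?_)
    exact (map_mono (le_normalizer_o2 _)).trans (le_normalizer_map π)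
  have hx : A.map π ≤ o2 (fxr (C ⧸ N) Z) := by
    rw [← hfx]
    exact ho2 _ h.AZ
  have hy : A.map π ≤ o2 (fxr (C ⧸ N) Y ⊔ T.map π) := by
    rw [← hfx, ← Subgroup.map_sup]
    exact ho2 _ h.AY
  have hsyl : ¬ 2 ∣ (T.map π).index := fun h2 => h.syl (h2.trans (index_map_dvd T hπ))
  have hKH : IsKGroup (C ⧸ N) := ML.Final.sec_KG.quo C h.KC N
  have hel : ∀ a ∈ A.map π, a * a = 1 := by
    rintro _ ⟨a, ha, rfl⟩
    rw [← map_mul, h.el a ha, map_one]
  -- `A.map π` is faithful on `⟨Z^C⟩`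
  have hfa : ∀ g ∈ A.map π, (∀ (c : C ⧸ N), ∀ z ∈ Z, g • c • z = c • z) → g = 1 := by
    rintro _ ⟨a, ha, rfl⟩ hg
    exact hker a (h.nk a ha fun c z hz => hg (π c) z hz)
  -- (NO)
  have hcv : ∀ B : Subgroup C, cv M (B.map π : Set (C ⧸ N)) = cv M (B : Set C) := by
    intro B
    ext v
    constructor
    · exact fun hv a ha => hv _ ⟨a, ha, rfl⟩
    · rintro hv _ ⟨a, ha, rfl⟩
      exact hv a ha
  have hcard : ∀ B : Subgroup C, Nat.card (B.map π) = N.relIndex B := by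
    intro B
    rw [← relIndex_bot_left, ← relIndex_comap, MonoidHom.comap_bot, QuotientGroup.ker_mk']
  have hno : ∀ B : Subgroup (C ⧸ N), B ≤ A.map π → Nat.card B ≤ (cv M (B : Set (C ⧸ N))).index := by
    intro B hB
    have e : (A ⊓ B.comap π).map π = B := by
      apply le_antisymm
      · rintro _ ⟨a, ha, rfl⟩
        exact ha.2
      · intro g hg
        obtain ⟨a, ha, rfl⟩ := hB hg
        exact ⟨a, ⟨ha, hg⟩, rfl⟩
    rw [← e, hcv, hcard]
    exact h.no _ inf_le_left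
  have hex : (cv M (A.map π : Set (C ⧸ N))).index = Nat.card (A.map π) := by
    refine le_antisymm ?_ (hno _ le_rfl)
    rw [hcv, hcard]
    exact h.le
  have hA1 : A.map π ≠ ⊥ := by
    intro h1
    obtain ⟨a, ha, m, hm⟩ := h.mv
    apply hm
    refine hker2 a ?_ m
    rw [← mem_bot, ← h1]
    exact ⟨a, ha, rfl⟩
  -- an atom
  obtain ⟨B, ⟨hBA, hB1, hBe⟩, hmin⟩ : ∃ B : Subgroup (C ⧸ N), (B ≤ A.map π ∧ B ≠ ⊥ ∧
      (cv M (B : Set (C ⧸ N))).index = Nat.card B) ∧ ∀ B' : Subgroup (C ⧸ N), (B' ≤ A.map π ∧ B' ≠ ⊥ ∧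
      (cv M (B' : Set (C ⧸ N))).index = Nat.card B') → B' ≤ B → B' = B := by
    obtain ⟨B, hB⟩ := (Set.toFinite {B : Subgroup (C ⧸ N) | B ≤ A.map π ∧ B ≠ ⊥ ∧
      (cv M (B : Set (C ⧸ N))).index = Nat.card B}).exists_minimal ⟨A.map π, le_rfl, hA1, hex⟩
    exact ⟨B, hB.prop, fun B' hB' hle => le_antisymm hle (hB.le_of_le hB' hle)⟩
  have htZ : ∀ z ∈ Z, ∀ t ∈ T.map π, t • z = z := by
    rintro z hz _ ⟨t, ht, rfl⟩
    exact h.tZ z hz t ht
  refine ⟨C ⧸ N, inferInstance, inferInstance, inferInstance, T.map π, B, ?_⟩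
  refine ⟨h.sq, h.two.map π, hsyl, htZ, ?_, ?_, ?_, ?_, fun a ha => hel a (hBA ha), hBe, ?_, ?_, hBA.trans hx,
    hBA.trans hy, hKH⟩
  · intro g hg z hz
    obtain ⟨t, ht, n, hn, rfl⟩ := norm_lift π hπ h.two h.syl hg
    rw [he, mul_smul]
    exact h.NZ t (le_normalizer ht) _ (h.NZ n hn z hz)
  · intro g hg z hz
    obtain ⟨t, ht, n, hn, rfl⟩ := norm_lift π hπ h.two h.syl hg
    rw [he, mul_smul]
    exact h.NY t (le_normalizer ht) _ (h.NY n hn z hz)
  · intro w hw hwT g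
    obtain ⟨c, rfl⟩ := hπ g
    exact h.cY w hw (fun t ht => hwT (π t) ⟨t, ht, rfl⟩) c
  · intro P hP
    obtain ⟨R, hR, rfl⟩ := Quo.exists_minPar π hπ hP
    rcases h.par R hR with h1 | h1
    · left
      rintro z hz _ ⟨r, hr, rfl⟩
      exact h1 z hz r hr
    · right
      intro g hg hog w hw
      obtain ⟨c, hc, hco, rfl⟩ := exists_odd π hg hog
      exact h1 c hc hco w hw
  · intro B' hB' hB1' hne
    refine lt_of_le_of_ne (hno B' (hB'.trans hBA)) fun h1 => hne ?_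
    exact hmin B' ⟨hB'.trans hBA, hB1', h1.symm⟩ hB'
  · -- `O₂(H)` centralises `⟨Z^H⟩`
    intro hle
    apply hB1
    rw [eq_bot_iff]
    intro b hb
    rw [mem_bot]
    refine hfa b (hBA hb) fun c z hz => ?_
    have h1 : c⁻¹ * b * c ∈ o2 (⊤ : Subgroup (C ⧸ N)) := by
      have := (mem_normalizer_iff.1 (le_normalizer_o2 (⊤ : Subgroup (C ⧸ N)) (mem_top c⁻¹)) b).1 (hle hb)
      rwa [inv_inv] at this
    have h2 : o2 (⊤ : Subgroup (C ⧸ N)) ≤ T.map π :=
      Cfsg.Agent.MinSimple.VModule.o2_le_of_sylow (h.two.map π) (by rwa [relIndex_top_right])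
    have h3 := htZ z hz _ (h2 h1)
    rw [mul_smul, mul_smul, inv_smul_eq_iff] at h3
    exact h3

end pre

/-- conjugation -/
abbrev actX {G : Type u} [Group G] {C X : Subgroup G} (h : C ≤ normalizer (X : Set G)) : MulDistribMulAction C X where
  smul c x := ⟨c * x * (c : G)⁻¹, (mem_normalizer_iff.1 (h c.2) x).1 x.2⟩
  one_smul x := Subtype.ext (by change ((1 : C) : G) * x * ((1 : C) : G)⁻¹ = x; simp)
  mul_smul a b x := Subtype.ext (by
    change ((a * b : C) : G) * x * ((a * b : C) : G)⁻¹ = a * (b * x * (b : G)⁻¹) * (a : G)⁻¹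
    push_cast; group)
  smul_mul c x y := Subtype.ext (by
    change (c : G) * ((x * y : X) : G) * (c : G)⁻¹ = (c * x * (c : G)⁻¹) * (c * y * (c : G)⁻¹)
    push_cast; group)
  smul_one c := Subtype.ext (by change (c : G) * ((1 : X) : G) * (c : G)⁻¹ = ((1 : X) : G); simp)

namespace Fr

variable {G : Type u} [Group G] [Finite G] {T : Subgroup G} {V Z : Fin 2 → Subgroup G}

theorem preQ (hML : ML.Final.MLK.{u, u}) (D : Fr T V Z) {i : Fin 2} {X B : Subgroup G} (hK : IsKGroup (CC Z i))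
    (O : Out T V Z i X B) :
    letI := actX O.CX
    PreQ (T.subgroupOf (CC Z i)) (B.subgroupOf (CC Z i)) ((Z (i + 1)).subgroupOf X) ((V i).subgroupOf X) := by
  let := actX O.CX
  change PreQ (T.subgroupOf (CC Z i)) (B.subgroupOf (CC Z i)) ((Z (i + 1)).subgroupOf X) ((V i).subgroupOf X)
  have hBC : B ≤ CC Z i := O.BO.trans (D.O_le_T.trans (D.T_le_C i))
  have hZN : Z (i + 1) ≤ NN Z i := le_V _ _
  have hZX : Z (i + 1) ≤ X := hZN.trans O.NX
  have hsm : ∀ (c : CC Z i) (m : X), ((c • m : X) : G) = c * m * (c : G)⁻¹ := fun _ _ => rfl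
  have hfix : ∀ (c : CC Z i) (m : X), c • m = m ↔ (m : G) * c = c * m := by
    intro c m
    rw [Subtype.ext_iff, hsm, mul_inv_eq_iff_eq_mul, eq_comm]
  have hnrm : ∀ (Y : Subgroup G) (c : CC Z i), (c : G) ∈ normalizer (Y : Set G) → ∀ m ∈ Y.subgroupOf X,
      c • m ∈ Y.subgroupOf X := by
    intro Y c hc m hm
    refine mem_subgroupOf.2 ?_
    rw [hsm]
    exact (mem_normalizer_iff.1 hc _).1 (mem_subgroupOf.1 hm)
  have hfxr : ∀ Y : Subgroup G, Y ≤ X → fxr (CC Z i) (Y.subgroupOf X) = (centralizer (Y : Set G)).subgroupOf (CC Z i) := by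
    intro Y hY
    ext c
    rw [mem_subgroupOf, mem_centralizer_iff]
    constructor
    · intro h y hy
      exact (hfix c ⟨y, hY hy⟩).1 (h _ (mem_subgroupOf.2 hy))
    · intro h y hy
      exact (hfix c y).2 (h _ (mem_subgroupOf.1 hy))
  have hfxt : fxr (CC Z i) (⊤ : Subgroup X) = (centralizer (X : Set G)).subgroupOf (CC Z i) := by
    rw [← hfxr X le_rfl, subgroupOf_self]
  have hnT : ∀ g : CC Z i, g ∈ normalizer ((T.subgroupOf (CC Z i) : Subgroup (CC Z i)) : Set (CC Z i)) →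
      (g : G) ∈ CC Z i ⊓ normalizer (T : Set G) := by
    intro g hg
    refine mem_inf.2 ⟨g.2, ?_⟩
    rw [mem_normalizer_iff]
    intro t
    constructor
    · intro ht
      exact (mem_normalizer_iff.1 hg ⟨t, D.T_le_C i ht⟩).1 ht
    · intro ht
      have h1 : (g : G)⁻¹ * ((g : G) * t * (g : G)⁻¹) * (g : G)⁻¹⁻¹ ∈ T :=
        (mem_normalizer_iff.1 (inv_mem hg) ⟨(g : G) * t * (g : G)⁻¹, D.T_le_C i ht⟩).1 ht
      have e : (g : G)⁻¹ * ((g : G) * t * (g : G)⁻¹) * (g : G)⁻¹⁻¹ = t := by group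
      rwa [e] at h1
  have hcv : ∀ A : Subgroup (CC Z i), (cv X (A : Set (CC Z i))).index =
      (centralizer ((A.map (CC Z i).subtype : Subgroup G) : Set G)).relIndex X := by
    intro A
    change _ = ((centralizer ((A.map (CC Z i).subtype : Subgroup G) : Set G)).subgroupOf X).index
    congr 1
    ext m
    rw [mem_subgroupOf, mem_centralizer_iff]
    constructor
    · rintro hm _ ⟨a, ha, rfl⟩
      exact ((hfix a m).1 (hm a ha)).symm
    · intro hm a ha
      exact (hfix a m).2 (hm a ⟨a, ha, rfl⟩).symm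
  refine ⟨?_, ?_, ?_, ?_, ?_, ?_, ?_, ?_, ?_, ?_, ?_, ?_, ?_, ?_, ?_, hK⟩
  · intro m
    apply Subtype.ext
    have h := O.sqX m m.2
    rw [pow_two] at h
    exact h
  · exact D.T_isPGroup.comap_of_injective (CC Z i).subtype (CC Z i).subtype_injective
  · exact syl_not_dvd (D.syl i)
  · intro z hz t ht
    rw [hfix]
    exact mem_centralizer_iff.1 (D.T_le_C (i + 1) (mem_subgroupOf.1 ht)) z (mem_subgroupOf.1 hz)
  · exact fun g hg => hnrm _ g (D.nT i (hnT g hg)).1.1
  · exact fun g hg => hnrm _ g (D.nT i (hnT g hg)).1.2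
  · intro w hw hwT g
    rw [hfix]
    have h1 : (w : G) ∈ centralizer (T : Set G) := by
      rw [mem_centralizer_iff]
      intro t ht
      exact ((hfix ⟨t, D.T_le_C i ht⟩ w).1 (hwT _ (mem_subgroupOf.2 ht))).symm
    exact mem_centralizer_iff.1 g.2 w (D.cV i w (mem_subgroupOf.1 hw) h1)
  · intro P hP
    have hR := Plug.minPar_map (D.T_le_C i) hP
    have hRC : P.map (CC Z i).subtype ≤ CC Z i := map_subtype_le P
    by_cases hRm : P.map (CC Z i).subtype ≤ CC Z (i + 1)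
    · left
      intro z hz p hp
      rw [hfix]
      exact mem_centralizer_iff.1 (hRm (mem_map_of_mem (CC Z i).subtype hp)) z (mem_subgroupOf.1 hz)
    · right
      intro g hg hog w hw
      have h1 := D.odd (i + 1) i (ne_add_one i).symm _ hR hRC hRm g (mem_map_of_mem (CC Z i).subtype hg)
        (by rwa [orderOf_coe])
      rw [hfix]
      exact mem_centralizer_iff.1 h1 w (mem_subgroupOf.1 hw)
  · intro a ha
    apply Subtype.ext
    have h := O.sqB a (mem_subgroupOf.1 ha)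
    rw [pow_two] at h
    exact h
  · refine Plug.sub_o2 (S := centralizer (zc T : Set G)) (fun c => ?_) O.BO
    rw [hfxr _ hZX, mem_subgroupOf]
    constructor
    · exact fun h => D.mem_D c.2 h
    · exact fun h => D.cent_zc_le (i + 1) h
  · refine Plug.sub_o2 (S := HH T V i) (fun c => ?_) O.BH
    rw [hfxr (V i) O.VX, ← subgroupOf_sup (D.cent_V_le i) (D.T_le_C i), mem_subgroupOf]
  · intro a ha hc m
    have h1 : (a : G) ∈ centralizer (NN Z i : Set G) := by
      have h2 : NN Z i ≤ centralizer ({(a : G)} : Set G) := by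
        refine V_le fun c hc' z hz => ?_
        rw [mem_conj] at hz
        rw [mem_centralizer_singleton_iff]
        have h3 := hc ⟨c, hc'⟩ ⟨c⁻¹ * z * c, hZX hz⟩ (mem_subgroupOf.2 hz)
        rw [hfix] at h3
        have e : (((⟨c, hc'⟩ : CC Z i) • (⟨c⁻¹ * z * c, hZX hz⟩ : X) : X) : G) = z := by
          rw [hsm]
          change c * (c⁻¹ * z * c) * c⁻¹ = z
          group
        rw [e] at h3
        exact h3
      rw [mem_centralizer_iff]
      exact fun x hx => mem_centralizer_singleton_iff.1 (h2 hx)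
    rw [hfix]
    exact mem_centralizer_iff.1 (O.ker ⟨mem_subgroupOf.1 ha, h1⟩) m m.2
  · by_contra hc
    push Not at hc
    apply O.mv
    intro b hb
    rw [mem_centralizer_iff]
    intro x hx
    have h1 := hc ⟨b, hBC hb⟩ (mem_subgroupOf.2 hb) ⟨x, O.NX hx⟩
    exact (hfix _ _).1 h1
  · intro A hA
    have hAB : A.map (CC Z i).subtype ≤ B := by
      rintro _ ⟨a, ha, rfl⟩
      exact mem_subgroupOf.1 (hA ha)
    have h1 := D.no_N hML hK (hAB.trans O.BO) (fun b hb => O.sqB b (hAB hb))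
    have e1 : (fxr (CC Z i) (⊤ : Subgroup X)).relIndex A =
        (centralizer (X : Set G)).relIndex (A.map (CC Z i).subtype) := by
      rw [hfxt, subgroupOf, relIndex_comap]
    rw [e1, hcv]
    have h2 : (centralizer (X : Set G)).relIndex (A.map (CC Z i).subtype) ≤
        (centralizer (NN Z i : Set G)).relIndex (A.map (CC Z i).subtype) := by
      rw [← inf_relIndex_left (A.map (CC Z i).subtype) (centralizer (NN Z i : Set G)),
        ← inf_relIndex_left (A.map (CC Z i).subtype) (centralizer (X : Set G))]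
      exact relIndex_anti (le_inf inf_le_left ((inf_le_inf_right _ hAB).trans O.ker))
    exact h2.trans (h1.trans (relIndex_mono O.NX))
  · rw [hcv, hfxt, relIndex_subgroupOf hBC]
    have e : (B.subgroupOf (CC Z i)).map (CC Z i).subtype = B := by
      rw [subgroupOf_map_subtype, inf_eq_left.2 hBC]
    rw [e]
    exact O.ex.trans (relIndex_anti (centralizer_le O.NX))

/-- **the input of THEOREM KL*(q)** -/
theorem inpQ (hML : ML.Final.MLK.{u, u}) (D : Fr T V Z) {i : Fin 2} {X B : Subgroup G} (hK : IsKGroup (CC Z i))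
    (O : Out T V Z i X B) :
    ∃ (H M : Type u) (_ : Group H) (_ : Finite H) (_ : Group M) (_ : Finite M) (_ : MulDistribMulAction H M)
      (T' A' : Subgroup H) (Z' Y' : Subgroup M), InpQ T' A' Z' Y' := by
  let := actX O.CX
  obtain ⟨H, _, _, _, T', A', h⟩ := (D.preQ hML hK O).inp
  exact ⟨H, X, inferInstance, inferInstance, inferInstance, inferInstance, inferInstance, T', A', _, _, h⟩

/-- **EX + KL*(q)** -/
theorem out_false (hML : ML.Final.MLK.{u, u}) (hE : ML.Ex.Two.Ext.{u, u}) (D : Fr T V Z) {i : Fin 2}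
    {X B : Subgroup G} (hK : IsKGroup (CC Z i)) (O : Out T V Z i X B) : False := by
  obtain ⟨H, M, _, _, _, _, _, T', A', Z', Y', h⟩ := D.inpQ hML hK O
  exact h.false_of hML hE

/-- **#22505 (II), any centres**: only 'not FAIL, `V i ≰ N_i`, `J(O)` moves `V i`, on both sides' is left -/
theorem ex_false (hML : ML.Final.MLK.{u, u}) (hE : ML.Ex.Two.Ext.{u, u}) (D : Fr T V Z)
    (hK : ∀ i, IsKGroup (CC Z i)) : ∀ i, ¬ Fail T V Z i ∧ ¬ V i ≤ NN Z i ∧
      ∃ A : Subgroup G, Mx (o2 (centralizer (zc T : Set G))) A ∧ ¬ A ≤ centralizer (V i : Set G) := by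
  rcases D.ex hML hK with ⟨i, X, B, O⟩ | h
  · exact (D.out_false hML hE (hK i) O).elim
  · exact h

end Fr

end Cfsg.Agent.Omega.KL.TwoZ
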