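import Cfsg.Agent.Mrg.Omega.KL.TwoZ.FrN
import Cfsg.Agent.Mrg.Omega.KL.TwoZ.GThree
import Cfsg.Agent.Mrg.Omega.NO3S.EMany.LowExt

section


/-!
# THEOREM G* (bb #24006 (3), #24444 (B), (F4)) with a `C_i`-invariant `Z i ≤ E ≤ V i` (`Z i` or a line)

* `PreY`, **`PreY.inp`** : the input of THEOREM KL*(q) with `N_H(T)`-fixed vectors;
* `FrE T V Z i E` : the frame; `FrE.no_E` : (NO) on `N_i E / E`; `FrE.le_E` : exactness on `N_i E / E`;
* `KE V Z i E = C_{C(E)}(X_i / N_i E)`; `FrE.exists_fix` : the vectors `w₀`;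
* **`FrE.g1`** : `A ≤ C_G(E)` a 2-group, `[X_i, A] ≤ N_i E` : `[N_i, A] = 1`; **`FrN.gOne`** : the case `E = Z i`.
-/

set_option autoImplicit false
set_option linter.unusedSectionVars false

namespace Cfsg.Agent.Omega.KL.TwoZ

open Subgroup Cfsg Cfsg.Agent.Omega.MinPar
open Cfsg.Agent.ZN (o2 zc)
open Cfsg.Agent.ClassTwoFusion.Quad Cfsg.Agent.Omega.ML.MinFrame
open Cfsg.Agent.Omega.OM.KTwo (ne_add_one eq_add_one add_one_add_one le_normalizer_V le_V exists_mul_of_mem_sup)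
open Cfsg.Agent.MinSimple.MinParabolic (IsMinPar)
open Cfsg.Agent.Omega.NoFF.Basic (conj_conj mem_conj conj_le_iff comm_symm comm_mono Z_le_V V_le)
open Cfsg.Agent.ZN.ChoiceSit (Syl exists_syl syl_conj o2_le_syl syl_not_dvd)
open Cfsg.Agent.MinSimple.VModule (mem_zc zc_le normalizer_le_normalizer_zc le_o2
  o2_isPGroup o2_le zc_le_centralizer le_centralizer_zc le_normalizer_o2)
open Cfsg.Agent.Omega.TC (kgroup_mono)
open Cfsg.Agent.Omega.TC.LemZ (card_eq le_norm_of norm_cent norm_inf)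
open Cfsg.Agent.Omega.KL.Quo (norm_lift)
open Cfsg.Agent.Omega.KL.StarQ (InpY)
open Cfsg.Agent.Omega.KL.TwoS (Mx relIndex_anti relIndex_mono relIndex_le_of_sup)
open Cfsg.Agent.Omega.ML.Final (conjAct)
open scoped Pointwise

universe u v

/-- the input of THEOREM KL*(q), `N_C(T)` fixes `Y` pointwise -/
structure PreY {C : Type u} [Group C] {M : Type v} [Group M] [MulDistribMulAction C M] (T A : Subgroup C)
    (Z Y : Subgroup M) : Prop where
  sq : ∀ m : M, m * m = 1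
  two : IsPGroup 2 T
  syl : ¬ 2 ∣ T.index
  tZ : ∀ z ∈ Z, ∀ t ∈ T, t • z = z
  NZ : ∀ g ∈ normalizer (T : Set C), ∀ z ∈ Z, g • z ∈ Z
  NY : ∀ g ∈ normalizer (T : Set C), ∀ w ∈ Y, g • w = w
  par : ∀ P : Subgroup C, IsMinPar T P → (∀ z ∈ Z, ∀ p ∈ P, p • z = z) ∨
    ∀ g ∈ P, Odd (orderOf g) → ∀ w ∈ Y, g • w = w
  el : ∀ a ∈ A, a * a = 1
  AZ : A ≤ o2 (fxr C Z)
  AY : A ≤ o2 (fxr C Y ⊔ T)
  /-- `A` is faithful on `⟨Z^C⟩` modulo the kernel -/
  nk : ∀ a ∈ A, (∀ (c : C), ∀ z ∈ Z, a • c • z = c • z) → ∀ m : M, a • m = m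
  mv : ∃ a ∈ A, ∃ m : M, a • m ≠ m
  no : ∀ B : Subgroup C, B ≤ A → (fxr C (⊤ : Subgroup M)).relIndex B ≤ (cv M (B : Set C)).index
  le : (cv M (A : Set C)).index ≤ (fxr C (⊤ : Subgroup M)).relIndex A
  KC : IsKGroup C

section pre

variable {C : Type u} [Group C] [Finite C] {M : Type v} [Group M] [Finite M] [MulDistribMulAction C M]
  {T A : Subgroup C} {Z Y : Subgroup M}

theorem PreY.inp (h : PreY T A Z Y) :
    ∃ (H : Type u) (_ : Group H) (_ : Finite H) (_ : MulDistribMulAction H M) (T' A' : Subgroup H),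
      InpY T' A' Z Y := by
  have htriv : ∀ k ∈ fxr C (⊤ : Subgroup M), ∀ m : M, k • m = m := fun k hk m => hk m (mem_top m)
  have hN : (fxr C (⊤ : Subgroup M)).Normal := fxr_normal fun _ _ _ => mem_top _
  set N := fxr C (⊤ : Subgroup M) with hNdef
  let _ : MulDistribMulAction (C ⧸ N) M := quoAct N htriv
  let π : C →* C ⧸ N := QuotientGroup.mk' N
  have hπ : Function.Surjective π := QuotientGroup.mk'_surjective N
  have he : ∀ (g : C) (v : M), π g • v = g • v := fun _ _ => rfl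
  have hker : ∀ k : C, (∀ v : M, k • v = v) → π k = 1 := fun k hk =>
    (QuotientGroup.eq_one_iff k).2 fun v _ => hk v
  have hker2 : ∀ k : C, π k = 1 → ∀ v : M, k • v = v := fun k hk v =>
    (QuotientGroup.eq_one_iff k).1 hk v (mem_top v)
  -- stabilisers
  have hfx : ∀ Y' : Subgroup M, (fxr C Y').map π = fxr (C ⧸ N) Y' := by
    intro Y'
    ext g
    constructor
    · rintro ⟨c, hc, rfl⟩
      exact hc
    · intro hg
      obtain ⟨c, rfl⟩ := hπ g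
      exact ⟨c, hg, rfl⟩
  have ho2 : ∀ S : Subgroup C, A ≤ o2 S → A.map π ≤ o2 (S.map π) := by
    intro S hS
    refine (map_mono hS).trans (le_o2 (map_mono (o2_le _)) ((o2_isPGroup _).map π) ?_)
    exact (map_mono (le_normalizer_o2 _)).trans (le_normalizer_map π)
  have hx : A.map π ≤ o2 (fxr (C ⧸ N) Z) := by
    rw [← hfx]
    exact ho2 _ h.AZ
  have hy : A.map π ≤ o2 (fxr (C ⧸ N) Y ⊔ T.map π) := by
    rw [← hfx, ← Subgroup.map_sup]
    exact ho2 _ h.AY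
  have hsyl : ¬ 2 ∣ (T.map π).index := fun h2 => h.syl (h2.trans (index_map_dvd T hπ))
  have hKH : IsKGroup (C ⧸ N) := ML.Final.sec_KG.quo C h.KC N
  have hel : ∀ a ∈ A.map π, a * a = 1 := by
    rintro _ ⟨a, ha, rfl⟩
    rw [← map_mul, h.el a ha, map_one]
  -- `A.map π` is faithful on `⟨Z^C⟩`
  have hfa : ∀ g ∈ A.map π, (∀ (c : C ⧸ N), ∀ z ∈ Z, g • c • z = c • z) → g = 1 := by
    rintro _ ⟨a, ha, rfl⟩ hg
    exact hker a (h.nk a ha fun c z hz => hg (π c) z hz)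
  -- (NO)
  have hcv : ∀ B : Subgroup C, cv M (B.map π : Set (C ⧸ N)) = cv M (B : Set C) := by
    intro B
    ext v
    constructor
    · exact fun hv a ha => hv _ ⟨a, ha, rfl⟩
    · rintro hv _ ⟨a, ha, rfl⟩
      exact hv a ha
  have hcard : ∀ B : Subgroup C, Nat.card (B.map π) = N.relIndex B := by
    intro B
    rw [← relIndex_bot_left, ← relIndex_comap, MonoidHom.comap_bot, QuotientGroup.ker_mk']
  have hno : ∀ B : Subgroup (C ⧸ N), B ≤ A.map π → Nat.card B ≤ (cv M (B : Set (C ⧸ N))).index := by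
    intro B hB
    have e : (A ⊓ B.comap π).map π = B := by
      apply le_antisymm
      · rintro _ ⟨a, ha, rfl⟩
        exact ha.2
      · intro g hg
        obtain ⟨a, ha, rfl⟩ := hB hg
        exact ⟨a, ⟨ha, hg⟩, rfl⟩
    rw [← e, hcv, hcard]
    exact h.no _ inf_le_left
  have hex : (cv M (A.map π : Set (C ⧸ N))).index = Nat.card (A.map π) := by
    refine le_antisymm ?_ (hno _ le_rfl)
    rw [hcv, hcard]
    exact h.le
  have hA1 : A.map π ≠ ⊥ := by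
    intro h1
    obtain ⟨a, ha, m, hm⟩ := h.mv
    apply hm
    refine hker2 a ?_ m
    rw [← mem_bot, ← h1]
    exact ⟨a, ha, rfl⟩
  -- an atom
  obtain ⟨B, ⟨hBA, hB1, hBe⟩, hmin⟩ : ∃ B : Subgroup (C ⧸ N), (B ≤ A.map π ∧ B ≠ ⊥ ∧
      (cv M (B : Set (C ⧸ N))).index = Nat.card B) ∧ ∀ B' : Subgroup (C ⧸ N), (B' ≤ A.map π ∧ B' ≠ ⊥ ∧
      (cv M (B' : Set (C ⧸ N))).index = Nat.card B') → B' ≤ B → B' = B := by
    obtain ⟨B, hB⟩ := (Set.toFinite {B : Subgroup (C ⧸ N) | B ≤ A.map π ∧ B ≠ ⊥ ∧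
      (cv M (B : Set (C ⧸ N))).index = Nat.card B}).exists_minimal ⟨A.map π, le_rfl, hA1, hex⟩
    exact ⟨B, hB.prop, fun B' hB' hle => le_antisymm hle (hB.le_of_le hB' hle)⟩
  have htZ : ∀ z ∈ Z, ∀ t ∈ T.map π, t • z = z := by
    rintro z hz _ ⟨t, ht, rfl⟩
    exact h.tZ z hz t ht
  refine ⟨C ⧸ N, inferInstance, inferInstance, inferInstance, T.map π, B, ?_⟩
  refine ⟨h.sq, h.two.map π, hsyl, htZ, ?_, ?_, ?_, fun a ha => hel a (hBA ha), hBe, ?_, ?_, hBA.trans hx,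
    hBA.trans hy, hKH⟩
  · intro g hg z hz
    obtain ⟨t, ht, n, hn, rfl⟩ := norm_lift π hπ h.two h.syl hg
    rw [he, mul_smul]
    exact h.NZ t (le_normalizer ht) _ (h.NZ n hn z hz)
  · intro g hg z hz
    obtain ⟨t, ht, n, hn, rfl⟩ := norm_lift π hπ h.two h.syl hg
    rw [he, mul_smul, h.NY n hn z hz]
    exact h.NY t (le_normalizer ht) z hz
  · intro P hP
    obtain ⟨R, hR, rfl⟩ := Quo.exists_minPar π hπ hP
    rcases h.par R hR with h1 | h1
    · left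
      rintro z hz _ ⟨r, hr, rfl⟩
      exact h1 z hz r hr
    · right
      intro g hg hog w hw
      obtain ⟨c, hc, hco, rfl⟩ := exists_odd π hg hog
      exact h1 c hc hco w hw
  · intro B' hB' hB1' hne
    refine lt_of_le_of_ne (hno B' (hB'.trans hBA)) fun h1 => hne ?_
    exact hmin B' ⟨hB'.trans hBA, hB1', h1.symm⟩ hB'
  · -- `O₂(H)` centralises `⟨Z^H⟩`
    intro hle
    apply hB1
    rw [eq_bot_iff]
    intro b hb
    rw [mem_bot]
    refine hfa b (hBA hb) fun c z hz => ?_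
    have h1 : c⁻¹ * b * c ∈ o2 (⊤ : Subgroup (C ⧸ N)) := by
      have := (mem_normalizer_iff.1 (le_normalizer_o2 (⊤ : Subgroup (C ⧸ N)) (mem_top c⁻¹)) b).1 (hle hb)
      rwa [inv_inv] at this
    have h2 : o2 (⊤ : Subgroup (C ⧸ N)) ≤ T.map π :=
      Cfsg.Agent.MinSimple.VModule.o2_le_of_sylow (h.two.map π) (by rwa [relIndex_top_right])
    have h3 := htZ z hz _ (h2 h1)
    rw [mul_smul, mul_smul, inv_smul_eq_iff] at h3
    exact h3

end pre

variable {G : Type u} [Group G]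

/-- `{x ∈ W | [a, x] ∈ Y for a ∈ A}` -/
def tE (W Y : Subgroup G) (A : Set G) (hW : ∀ x ∈ W, ∀ y ∈ Y, x * y = y * x) : Subgroup G where
  carrier := {x | x ∈ W ∧ ∀ a ∈ A, a * x * a⁻¹ * x⁻¹ ∈ Y}
  one_mem' := ⟨one_mem _, fun a _ => by simp⟩
  mul_mem' := by
    rintro x y ⟨hx, hx'⟩ ⟨hy, hy'⟩
    refine ⟨mul_mem hx hy, fun a ha => ?_⟩
    have h1 := hW x hx _ (hy' a ha)
    have e : a * (x * y) * a⁻¹ * (x * y)⁻¹ = (a * x * a⁻¹) * (a * y * a⁻¹ * y⁻¹) * x⁻¹ := by group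
    have e2 : (a * x * a⁻¹) * (a * y * a⁻¹ * y⁻¹) * x⁻¹ = (a * x * a⁻¹ * x⁻¹) * (a * y * a⁻¹ * y⁻¹) := by
      calc (a * x * a⁻¹) * (a * y * a⁻¹ * y⁻¹) * x⁻¹ = (a * x * a⁻¹ * x⁻¹) * (x * (a * y * a⁻¹ * y⁻¹)) * x⁻¹ := by group
        _ = (a * x * a⁻¹ * x⁻¹) * (a * y * a⁻¹ * y⁻¹) := by rw [h1]; group
    rw [e, e2]
    exact mul_mem (hx' a ha) (hy' a ha)
  inv_mem' := by
    rintro x ⟨hx, hx'⟩
    refine ⟨inv_mem hx, fun a ha => ?_⟩
    have h1 := inv_mem (hx' a ha)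
    have h2 := hW x hx _ h1
    have e : a * x⁻¹ * a⁻¹ * x⁻¹⁻¹ = x⁻¹ * ((a * x * a⁻¹ * x⁻¹)⁻¹ * x) := by group
    rw [e, ← h2, inv_mul_cancel_left]
    exact h1

/-- **a fixed vector modulo `Y`**: the product of an odd orbit -/
theorem exists_fix_sec [Finite G] {C X Y N T : Subgroup G} (hX : C ≤ normalizer (X : Set G))
    (hY : C ≤ normalizer (Y : Set G)) (hXY : X ≤ normalizer (Y : Set G)) (YN : Y ≤ N)
    (sq : ∀ x ∈ X, x * x ∈ Y) (hT : ¬ 2 ∣ T.relIndex C) {w : G} (hw : w ∈ X)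
    (tw : ∀ t ∈ T, t * w * t⁻¹ * w⁻¹ ∈ Y) (hN : ∀ g ∈ C, g * w * g⁻¹ * w⁻¹ ∈ N) :
    ∃ w0 ∈ X, w0 * w⁻¹ ∈ N ∧ ∀ g ∈ C, g * w0 * g⁻¹ * w0⁻¹ ∈ Y := by
  have hNm : (Y.subgroupOf X).Normal := normal_subgroupOf_of_le_normalizer hXY
  let _ := conjAct hX hY
  let mk : X →* X ⧸ Y.subgroupOf X := QuotientGroup.mk' (Y.subgroupOf X)
  have hmk : Function.Surjective mk := QuotientGroup.mk'_surjective _
  have hsm : ∀ (g : C) (x : X) (hx : (g : G) * x * (g : G)⁻¹ ∈ X), g • mk x = mk ⟨(g : G) * x * (g : G)⁻¹, hx⟩ :=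
    fun _ _ _ => rfl
  have hmem : ∀ (g : C) (x : X), (g : G) * x * (g : G)⁻¹ ∈ X := fun g x =>
    (mem_normalizer_iff.1 (hX g.2) x).1 x.2
  have hone : ∀ x y : X, mk x = mk y ↔ (x : G) * (y : G)⁻¹ ∈ Y := by
    intro x y
    rw [← mul_inv_eq_one, ← map_inv, ← map_mul, ← MonoidHom.mem_ker, QuotientGroup.ker_mk']
    exact Iff.rfl
  have hfix : ∀ (g : C) (x : X), g • mk x = mk x ↔ (g : G) * x * (g : G)⁻¹ * (x : G)⁻¹ ∈ Y := by
    intro g x
    rw [hsm g x (hmem g x), hone]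
  obtain ⟨m0, h0, h1⟩ := Cfsg.Agent.Omega.NO3S.EMany.Low.exists_fix_coset (H := C) (M := X ⧸ Y.subgroupOf X)
    (T := T.subgroupOf C) (R := ⊤) (m := mk ⟨w, hw⟩) (I := (N.subgroupOf X).map mk)
    (by
      intro v
      obtain ⟨x, rfl⟩ := hmk v
      rw [← map_mul, ← map_one mk, hone]
      simpa using sq x x.2)
    (by rw [relIndex_top_right]; exact hT)
    (fun t ht => (hfix t _).2 (tw _ (mem_subgroupOf.1 ht)))
    (by
      intro g _
      rw [hsm g _ (hmem g _), ← map_inv, ← map_mul]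
      exact mem_map_of_mem mk (mem_subgroupOf.2 (hN g g.2)))
  obtain ⟨x0, rfl⟩ := hmk m0
  refine ⟨x0, x0.2, ?_, fun g hg => (hfix ⟨g, hg⟩ x0).1 (h0 ⟨g, hg⟩ (mem_top _))⟩
  rw [← map_inv, ← map_mul] at h1
  obtain ⟨n, hn, hne⟩ := h1
  have h2 := YN ((hone _ _).1 hne)
  have h3 := mem_subgroupOf.1 hn
  have e : (x0 : G) * w⁻¹ = ((n : G) * ((x0 * (⟨w, hw⟩ : X)⁻¹ : X) : G)⁻¹)⁻¹ * n := by
    push_cast
    group
  rw [e]
  exact mul_mem (inv_mem h2) h3

/-- **the frame of THEOREM G*** with a `C_i`-invariant `Z i ≤ E ≤ V i` -/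
structure FrE [Finite G] (T : Subgroup G) (V Z : Fin 2 → Subgroup G) (i : Fin 2) (E : Subgroup G) : Prop where
  fr : Fr T V Z
  ZE : Z i ≤ E
  EV : E ≤ V i
  CE : CC Z i ≤ normalizer (E : Set G)
  sep : ∀ c ∈ CC Z i, ∀ m ∈ Z (i + 1), c * m * c⁻¹ * m⁻¹ ∈ E → c * m * c⁻¹ = m
  dis : V i ⊓ (NN Z i ⊔ E) ≤ E
  fix : ∀ c ∈ centralizer (E : Set G), (∀ w ∈ V i, (∀ t ∈ T, t * w * t⁻¹ * w⁻¹ ∈ E) → c * w * c⁻¹ * w⁻¹ ∈ E) →
    c ∈ HH T V i
  lem0 : ∀ K A : Subgroup G, K ≤ CC Z i → CC Z i ≤ normalizer (K : Set G) → A ≤ K → IsPGroup 2 A →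
    ¬ A ≤ centralizer (NN Z i : Set G) → NN Z i ≤ NH Z i K

namespace FrE

variable [Finite G] {T E : Subgroup G} {V Z : Fin 2 → Subgroup G} {i : Fin 2} (D : FrE T V Z i E)

include D

theorem E_le_X : E ≤ XX V Z i := (D.EV.trans (le_V _ _)).trans le_sup_left

theorem NE_le_X : NN Z i ⊔ E ≤ XX V Z i := sup_le le_sup_right D.E_le_X

theorem X_le_C : XX V Z i ≤ CC Z i := ((D.fr.X_facts i).1.trans (D.fr.Q_le_T i)).trans (D.fr.T_le_C i)

theorem X_sq : ∀ x ∈ XX V Z i, x ^ 2 = 1 := (D.fr.X_facts i).2.1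

theorem X_comm {x y : G} (hx : x ∈ XX V Z i) (hy : y ∈ XX V Z i) : x * y = y * x :=
  mem_centralizer_iff.1 (Cfsg.Agent.Omega.KL.TwoS.comm_of_sq D.X_sq hy) x hx

theorem XE : ∀ x ∈ XX V Z i, ∀ y ∈ E, x * y = y * x := fun _ hx _ hy => D.X_comm hx (D.E_le_X hy)

theorem C_norm_X : CC Z i ≤ normalizer (XX V Z i : Set G) := (D.fr.X_facts i).2.2.1

theorem X_norm_E : XX V Z i ≤ normalizer (E : Set G) := D.X_le_C.trans D.CE

theorem conj_E {c e : G} (hc : c ∈ CC Z i) (he : e ∈ E) : c * e * c⁻¹ ∈ E := (mem_normalizer_iff.1 (D.CE hc) e).1 he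

theorem C_norm_NE : CC Z i ≤ normalizer ((NN Z i ⊔ E : Subgroup G) : Set G) := by
  refine le_norm_of fun c hc x hx => ?_
  obtain ⟨n, hn, e, he, rfl⟩ := exists_mul_of_mem_sup ((D.E_le_X.trans D.X_le_C).trans (le_normalizer_V _ _)) hx
  have e1 : c * (n * e) * c⁻¹ = (c * n * c⁻¹) * (c * e * c⁻¹) := by group
  rw [e1]
  exact mul_mem (mem_sup_left ((mem_normalizer_iff.1 (le_normalizer_V (Z (i + 1)) (CC Z i) hc) n).1 hn))
    (mem_sup_right (D.conj_E hc he))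

/-- (0.2) for the conjugates -/
theorem sep' {c l m : G} (hc : c ∈ CC Z i) (hl : l ∈ CC Z i) (hm : m ∈ Z (i + 1))
    (h : c * (l * m * l⁻¹) * c⁻¹ * (l * m * l⁻¹)⁻¹ ∈ E) : c * (l * m * l⁻¹) * c⁻¹ = l * m * l⁻¹ := by
  have h1 := D.sep (l⁻¹ * c * l) (mul_mem (mul_mem (inv_mem hl) hc) hl) m hm (by
    have e : l⁻¹ * c * l * m * (l⁻¹ * c * l)⁻¹ * m⁻¹ = l⁻¹ * (c * (l * m * l⁻¹) * c⁻¹ * (l * m * l⁻¹)⁻¹) * l⁻¹⁻¹ := by group
    rw [e]
    exact D.conj_E (inv_mem hl) h)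
  calc c * (l * m * l⁻¹) * c⁻¹ = l * (l⁻¹ * c * l * m * (l⁻¹ * c * l)⁻¹) * l⁻¹ := by group
    _ = l * m * l⁻¹ := by rw [h1]

/-- an element of `C_i` which centralises `⟨Z (i+1)^L⟩ E / E` centralises `⟨Z (i+1)^L⟩` -/
theorem cent_of_mod {L : Subgroup G} (hL : L ≤ CC Z i) {c : G} (hc : c ∈ CC Z i)
    (h : ∀ l ∈ L, ∀ m ∈ Z (i + 1), c * (l * m * l⁻¹) * c⁻¹ * (l * m * l⁻¹)⁻¹ ∈ E) :
    c ∈ centralizer (NH Z i L : Set G) := by
  have h1 : NH Z i L ≤ centralizer ({c} : Set G) := by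
    refine V_le fun l hl z hz => ?_
    rw [mem_conj] at hz
    have h2 := D.sep' hc (hL hl) hz (h l hl _ hz)
    have e : l * (l⁻¹ * z * l) * l⁻¹ = z := by group
    rw [e] at h2
    rw [mem_centralizer_singleton_iff]
    have h3 := eq_mul_of_mul_inv_eq h2
    exact h3.symm
  rw [mem_centralizer_iff]
  exact fun x hx => mem_centralizer_singleton_iff.1 (h1 hx)

/-- `{x ∈ N_i E : [x, A] ≤ E}` -/
abbrev tN (A : Set G) : Subgroup G := tE (NN Z i ⊔ E) E A fun x hx y hy => D.XE x (D.NE_le_X hx) y hy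

/-- **(NO)** on `N_i E / E` -/
theorem no_E (hML : ML.Final.MLK.{u, u}) {A : Subgroup G} (hK : IsKGroup (CC Z i))
    (hA : A ≤ o2 (centralizer (zc T : Set G))) (hA2 : ∀ a ∈ A, a ^ 2 = 1) :
    (centralizer (NN Z i : Set G)).relIndex A ≤ (D.tN (A : Set G)).relIndex (NN Z i ⊔ E) := by
  have hAC : A ≤ CC Z i := (hA.trans D.fr.O_le_T).trans (D.fr.T_le_C i)
  obtain ⟨w, hw, hw1⟩ : ∃ w ∈ Z (i + 1), w ≠ 1 := by
    by_contra hc
    push Not at hc
    exact D.fr.ne (i + 1) (eq_bot_iff.2 fun x hx => mem_bot.2 (hc x hx))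
  set W : Subgroup G := NoFF.Basic.V (zpowers w) (CC Z i) with hW
  set WP : Subgroup G := W ⊔ E with hWP
  have hwW : w ∈ W := le_V _ _ (mem_zpowers w)
  have hCW : CC Z i ≤ normalizer (W : Set G) := le_normalizer_V _ _
  have hWN : W ≤ NN Z i := V_le_of ((zpowers_le.2 hw).trans (le_V _ _)) (le_normalizer_V _ _)
  have hWPN : WP ≤ NN Z i ⊔ E := sup_le_sup_right hWN _
  have hWPX : WP ≤ XX V Z i := hWPN.trans D.NE_le_X
  have hcW : ∀ x ∈ WP, ∀ y ∈ E, x * y = y * x := fun x hx y hy => D.XE x (hWPX hx) y hy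
  have hst : ∀ g ∈ CC Z i, g * w * g⁻¹ * w⁻¹ ∈ E →
      g ∈ normalizer ((centralizer (zc T : Set G) : Subgroup G) : Set G) := by
    intro g hg h
    have h1 := D.sep g hg w hw h
    have h2 : g ∈ centralizer ({w} : Set G) := by
      rw [mem_centralizer_singleton_iff]
      calc g * w = (g * w * g⁻¹) * g := by group
        _ = w * g := by rw [h1]
    exact D.fr.norm_D i ⟨hg, D.fr.sti hw hw1 ⟨hg, h2⟩⟩
  have hker : A ⊓ centralizer (W : Set G) ≤ centralizer (NN Z i : Set G) := by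
    -- as in `no_H`
    set H₁ : Subgroup G := CC Z i ⊓ centralizer ({w} : Set G) with hH₁
    have hTH₁ : T ≤ H₁ := le_inf (D.fr.T_le_C i)
      ((D.fr.T_le_C (i + 1)).trans (centralizer_le (Set.singleton_subset_iff.2 hw)))
    have h1 : A ≤ o2 H₁ := by
      have h2 : o2 (centralizer (zc T : Set G)) ⊓ H₁ ≤ o2 H₁ := by
        refine le_o2 inf_le_right ((o2_isPGroup _).to_le inf_le_left) ?_
        refine le_norm_of fun g hg q hq => ?_
        have h3 : g ∈ normalizer ((o2 (centralizer (zc T : Set G)) : Subgroup G) : Set G) :=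
          norm_o2_of (D.fr.norm_D i ⟨hg.1, D.fr.sti hw hw1 hg⟩)
        exact ⟨(mem_normalizer_iff.1 h3 q).1 hq.1, H₁.mul_mem (H₁.mul_mem hg hq.2) (H₁.inv_mem hg)⟩
      exact (le_inf hA ((hA.trans D.fr.O_le_T).trans hTH₁)).trans h2
    have h2 := GenTool.o2_inf_le (L := CC Z i) (N := CC Z i ⊓ centralizer (W : Set G)) (R := H₁) inf_le_left
      (fun g hg x hx => ⟨(CC Z i).mul_mem ((CC Z i).mul_mem hg hx.1) ((CC Z i).inv_mem hg),
        (mem_normalizer_iff.1 (norm_cent hCW hg) x).1 hx.2⟩)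
      (le_inf inf_le_left (inf_le_right.trans (centralizer_le (Set.singleton_subset_iff.2 hwW))))
    exact ((le_inf (inf_le_left.trans h1) (le_inf (inf_le_left.trans hAC) inf_le_right)).trans h2).trans
      (D.fr.Q_le_cent_N i)
  -- an element of `C_i` trivial on `W E / E` centralises `W`
  have hmod : ∀ a ∈ CC Z i, (∀ x ∈ WP, a * x * a⁻¹ * x⁻¹ ∈ E) → a ∈ centralizer (W : Set G) := by
    intro a ha h
    have h1 : W ≤ centralizer ({a} : Set G) := by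
      refine V_le fun l hl z hz => ?_
      rw [mem_conj] at hz
      obtain ⟨n, hn⟩ := mem_zpowers_iff.1 hz
      have hz2 : l⁻¹ * z * l ∈ Z (i + 1) := by
        rw [← hn]; exact zpow_mem hw n
      have hz3 : z ∈ W := by
        have := (mem_normalizer_iff.1 (hCW hl) _).1 ((zpowers_le.2 hwW) (by rw [← hn]; exact ⟨n, rfl⟩ :
          l⁻¹ * z * l ∈ zpowers w))
        have e : l * (l⁻¹ * z * l) * l⁻¹ = z := by group
        rwa [e] at this
      have e : l * (l⁻¹ * z * l) * l⁻¹ = z := by group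
      have h2 := D.sep' ha hl hz2 (by rw [e]; exact h z (mem_sup_left hz3))
      rw [e] at h2
      rw [mem_centralizer_singleton_iff]
      exact (eq_mul_of_mul_inv_eq h2).symm
    rw [mem_centralizer_iff]
    exact fun x hx => mem_centralizer_singleton_iff.1 (h1 hx)
  have hmain : (A ⊓ centralizer (W : Set G)).relIndex A ≤ (tE WP E (A : Set G) hcW).relIndex WP := by
    refine hML.grp (C := CC Z i) (W := WP) (Y := E) (T := T) (Q := o2 (centralizer (zc T : Set G))) (A := A)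
      (w := w) hK ?_ (KA := A ⊓ centralizer (W : Set G)) (CW := tE WP E (A : Set G) hcW) ?_ ?_
    · refine ⟨?_, D.CE, le_sup_right, hWPX.trans D.X_norm_E, ?_, mem_sup_left hwW, ?_, D.fr.T_le_C i,
        D.fr.T_isPGroup, syl_not_dvd (D.fr.syl i), ?_, D.fr.O_le_T.trans (D.fr.T_le_C i), o2_isPGroup _, ?_, ?_, hA, ?_⟩
      · refine le_norm_of fun c hc x hx => ?_
        obtain ⟨n, hn, e, he, rfl⟩ := exists_mul_of_mem_sup ((D.E_le_X.trans D.X_le_C).trans hCW) hx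
        have e1 : c * (n * e) * c⁻¹ = (c * n * c⁻¹) * (c * e * c⁻¹) := by group
        rw [e1]
        exact mul_mem (mem_sup_left ((mem_normalizer_iff.1 (hCW hc) n).1 hn)) (mem_sup_right (D.conj_E hc he))
      · intro x hx
        have h1 := D.X_sq x (hWPX hx)
        rw [pow_two] at h1
        rw [h1]
        exact one_mem _
      · intro U hU hYU hHU
        exact sup_le (V_le_of (zpowers_le.2 hU) hHU) hYU
      · intro t ht
        have h1 := mem_centralizer_iff.1 (D.fr.T_le_C (i + 1) ht) w hw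
        rw [← h1, mul_inv_cancel_right, mul_inv_cancel]
        exact one_mem _
      · intro q hq
        have h1 := mem_centralizer_iff.1 (D.fr.cent_zc_le (i + 1) (o2_le _ hq)) w hw
        rw [← h1, mul_inv_cancel_right, mul_inv_cancel]
        exact one_mem _
      · intro g hg hgY q hq
        exact (mem_normalizer_iff.1 (norm_o2_of (hst g hg hgY)) q).1 hq
      · intro a ha x _
        have h1 : a * a = 1 := by rw [← pow_two]; exact hA2 a ha
        have e : a * (a * x * a⁻¹) * a⁻¹ * x⁻¹ = (a * a) * x * (a * a)⁻¹ * x⁻¹ := by group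
        rw [e, h1]
        simp
    · intro a
      constructor
      · rintro ⟨h1, h2⟩
        refine ⟨h1, fun x hx => ?_⟩
        have h3 : WP ≤ tE WP E ({a} : Set G) hcW := by
          refine sup_le (fun y hy => ⟨mem_sup_left hy, ?_⟩) fun y hy => ⟨mem_sup_right hy, ?_⟩
          · rintro _ rfl
            rw [← mem_centralizer_iff.1 h2 y hy, mul_inv_cancel_right, mul_inv_cancel]
            exact one_mem _
          · rintro _ rfl
            exact mul_mem (D.conj_E (hAC h1) hy) (inv_mem hy)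
        exact (h3 hx).2 a rfl
      · rintro ⟨h1, h2⟩
        exact ⟨h1, hmod a (hAC h1) h2⟩
    · intro x
      exact Iff.rfl
  rw [inf_relIndex_left] at hmain
  have h1 : (centralizer (NN Z i : Set G)).relIndex A ≤ (centralizer (W : Set G)).relIndex A := by
    rw [← inf_relIndex_left A (centralizer (W : Set G))]
    exact relIndex_anti hker
  refine h1.trans (hmain.trans ?_)
  have h2 : (tE WP E (A : Set G) hcW).relIndex WP = (D.tN (A : Set G)).relIndex WP := by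
    have e : (tE WP E (A : Set G) hcW) ⊓ WP = D.tN (A : Set G) ⊓ WP := by
      ext x
      constructor
      · rintro ⟨⟨h3, h4⟩, h5⟩
        exact ⟨⟨hWPN h3, h4⟩, h5⟩
      · rintro ⟨⟨h3, h4⟩, h5⟩
        exact ⟨⟨h5, h4⟩, h5⟩
    rw [← inf_relIndex_right, e, inf_relIndex_right]
  rw [h2]
  exact relIndex_mono hWPN

/-- exactness on `N_i E / E` -/
theorem le_E {B : Subgroup G} (hBC : B ≤ CC Z i) :
    (D.tN (B : Set G)).relIndex (NN Z i ⊔ E) ≤ (centralizer (B : Set G)).relIndex (NN Z i) := by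
  have hXc : NN Z i ⊔ E ≤ centralizer ((NN Z i ⊔ E : Subgroup G) : Set G) :=
    Cfsg.Agent.Omega.KL.TwoS.comm_of_sq fun x hx => D.X_sq x (D.NE_le_X hx)
  have hEt : E ≤ D.tN (B : Set G) := fun e he =>
    ⟨mem_sup_right he, fun b hb => mul_mem (D.conj_E (hBC hb) he) (inv_mem he)⟩
  refine (relIndex_le_of_sup le_sup_left hXc (sup_le le_sup_left (le_trans (le_inf le_sup_right hEt) le_sup_right))).trans ?_
  rw [← inf_relIndex_left (NN Z i) (centralizer (B : Set G))]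
  refine relIndex_anti fun x hx => ⟨mem_sup_left hx.1, fun b hb => ?_⟩
  rw [mem_centralizer_iff.1 hx.2 b hb, mul_inv_cancel_right, mul_inv_cancel]
  exact one_mem _

/-- `K = C_{C_G(E)}(X_i / N_i E)` -/
def KE : Subgroup G where
  carrier := {g | g ∈ centralizer (E : Set G) ∧ ∀ x ∈ XX V Z i, g * x * g⁻¹ * x⁻¹ ∈ NN Z i ⊔ E}
  one_mem' := ⟨one_mem _, fun x _ => by simp⟩
  mul_mem' := by
    rintro a b ⟨ha, ha'⟩ ⟨hb, hb'⟩
    refine ⟨mul_mem ha hb, fun x hx => ?_⟩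
    have haC : a ∈ CC Z i := centralizer_le D.ZE ha
    have e : a * b * x * (a * b)⁻¹ * x⁻¹ = (a * (b * x * b⁻¹ * x⁻¹) * a⁻¹) * (a * x * a⁻¹ * x⁻¹) := by group
    rw [e]
    exact mul_mem ((mem_normalizer_iff.1 (D.C_norm_NE haC) _).1 (hb' x hx)) (ha' x hx)
  inv_mem' := by
    rintro a ⟨ha, ha'⟩
    refine ⟨inv_mem ha, fun x hx => ?_⟩
    have haC : a⁻¹ ∈ CC Z i := inv_mem (centralizer_le D.ZE ha)
    have e : a⁻¹ * x * a⁻¹⁻¹ * x⁻¹ = a⁻¹ * (a * x * a⁻¹ * x⁻¹)⁻¹ * a⁻¹⁻¹ := by group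
    rw [e]
    exact (mem_normalizer_iff.1 (D.C_norm_NE haC) _).1 (inv_mem (ha' x hx))

theorem mem_KE {g : G} : g ∈ D.KE ↔ g ∈ centralizer (E : Set G) ∧ ∀ x ∈ XX V Z i, g * x * g⁻¹ * x⁻¹ ∈ NN Z i ⊔ E := Iff.rfl

theorem KE_le : D.KE ≤ CC Z i := fun _ h => centralizer_le D.ZE h.1

theorem C_norm_KE : CC Z i ≤ normalizer (D.KE : Set G) := by
  refine le_norm_of fun c hc g hg => ?_
  refine ⟨(mem_normalizer_iff.1 (norm_cent D.CE hc) g).1 hg.1, fun x hx => ?_⟩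
  have e : c * g * c⁻¹ * x * (c * g * c⁻¹)⁻¹ * x⁻¹ = c * (g * (c⁻¹ * x * c⁻¹⁻¹) * g⁻¹ * (c⁻¹ * x * c⁻¹⁻¹)⁻¹) * c⁻¹ := by group
  rw [e]
  exact (mem_normalizer_iff.1 (D.C_norm_NE hc) _).1
    (hg.2 _ ((mem_normalizer_iff.1 (D.C_norm_X (inv_mem hc)) x).1 hx))

/-- `H = K T` -/
abbrev HE : Subgroup G := D.KE ⊔ T

theorem HE_le : D.HE ≤ CC Z i := sup_le D.KE_le (D.fr.T_le_C i)

theorem T_norm_KE : T ≤ normalizer (D.KE : Set G) := (D.fr.T_le_C i).trans D.C_norm_KE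

theorem exists_kt {g : G} (hg : g ∈ D.HE) : ∃ k ∈ D.KE, ∃ t ∈ T, k * t = g := by
  obtain ⟨k, hk, t, ht, e⟩ := exists_mul_of_mem_sup D.T_norm_KE hg
  exact ⟨k, hk, t, ht, e.symm⟩

theorem syl_HE : Syl T D.HE :=
  ⟨le_sup_right, D.fr.T_isPGroup, fun R hR hR2 hTR => (D.fr.syl i).2.2 R (hR.trans D.HE_le) hR2 hTR⟩

/-- `w ∈ V i` fixed by `T` modulo `E` -/
def Vf (_ : FrE T V Z i E) (w : G) : Prop := w ∈ V i ∧ ∀ t ∈ T, t * w * t⁻¹ * w⁻¹ ∈ E

theorem Vf_X {w : G} (h : D.Vf w) : w ∈ XX V Z i := mem_sup_left (le_V _ _ h.1)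

/-- `w₀ ≡ w` modulo `N_i E`, fixed by `H` modulo `E` -/
def IsV (w w0 : G) : Prop := w0 ∈ XX V Z i ∧ w0 * w⁻¹ ∈ NN Z i ⊔ E ∧ ∀ g ∈ D.HE, g * w0 * g⁻¹ * w0⁻¹ ∈ E

/-- **the vectors `w₀`** -/
theorem exists_isV {w : G} (hw : D.Vf w) : ∃ w0, D.IsV w w0 := by
  obtain ⟨w0, h1, h2, h3⟩ := exists_fix_sec (C := D.HE) (X := XX V Z i) (Y := E) (N := NN Z i ⊔ E) (T := T)
    (D.HE_le.trans D.C_norm_X) (D.HE_le.trans D.CE) D.X_norm_E le_sup_right
    (fun x hx => by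
      have h1 := D.X_sq x hx
      rw [pow_two] at h1
      rw [h1]
      exact one_mem _)
    (syl_not_dvd D.syl_HE) (D.Vf_X hw) hw.2 (fun g hg => by
      obtain ⟨k, hk, t, ht, rfl⟩ := D.exists_kt hg
      have e : k * t * w * (k * t)⁻¹ * w⁻¹ = (k * (t * w * t⁻¹ * w⁻¹) * k⁻¹) * (k * w * k⁻¹ * w⁻¹) := by group
      rw [e]
      exact mul_mem (mem_sup_right (D.conj_E (D.KE_le hk) (hw.2 t ht))) (hk.2 w (D.Vf_X hw)))
  exact ⟨w0, h1, h2, h3⟩

/-- `{x ∈ X_i : [c, x] ∈ E}` -/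
abbrev tX (c : G) : Subgroup G := tE (XX V Z i) E ({c} : Set G) D.XE

theorem mem_tX {c x : G} : x ∈ D.tX c ↔ x ∈ XX V Z i ∧ c * x * c⁻¹ * x⁻¹ ∈ E :=
  ⟨fun h => ⟨h.1, h.2 c rfl⟩, fun h => ⟨h.1, by rintro _ rfl; exact h.2⟩⟩

/-- **the input of THEOREM KL*(q)** -/
theorem preY (hML : ML.Final.MLK.{u, u}) (hK : IsKGroup (CC Z i)) {A : Subgroup G}
    (hA : Mx (o2 (centralizer (zc T : Set G))) A)
    (hm : ¬ A ⊓ centralizer (UU V Z i : Set G) ≤ centralizer (NN Z i : Set G)) (hN : NN Z i ≤ NH Z i D.KE) :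
    ∃ (C M : Type u) (_ : Group C) (_ : Finite C) (_ : Group M) (_ : Finite M) (_ : MulDistribMulAction C M)
      (T' A' : Subgroup C) (Z' Y' : Subgroup M), PreY T' A' Z' Y' := by
  obtain ⟨h5, h6, -⟩ := D.fr.ex_U hML hK hA
  set B : Subgroup G := A ⊓ centralizer (UU V Z i : Set G) with hB
  set H : Subgroup G := D.HE with hHdef
  set NE : Subgroup G := NN Z i ⊔ E with hNE
  have hHC : H ≤ CC Z i := D.HE_le
  have hTH : T ≤ H := le_sup_right
  have hKH : D.KE ≤ H := le_sup_left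
  have hBO : B ≤ o2 (centralizer (zc T : Set G)) := inf_le_left.trans hA.le
  have hBT : B ≤ T := hBO.trans D.fr.O_le_T
  have hBH : B ≤ H := hBT.trans hTH
  have hBC : B ≤ CC Z i := hBH.trans hHC
  have hB2 : ∀ b ∈ B, b ^ 2 = 1 := fun b hb => hA.sq b hb.1
  have hX : H ≤ normalizer (NE : Set G) := hHC.trans D.C_norm_NE
  have hY : H ≤ normalizer (E : Set G) := hHC.trans D.CE
  have hXY : NE ≤ normalizer (E : Set G) := D.NE_le_X.trans D.X_norm_E
  have hNm : (E.subgroupOf NE).Normal := normal_subgroupOf_of_le_normalizer hXY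
  let _ := conjAct hX hY
  let mk : NE →* NE ⧸ E.subgroupOf NE := QuotientGroup.mk' (E.subgroupOf NE)
  have hmk : Function.Surjective mk := QuotientGroup.mk'_surjective _
  have hsm : ∀ (g : H) (x : NE) (hx : (g : G) * x * (g : G)⁻¹ ∈ NE), g • mk x = mk ⟨(g : G) * x * (g : G)⁻¹, hx⟩ :=
    fun _ _ _ => rfl
  have hmem : ∀ (g : H) (x : NE), (g : G) * x * (g : G)⁻¹ ∈ NE := fun g x =>
    (mem_normalizer_iff.1 (hX g.2) x).1 x.2
  have hone : ∀ x y : NE, mk x = mk y ↔ (x : G) * (y : G)⁻¹ ∈ E := by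
    intro x y
    rw [← mul_inv_eq_one, ← map_inv, ← map_mul, ← MonoidHom.mem_ker, QuotientGroup.ker_mk']
    exact Iff.rfl
  have hfix : ∀ (g : H) (x : NE), g • mk x = mk x ↔ (g : G) * x * (g : G)⁻¹ * (x : G)⁻¹ ∈ E := by
    intro g x
    rw [hsm g x (hmem g x), hone]
  have hZN : Z (i + 1) ≤ NE := (le_V _ _).trans le_sup_left
  -- `Z'`, `Y'`
  let Z' : Subgroup (NE ⧸ E.subgroupOf NE) := ((Z (i + 1)).subgroupOf NE).map mk
  let YS : Set (NE ⧸ E.subgroupOf NE) := {m | ∃ w w0, ∃ (_ : D.Vf w) (_ : D.IsV w w0) (h : w0 * w⁻¹ ∈ NE), m = mk ⟨w0 * w⁻¹, h⟩}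
  let Y' : Subgroup (NE ⧸ E.subgroupOf NE) := closure YS
  have hYfix : ∀ g : H, (∀ w, D.Vf w → (g : G) * w * (g : G)⁻¹ * w⁻¹ ∈ E) → ∀ y ∈ Y', g • y = y := by
    intro g hg y hy
    have h1 : Y' ≤ cv (NE ⧸ E.subgroupOf NE) ({g} : Set H) := by
      change closure YS ≤ _
      rw [closure_le]
      rintro _ ⟨w, w0, hw, hw0, hh, rfl⟩ a ha
      rw [Set.mem_singleton_iff.1 ha, hfix]
      have h2 : w ∈ D.tX g := D.mem_tX.2 ⟨D.Vf_X hw, hg w hw⟩
      have h3 : w0 ∈ D.tX g := D.mem_tX.2 ⟨hw0.1, hw0.2.2 g g.2⟩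
      exact (D.mem_tX.1 (mul_mem h3 (inv_mem h2))).2
    exact h1 hy g rfl
  have hYfix2 : ∀ g : H, (∀ y ∈ Y', g • y = y) → ∀ w, D.Vf w → (g : G) * w * (g : G)⁻¹ * w⁻¹ ∈ E := by
    intro g hg w hw
    obtain ⟨w0, hw0⟩ := D.exists_isV hw
    have h1 := hg (mk ⟨w0 * w⁻¹, hw0.2.1⟩) (subset_closure ⟨w, w0, hw, hw0, hw0.2.1, rfl⟩)
    rw [hfix] at h1
    have h2 : w0 * w⁻¹ ∈ D.tX g := D.mem_tX.2 ⟨D.NE_le_X hw0.2.1, h1⟩
    have h3 : w0 ∈ D.tX g := D.mem_tX.2 ⟨hw0.1, hw0.2.2 g g.2⟩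
    have h4 : w ∈ D.tX g := by
      have e : w = (w0 * w⁻¹)⁻¹ * w0 := by group
      rw [e]
      exact mul_mem (inv_mem h2) h3
    exact (D.mem_tX.1 h4).2
  have hnT : ∀ g : H, g ∈ normalizer ((T.subgroupOf H : Subgroup H) : Set H) → (g : G) ∈ normalizer (T : Set G) := by
    intro g hg
    rw [mem_normalizer_iff]
    intro t
    constructor
    · intro ht
      exact (mem_normalizer_iff.1 hg ⟨t, hTH ht⟩).1 ht
    · intro ht
      have h1 : (g : G)⁻¹ * ((g : G) * t * (g : G)⁻¹) * (g : G)⁻¹⁻¹ ∈ T :=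
        (mem_normalizer_iff.1 (inv_mem hg) ⟨(g : G) * t * (g : G)⁻¹, hTH ht⟩).1 ht
      have e : (g : G)⁻¹ * ((g : G) * t * (g : G)⁻¹) * (g : G)⁻¹⁻¹ = t := by group
      rwa [e] at h1
  -- the kernel
  have hfxt : fxr H (⊤ : Subgroup (NE ⧸ E.subgroupOf NE)) = (centralizer (NN Z i : Set G)).subgroupOf H := by
    ext c
    rw [mem_subgroupOf]
    constructor
    · intro h
      refine D.cent_of_mod (L := CC Z i) le_rfl (hHC c.2) fun l hl m hmm => ?_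
      have h1 : l * m * l⁻¹ ∈ NE := mem_sup_left (Z_le_V hl (mem_conj.2 (by
        have e : l⁻¹ * (l * m * l⁻¹) * l = m := by group
        rwa [e])))
      exact (hfix c ⟨_, h1⟩).1 (h _ (mem_top _))
    · intro h m _
      obtain ⟨x, rfl⟩ := hmk m
      rw [hfix]
      have h1 : NE ≤ D.tX (c : G) := by
        refine sup_le (fun y hy => D.mem_tX.2 ⟨mem_sup_right hy, ?_⟩) fun y hy => D.mem_tX.2 ⟨D.E_le_X hy, ?_⟩
        · rw [← mem_centralizer_iff.1 h y hy, mul_inv_cancel_right, mul_inv_cancel]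
          exact one_mem _
        · exact mul_mem (D.conj_E (hHC c.2) hy) (inv_mem hy)
      exact (D.mem_tX.1 (h1 x.2)).2
  have hcv : ∀ S : Subgroup H, (cv (NE ⧸ E.subgroupOf NE) (S : Set H)).index =
      (D.tN ((S.map H.subtype : Subgroup G) : Set G)).relIndex NE := by
    intro S
    rw [← index_comap_of_surjective _ hmk]
    change _ = ((D.tN ((S.map H.subtype : Subgroup G) : Set G)).subgroupOf NE).index
    congr 1
    ext x
    rw [mem_subgroupOf, mem_comap]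
    constructor
    · intro h
      refine ⟨x.2, ?_⟩
      rintro _ ⟨s, hs, rfl⟩
      exact (hfix s x).1 (h s hs)
    · rintro ⟨-, h⟩ s hs
      exact (hfix s x).2 (h s ⟨s, hs, rfl⟩)
  refine ⟨H, NE ⧸ E.subgroupOf NE, inferInstance, inferInstance, inferInstance, inferInstance, inferInstance,
    T.subgroupOf H, B.subgroupOf H, Z', Y', ?_⟩
  refine ⟨?_, ?_, ?_, ?_, ?_, ?_, ?_, ?_, ?_, ?_, ?_, ?_, ?_, ?_, kgroup_mono hK hHC⟩
  · intro m
    obtain ⟨x, rfl⟩ := hmk m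
    rw [← map_mul, ← map_one mk, hone]
    have h1 := D.X_sq x (D.NE_le_X x.2)
    rw [pow_two] at h1
    simp [h1]
  · exact D.fr.T_isPGroup.comap_of_injective H.subtype H.subtype_injective
  · exact syl_not_dvd D.syl_HE
  · rintro _ ⟨z, hz, rfl⟩ t ht
    rw [hfix, ← mem_centralizer_iff.1 (D.fr.T_le_C (i + 1) (mem_subgroupOf.1 ht)) z (mem_subgroupOf.1 hz),
      mul_inv_cancel_right, mul_inv_cancel]
    exact one_mem _
  · rintro g hg _ ⟨z, hz, rfl⟩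
    rw [hsm g z (hmem g z)]
    exact mem_map_of_mem mk (mem_subgroupOf.2 ((mem_normalizer_iff.1 (D.fr.nT i ⟨hHC g.2, hnT g hg⟩).1.1 _).1
      (mem_subgroupOf.1 hz)))
  · intro g hg
    refine hYfix g fun w hw => ?_
    obtain ⟨k, hk, t, ht, hkt⟩ := D.exists_kt g.2
    have hkT : k ∈ normalizer (T : Set G) := by
      have e : k = (g : G) * t⁻¹ := by rw [← hkt]; group
      rw [e]
      exact mul_mem (hnT g hg) (inv_mem (le_normalizer ht))
    have hkV := (D.fr.nT i ⟨D.KE_le hk, hkT⟩).1.2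
    have h1 : k * w * k⁻¹ * w⁻¹ ∈ E :=
      D.dis (mem_inf.2 ⟨mul_mem ((mem_normalizer_iff.1 hkV w).1 hw.1) (inv_mem hw.1), hk.2 w (D.Vf_X hw)⟩)
    rw [← hkt]
    have e : k * t * w * (k * t)⁻¹ * w⁻¹ = (k * (t * w * t⁻¹ * w⁻¹) * k⁻¹) * (k * w * k⁻¹ * w⁻¹) := by group
    rw [e]
    exact mul_mem (D.conj_E (D.KE_le hk) (hw.2 t ht)) h1
  · intro P hP
    have hR := Plug.minPar_map hTH hP
    have hRC : P.map H.subtype ≤ CC Z i := (map_subtype_le P).trans hHC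
    by_cases hRm : P.map H.subtype ≤ CC Z (i + 1)
    · left
      rintro _ ⟨z, hz, rfl⟩ p hp
      have h1 : (z : G) * (p : G) = p * z :=
        mem_centralizer_iff.1 (hRm (mem_map_of_mem H.subtype hp)) z (mem_subgroupOf.1 hz)
      rw [hfix, ← h1, mul_inv_cancel_right, mul_inv_cancel]
      exact one_mem _
    · right
      intro g hg hog
      refine hYfix g fun w hw => ?_
      have h1 := D.fr.odd (i + 1) i (ne_add_one i).symm _ hR hRC hRm g (mem_map_of_mem H.subtype hg)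
        (by rwa [orderOf_coe])
      rw [← mem_centralizer_iff.1 h1 w hw.1, mul_inv_cancel_right, mul_inv_cancel]
      exact one_mem _
  · intro a ha
    apply Subtype.ext
    have h := hB2 a (mem_subgroupOf.1 ha)
    rw [pow_two] at h
    exact h
  · refine Plug.sub_o2 (S := centralizer (zc T : Set G)) (fun c => ?_) hBO
    constructor
    · intro h
      refine D.fr.mem_D (i := i) (hHC c.2) ?_
      rw [mem_centralizer_iff]
      intro z hz
      have h1 := (hfix c ⟨z, hZN hz⟩).1 (h _ (mem_map_of_mem mk (mem_subgroupOf.2 hz)))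
      exact (eq_mul_of_mul_inv_eq (D.sep c (hHC c.2) z hz h1)).symm
    · rintro h _ ⟨z, hz, rfl⟩
      rw [hfix, ← mem_centralizer_iff.1 (D.fr.cent_zc_le (i + 1) h) z (mem_subgroupOf.1 hz), mul_inv_cancel_right,
        mul_inv_cancel]
      exact one_mem _
  · refine Plug.sub_o2 (S := HH T V i) (fun c => ?_) h5
    have hS : fxr H Y' ⊔ T.subgroupOf H = (HH T V i).subgroupOf H := by
      apply le_antisymm
      · refine sup_le (fun g hg => mem_subgroupOf.2 ?_) fun t ht => mem_subgroupOf.2 (D.fr.T_le_H i (mem_subgroupOf.1 ht))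
        obtain ⟨k, hk, t, ht, hkt⟩ := D.exists_kt g.2
        have h1 := hYfix2 g hg
        rw [← hkt]
        refine mul_mem (D.fix k hk.1 fun w hw hwT => ?_) (D.fr.T_le_H i ht)
        have h2 := h1 w ⟨hw, hwT⟩
        rw [← hkt] at h2
        have e : k * w * k⁻¹ * w⁻¹ = (k * (t * w * t⁻¹ * w⁻¹) * k⁻¹)⁻¹ * (k * t * w * (k * t)⁻¹ * w⁻¹) := by group
        rw [e]
        exact mul_mem (inv_mem (D.conj_E (D.KE_le hk) (hwT t ht))) h2
      · intro g hg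
        obtain ⟨c, hc, t, ht, hct⟩ := exists_mul_of_mem_sup
          ((D.fr.nV i).trans (norm_cent (A := normalizer (V i : Set G)) le_rfl)) (mem_subgroupOf.1 hg)
        have hcH : c ∈ H := by
          have e : c = (g : G) * t⁻¹ := by rw [hct]; group
          rw [e]
          exact H.mul_mem g.2 (H.inv_mem (hTH ht))
        have e : g = (⟨c, hcH⟩ : H) * ⟨t, hTH ht⟩ := Subtype.ext hct
        rw [e]
        refine mul_mem (mem_sup_left ?_) (mem_sup_right (mem_subgroupOf.2 ht))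
        refine hYfix _ fun w hw => ?_
        change c * w * c⁻¹ * w⁻¹ ∈ E
        rw [← mem_centralizer_iff.1 hc w hw.1, mul_inv_cancel_right, mul_inv_cancel]
        exact one_mem _
    rw [hS, mem_subgroupOf]
  · intro a ha hc m
    have h1 : (a : G) ∈ centralizer (NN Z i : Set G) := by
      refine centralizer_le (hN.trans (V_le_of (le_V _ _) (hKH.trans (le_normalizer_V _ _)) : NH Z i D.KE ≤ NH Z i H)) ?_
      refine D.cent_of_mod hHC (hHC a.2) fun l hl z hz => ?_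
      have h2 := hc ⟨l, hl⟩ (mk ⟨z, hZN hz⟩) (mem_map_of_mem mk (mem_subgroupOf.2 hz))
      rw [hsm ⟨l, hl⟩ _ (hmem _ _), hfix] at h2
      exact h2
    have h3 : a ∈ fxr H (⊤ : Subgroup (NE ⧸ E.subgroupOf NE)) := by
      rw [hfxt]
      exact mem_subgroupOf.2 h1
    exact h3 m (mem_top _)
  · by_contra hc
    push Not at hc
    apply hm
    intro b hb
    have h3 : (⟨b, hBH hb⟩ : H) ∈ fxr H (⊤ : Subgroup (NE ⧸ E.subgroupOf NE)) := fun m _ =>
      hc ⟨b, hBH hb⟩ (mem_subgroupOf.2 hb) m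
    rw [hfxt] at h3
    exact mem_subgroupOf.1 h3
  · intro S hS
    have hSB : S.map H.subtype ≤ B := by
      rintro _ ⟨a, ha, rfl⟩
      exact mem_subgroupOf.1 (hS ha)
    have e1 : (fxr H (⊤ : Subgroup (NE ⧸ E.subgroupOf NE))).relIndex S =
        (centralizer (NN Z i : Set G)).relIndex (S.map H.subtype) := by
      rw [hfxt, subgroupOf, relIndex_comap]
    rw [e1, hcv]
    exact D.no_E hML hK (hSB.trans hBO) fun b hb => hB2 b (hSB hb)
  · have e : (B.subgroupOf H).map H.subtype = B := by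
      rw [subgroupOf_map_subtype, inf_eq_left.2 hBH]
    rw [hcv, hfxt, relIndex_subgroupOf hBH, e]
    exact (D.le_E hBC).trans h6.ge

/-- **THEOREM G*, (G1)** -/
theorem g1 (hML : ML.Final.MLK.{u, u}) (hE : ML.Ex.Two.Ext.{u, u}) (hK : IsKGroup (CC Z i)) (hF : ¬ Fail T V Z i)
    {A : Subgroup G} (hA : A ≤ centralizer (E : Set G)) (hA2 : IsPGroup 2 A)
    (h : ∀ a ∈ A, ∀ x ∈ XX V Z i, a * x * a⁻¹ * x⁻¹ ∈ NN Z i ⊔ E) : A ≤ centralizer (NN Z i : Set G) := by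
  by_contra hm
  have hN := D.lem0 D.KE A D.KE_le D.C_norm_KE (fun a ha => ⟨hA ha, h a ha⟩) hA2 hm
  unfold Fail at hF
  push Not at hF
  obtain ⟨B, hB, -, hmB⟩ := hF
  obtain ⟨C, M, _, _, _, _, _, T', A', Z', Y', hP⟩ := D.preY hML hK hB hmB hN
  obtain ⟨H, _, _, _, T'', A'', hI⟩ := hP.inp
  exact hI.false_of hML hE

end FrE

/-- the case `E = Z i` -/
theorem FrN.frE [Finite G] {T : Subgroup G} {V Z : Fin 2 → Subgroup G} (D : FrN T V Z) (i : Fin 2)
    (hd : V i ⊓ (NN Z i ⊔ Z i) ≤ Z i) : FrE T V Z i (Z i) := by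
  refine ⟨D.toFr, le_rfl, D.ZV i, centralizer_le_normalizer _, D.sep i, hd, ?_, ?_⟩
  · intro c hc h
    exact D.mem_HH.2 ⟨hc, fun w hw => h w hw fun t ht => D.com i w hw t ht⟩
  · intro K A hK hn hAK hA hm
    exact D.lem0 hK hn hAK hA hm

/-- **(G1)** -/
theorem FrN.gOne [Finite G] {T : Subgroup G} {V Z : Fin 2 → Subgroup G} (D : FrN T V Z) (hML : ML.Final.MLK.{u, u})
    (hE : ML.Ex.Two.Ext.{u, u}) {i : Fin 2} (hK : IsKGroup (CC Z i)) (hF : ¬ Fail T V Z i)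
    (hd : V i ⊓ (NN Z i ⊔ Z i) ≤ Z i) : GOne V Z i :=
  fun _ hA hA2 h => (D.frE i hd).g1 hML hE hK hF hA hA2 h

end Cfsg.Agent.Omega.KL.TwoZ

end

section


/-!
# THEOREM G* modulo a `C_i`-invariant `E` (lines), over `TwoZ.Fr`; (G2), (G3)

* **`FrE.of`** : `FrE T V Z i E` over `Fr` : `sep` = `Fr.stab`, `lem0` = `Fr.lem0` (`Low.lean`, helper70);
* `GOneM T V Z i` : (G1) for the maximal `A ≤ O` with `[X_i, A] ≤ N_i`; `FrE.gOneM`;
* `Fr.g2M`, `Fr.g_conjM`, **`Fr.g3M`** : (G2), (G3) from `GOneM` (as in `GThree.lean`, helper812).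
-/

set_option autoImplicit false
set_option linter.unusedSectionVars false

namespace Cfsg.Agent.Omega.KL.TwoZ

open Subgroup Cfsg Cfsg.Agent.Omega.MinPar
open Cfsg.Agent.ZN (o2 zc)
open Cfsg.Agent.Omega.OM.KTwo (ne_add_one eq_add_one add_one_add_one le_normalizer_V le_V exists_mul_of_mem_sup)
open Cfsg.Agent.Omega.NoFF.Basic (conj_conj mem_conj conj_le_iff comm_symm comm_mono Z_le_V V_le)
open Cfsg.Agent.Omega.NOThreeL.Pair (conj_eq_of_mem conj_le_normalizer)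
open Cfsg.Agent.Omega.NoFF.ThmJFam (card_sup_inf card_conj conj_cent conj_inf)
open Cfsg.Agent.MinSimple.VModule (mem_zc zc_le normalizer_le_normalizer_zc le_o2
  o2_isPGroup o2_le zc_le_centralizer le_centralizer_zc le_normalizer_o2)
open Cfsg.Agent.Omega.TC.LemZ (card_eq le_norm_of norm_cent norm_inf)
open Cfsg.Agent.Omega.KL.TwoS (Mx comm_of_sq sq_sup relIndex_le_of_sup sup_of_relIndex_le relIndex_pos relIndex_mono
  relIndex_anti relIndex_split)
open scoped Pointwise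

universe u

variable {G : Type u} [Group G] [Finite G] {T : Subgroup G} {V Z : Fin 2 → Subgroup G}

/-- **`FrE` over `Fr`** -/
theorem FrE.of (D : Fr T V Z) {i : Fin 2} {E : Subgroup G} (ZE : Z i ≤ E) (EV : E ≤ V i)
    (CE : CC Z i ≤ normalizer (E : Set G)) (dis : V i ⊓ (NN Z i ⊔ E) ≤ E)
    (fix : ∀ c ∈ centralizer (E : Set G), (∀ w ∈ V i, (∀ t ∈ T, t * w * t⁻¹ * w⁻¹ ∈ E) → c * w * c⁻¹ * w⁻¹ ∈ E) →
      c ∈ HH T V i) (tr : Trn T Z i) : FrE T V Z i E := by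
  refine ⟨D, ZE, EV, CE, ?_, dis, fix, ?_⟩
  · intro c hc m hm h
    have h1 := D.stab CE (fun z hz hzE => D.dis i z (EV hzE) hz) hm hc h
    rw [h1, mul_inv_cancel_right]
  · intro K A hK hn hAK hA hm
    obtain ⟨a, ha, ham⟩ := SetLike.not_le_iff_exists.1 hm
    exact (D.lem0 tr hK hn ⟨a, hAK ha, hA.to_le (zpowers_le.2 ha), ham⟩).2.2.le

/-- (G1) for the maximal `A ≤ O` with `[X_i, A] ≤ N_i` -/
def GOneM (T : Subgroup G) (V Z : Fin 2 → Subgroup G) (i : Fin 2) : Prop :=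
  ∀ A : Subgroup G, Mx (o2 (centralizer (zc T : Set G))) A →
    (∀ a ∈ A, ∀ x ∈ WW V Z i ⊔ NN Z i, a * x * a⁻¹ * x⁻¹ ∈ NN Z i) → A ≤ centralizer (NN Z i : Set G)

theorem FrE.gOneM {i : Fin 2} {E : Subgroup G} (D : FrE T V Z i E) (hML : ML.Final.MLK.{u, u})
    (hE : ML.Ex.Two.Ext.{u, u}) (hK : IsKGroup (CC Z i)) (hF : ¬ Fail T V Z i)
    (hAE : ∀ A : Subgroup G, Mx (o2 (centralizer (zc T : Set G))) A → A ≤ centralizer (E : Set G)) : GOneM T V Z i :=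
  fun A hA h => D.g1 hML hE hK hF (hAE A hA) ((o2_isPGroup _).to_le hA.le) fun a ha x hx => mem_sup_left (h a ha x hx)

theorem GOne.gOneM (D : Fr T V Z) {i : Fin 2} (h : GOne V Z i) : GOneM T V Z i := fun A hA hx =>
  h A ((hA.le.trans D.O_le_T).trans (D.T_le_C i)) ((o2_isPGroup _).to_le hA.le) fun a ha x hx' =>
    mem_sup_left (hx a ha x hx')

namespace Fr

/-- **(G2)** `A` maximal in `O` moves `N_i` : `C_A(N_i)` moves `W_i` -/
theorem g2M (D : Fr T V Z) (hML : ML.Final.MLK.{u, u}) {i : Fin 2} (hK : IsKGroup (CC Z i)) (hG : GOneM T V Z i)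
    {A : Subgroup G} (hA : Mx (o2 (centralizer (zc T : Set G))) A) (hm : ¬ A ≤ centralizer (NN Z i : Set G)) :
    ¬ A ⊓ centralizer (NN Z i : Set G) ≤ centralizer (WW V Z i : Set G) := by
  intro hc0
  apply hm
  obtain ⟨h1, h2, h3, -⟩ := D.X_facts i
  have hc : A ⊓ centralizer (NN Z i : Set G) ≤ centralizer ((WW V Z i ⊔ NN Z i : Subgroup G) : Set G) :=
    comm_symm (sup_le (comm_symm hc0) (comm_symm inf_le_right))
  have hXc : WW V Z i ⊔ NN Z i ≤ centralizer ((WW V Z i ⊔ NN Z i : Subgroup G) : Set G) := comm_of_sq h2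
  have h7 : (centralizer (A : Set G)).relIndex (WW V Z i ⊔ NN Z i) ≤ (centralizer (A : Set G)).relIndex (NN Z i) := by
    refine (hA.thom (h1.trans (D.Q_le_O i)) h2).trans ?_
    rw [← (D.mx hML hK hA).1]
    have e1 : (A ⊓ centralizer (NN Z i : Set G)).relIndex A = (centralizer (NN Z i : Set G)).relIndex A :=
      inf_relIndex_left _ _
    rw [← e1]
    exact relIndex_anti hc
  have h8 := sup_of_relIndex_le le_sup_right hXc h7
  have hAC : A ≤ CC Z i := (hA.le.trans D.O_le_T).trans (D.T_le_C i)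
  refine hG A hA fun a ha x hx => ?_
  have hNX : NN Z i ≤ WW V Z i ⊔ NN Z i := le_sup_right
  exact comm_le_of_sup (N := NN Z i) (hAC.trans (le_normalizer_V (Z (i + 1)) (CC Z i))) h8
    ((hXc.trans (centralizer_le hNX)).trans (centralizer_le_normalizer _)) a ha x hx

/-- `A` maximal in `O` moves `N_i` : some maximal `A' ≤ Q_i` moves `V i` -/
theorem g_conjM (D : Fr T V Z) (hML : ML.Final.MLK.{u, u}) {i : Fin 2} (hK : IsKGroup (CC Z i)) (hG : GOneM T V Z i)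
    {A : Subgroup G} (hA : Mx (o2 (centralizer (zc T : Set G))) A) (hm : ¬ A ≤ centralizer (NN Z i : Set G)) :
    ∃ B : Subgroup G, Mx (o2 (centralizer (zc T : Set G))) B ∧ B ≤ QQ Z i ∧ ¬ B ≤ centralizer (V i : Set G) := by
  by_contra hcon
  push Not at hcon
  apply D.g2M hML hK hG hA hm
  obtain ⟨-, h1, h2⟩ := D.mx hML hK hA
  have h3 : WW V Z i ≤ centralizer ((A ⊓ centralizer (NN Z i : Set G) ⊔ NN Z i : Subgroup G) : Set G) := by
    refine V_le fun c hc => ?_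
    have e1 : MulAut.conj c⁻¹ • QQ Z i = QQ Z i := conj_eq_of_mem (le_normalizer_o2 _ (inv_mem hc))
    have h4 : MulAut.conj c⁻¹ • (A ⊓ centralizer (NN Z i : Set G) ⊔ NN Z i) ≤ QQ Z i := by
      rw [← e1]; exact conj_le_iff.2 h2
    have h5 := comm_symm (hcon _ (h1.conj (h4.trans (D.Q_le_O i))) h4)
    have h6 : MulAut.conj c • V i ≤ MulAut.conj c • centralizer
        ((MulAut.conj c⁻¹ • (A ⊓ centralizer (NN Z i : Set G) ⊔ NN Z i) : Subgroup G) : Set G) := conj_le_iff.2 h5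
    rwa [conj_cent, conj_conj, mul_inv_cancel, map_one, one_smul] at h6
  exact le_sup_left.trans (comm_symm h3)

/-- **(G3)** for both `i` some maximal `A ≤ Q_i` moves `V i` -/
theorem g3M (D : Fr T V Z) (hML : ML.Final.MLK.{u, u}) (hK : ∀ i, IsKGroup (CC Z i)) (hG : ∀ i, GOneM T V Z i)
    (i : Fin 2) :
    ∃ A : Subgroup G, Mx (o2 (centralizer (zc T : Set G))) A ∧ A ≤ QQ Z i ∧ ¬ A ≤ centralizer (V i : Set G) := by
  obtain ⟨j, A, hA, hm⟩ := D.exists_move_N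
  obtain ⟨B, hB, hBQ, hBm⟩ := D.g_conjM hML (hK j) (hG j) hA hm
  by_cases hij : i = j
  · subst hij; exact ⟨B, hB, hBQ, hBm⟩
  · obtain rfl : i = j + 1 := eq_add_one (Ne.symm hij)
    exact D.g_conjM hML (hK (j + 1)) (hG (j + 1)) hB (D.move_N_of_V hBm)

end Fr

end Cfsg.Agent.Omega.KL.TwoZ

end
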