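import Cfsg.Agent.Mrg.Omega.KL.TwoZ.Line
import Cfsg.Agent.Mrg.Omega.KL.ThmIqG
import Cfsg.Agent.Mrg.Omega.NOThreeL.RRed.NatS

section


/-!
# THEOREM I(q) over the lines (two natural blocks with field automorphisms; helper918 #24444 (C) (F5))

* `LE S V Z l i P E` : `P ≥ S` acts on `V (i+1)`, `E` is normal in `P`, `C_S(l (i+1)) ≤ E`, `S ∩ E ≤ C(l (i+1))`
  (`E` = the part of `P` which acts on `V (i+1)` by matrices of determinant one);
* `LFr.exists_gen`, `LFr.no_N`, `LFr.mx_eq`; `LFr.gdat`;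
* **`LFr.inter`** : `N_0 ∩ N_1 ≤ l 0 l 1`.
-/

set_option autoImplicit false
set_option linter.unusedSectionVars false

namespace Cfsg.Agent.Omega.KL.TwoZ.Line

open Subgroup Cfsg Cfsg.Agent.Omega.MinPar
open Cfsg.Agent.ZN (o2 zc)
open Cfsg.Agent.Omega.OM.KTwo (ne_add_one eq_add_one add_one_add_one le_normalizer_V le_V)
open Cfsg.Agent.MinSimple.MinParabolic (IsMinPar)
open Cfsg.Agent.Omega.NoFF.Basic (conj_conj mem_conj conj_le_iff comm_symm)
open Cfsg.Agent.ZN.ChoiceSit (Syl syl_not_dvd o2_le_syl)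
open Cfsg.Agent.MinSimple.VModule (mem_zc zc_le o2_isPGroup o2_le le_o2 le_normalizer_o2 le_centralizer_zc)
open Cfsg.Agent.Omega.TC.LemZ (card_eq norm_cent)
open Cfsg.Agent.Omega.KL.TwoS (Mx comm_of_sq)
open Cfsg.Agent.Omega.KL.TwoZ (CC)
open Cfsg.Agent.Omega.OM
open scoped Pointwise

universe u

variable {G : Type u} [Group G]

/-- `P ≥ S` acts on `V (i+1)`, and `E` is the part of `P` which acts linearly with determinant one -/
structure LE [Finite G] (S : Sylow 2 G) (V Z l : Fin 2 → Subgroup G) (i : Fin 2) (P E : Subgroup G) : Prop where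
  SP : (S : Subgroup G) ≤ P
  PC : P ≤ centralizer (Z i : Set G)
  PV : P ≤ normalizer (V (i + 1) : Set G)
  mv : ¬ P ≤ normalizer (l (i + 1) : Set G)
  nrm : P ≤ normalizer (((S : Subgroup G) ⊓ centralizer (V (i + 1) : Set G) : Subgroup G) : Set G)
  EP : E ≤ P
  nE : P ≤ normalizer (E : Set G)
  lE : ∀ s ∈ (S : Subgroup G), s ∈ centralizer (l (i + 1) : Set G) → s ∈ E
  El : ∀ s ∈ (S : Subgroup G), s ∈ E → s ∈ centralizer (l (i + 1) : Set G)

/-- the field `nrm` for a minimal parabolic -/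
theorem LE.nrm_of [Finite G] {S : Sylow 2 G} {P U : Subgroup G} (hP : IsMinPar (S : Subgroup G) P)
    (hU : P ≤ normalizer (U : Set G)) (hm : ¬ P ≤ (P ⊓ centralizer (U : Set G)) ⊔ (S : Subgroup G)) :
    P ≤ normalizer (((S : Subgroup G) ⊓ centralizer (U : Set G) : Subgroup G) : Set G) := by
  have hf : Fact (Nat.Prime 2) := ⟨Nat.prime_two⟩
  have hsyl : Syl (S : Subgroup G) P := ⟨hP.le, S.2, fun R _ hR2 hSR => S.3 hR2 hSR⟩
  have hn : P ≤ normalizer ((P ⊓ centralizer (U : Set G) : Subgroup G) : Set G) :=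
    ThmIq.le_norm_of_conj fun g hg x hx => ⟨P.mul_mem (P.mul_mem hg hx.1) (P.inv_mem hg),
      (mem_normalizer_iff.1 (norm_cent hU hg) x).1 hx.2⟩
  rcases hP.sup_eq_or_inf_le S.2 (syl_not_dvd hsyl) inf_le_left hn with h | h
  · exact absurd h.ge hm
  · have h2 : (S : Subgroup G) ⊓ centralizer (U : Set G) = o2 P ⊓ centralizer (U : Set G) := by
      apply le_antisymm
      · exact le_inf ((le_inf inf_le_left (le_inf (inf_le_left.trans hP.le) inf_le_right)).trans h) inf_le_right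
      · exact inf_le_inf_right _ (o2_le_syl hsyl)
    rw [h2]
    exact ThmIq.le_norm_of_conj fun g hg x hx =>
      ⟨(mem_normalizer_iff.1 (le_normalizer_o2 _ hg) x).1 hx.1,
        (mem_normalizer_iff.1 (norm_cent hU hg) x).1 hx.2⟩

namespace LFr

variable [Finite G] {S : Sylow 2 G} {V Z l : Fin 2 → Subgroup G} (D : LFr S V Z l)

include D

theorem CC_inf_eq (i : Fin 2) : CC Z i ⊓ CC Z (i + 1) = centralizer (zc (S : Subgroup G) : Set G) := by
  apply le_antisymm
  · rintro c ⟨h0, h1⟩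
    have key : ∀ j, c ∈ CC Z j := by
      intro j
      by_cases hj : i = j
      · exact hj ▸ h0
      · rw [eq_add_one hj] at *
        exact h1
    rw [D.zT]
    have h2 : Z 0 ⊔ Z 1 ≤ centralizer ({c} : Set G) := by
      refine sup_le (fun x hx => ?_) (fun x hx => ?_)
      · exact mem_centralizer_singleton_iff.2 (mem_centralizer_iff.1 (key 0) x hx)
      · exact mem_centralizer_singleton_iff.2 (mem_centralizer_iff.1 (key 1) x hx)
    rw [mem_centralizer_iff]
    exact fun x hx => mem_centralizer_singleton_iff.1 (h2 hx)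
  · exact le_inf (centralizer_le (D.Z_le_zc _)) (centralizer_le (D.Z_le_zc _))

theorem qq_le_O (i : Fin 2) : TwoZ.QQ Z i ≤ o2 (centralizer (zc (S : Subgroup G) : Set G)) :=
  le_o2 ((D.Q_le_S i).trans (le_centralizer_zc _)) (o2_isPGroup _)
    ((centralizer_le (D.Z_le_zc i)).trans (le_normalizer_o2 _))

theorem O_le_S : o2 (centralizer (zc (S : Subgroup G) : Set G)) ≤ (S : Subgroup G) :=
  o2_le_syl (D.syl (le_centralizer_zc _))

theorem TN_le_O (i : Fin 2) : TwoZ.NN Z i ≤ o2 (centralizer (zc (S : Subgroup G) : Set G)) :=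
  (D.TN_le_Q i).trans (D.qq_le_O i)

/-- **(NO)** on `N_i` for `B ≤ O` -/
theorem no_N (hML : ML.Final.MLK.{u, u}) {i : Fin 2} (hK : IsKGroup (CC Z i)) {B : Subgroup G}
    (hB : B ≤ o2 (centralizer (zc (S : Subgroup G) : Set G))) (hB2 : ∀ b ∈ B, b ^ 2 = 1) :
    (centralizer (TwoZ.NN Z i : Set G)).relIndex B ≤ (centralizer (B : Set G)).relIndex (TwoZ.NN Z i) := by
  refine FlagNO.flag_no hML D.S2 (D.S_le_C i) (syl_not_dvd (D.syl (D.S_le_C i))) (D.S_le_C (i + 1)) hK
    (D.TN_sq i) ?_ hB2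
  have h := D.CC_inf_eq i
  rw [show (centralizer (Z i : Set G) ⊓ centralizer (Z (i + 1) : Set G) : Subgroup G) =
    centralizer (zc (S : Subgroup G) : Set G) from h]
  exact hB

theorem mx_eq (hML : ML.Final.MLK.{u, u}) {i : Fin 2} (hK : IsKGroup (CC Z i)) {A : Subgroup G}
    (hA : Mx (o2 (centralizer (zc (S : Subgroup G) : Set G))) A) :
    (centralizer (TwoZ.NN Z i : Set G)).relIndex A = (centralizer (A : Set G)).relIndex (TwoZ.NN Z i) :=
  le_antisymm (D.no_N hML hK hA.le hA.sq) (hA.thom (D.TN_le_O i) (D.TN_sq i))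

theorem exists_notMem (i : Fin 2) : ∃ v ∈ V i, v ∉ l i := by
  by_contra hc
  push Not at hc
  have h1 := card_le_of_le (show V i ≤ l i from hc)
  have h2 : 1 < Nat.card (l i) := by
    rw [Subgroup.one_lt_card_iff_ne_bot]
    exact fun e => D.ne i (le_bot_iff.1 (e ▸ D.Zl i))
  rw [D.cardV i] at h1
  nlinarith

/-- a maximal `A ≤ O` in `C(l i)` which moves `V i` induces all of `C_S(l i)` on `V i` -/
theorem exists_gen {i : Fin 2} {A : Subgroup G} (hA : Mx (o2 (centralizer (zc (S : Subgroup G) : Set G))) A)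
    (hAl : A ≤ centralizer (l i : Set G)) (hm : ¬ A ≤ centralizer (V i : Set G)) :
    (∀ t ∈ (S : Subgroup G), t ∈ centralizer (l i : Set G) → ∃ a ∈ A, a⁻¹ * t ∈ centralizer (V i : Set G)) ∧
      Nat.card A = Nat.card (l i) * Nat.card (A ⊓ centralizer (V i : Set G) : Subgroup G) := by
  obtain ⟨v, hv, hvl⟩ := D.exists_notMem i
  have hAS : A ≤ (S : Subgroup G) := hA.le.trans D.O_le_S
  have hVO : V i ≤ o2 (centralizer (zc (S : Subgroup G) : Set G)) := (D.VQ i).trans (D.qq_le_O i)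
  have hroot : ∀ t ∈ (S : Subgroup G), t ∈ centralizer (l i : Set G) → t * v * t⁻¹ * v⁻¹ ∈ l i := by
    intro t ht htl
    have h1 := inv_mem (D.root i v hv t ht htl)
    have e : (v * t * v⁻¹ * t⁻¹)⁻¹ = t * v * t⁻¹ * v⁻¹ := by group
    rwa [e] at h1
  have key : ∀ t ∈ (S : Subgroup G), t ∈ centralizer (l i : Set G) → ∀ s ∈ (S : Subgroup G),
      s ∈ centralizer (l i : Set G) → t * v * t⁻¹ * v⁻¹ = s * v * s⁻¹ * v⁻¹ →
        t⁻¹ * s ∈ centralizer (V i : Set G) := by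
    intro t ht htl s hs hsl h
    refine D.reg i _ (mul_mem (inv_mem ht) hs) (mul_mem (inv_mem htl) hsl) v hv hvl ?_
    have h1 : t * v * t⁻¹ = s * v * s⁻¹ := mul_right_cancel h
    calc t⁻¹ * s * v = t⁻¹ * (s * v * s⁻¹) * s := by group
      _ = t⁻¹ * (t * v * t⁻¹) * s := by rw [h1]
      _ = v * (t⁻¹ * s) := by group
  -- `C_{V i}(A) = l i`
  have hfix : V i ⊓ centralizer (A : Set G) = l i := by
    apply le_antisymm
    · rintro x ⟨hx, hxA⟩
      by_contra hxl
      exact hm fun a ha => D.reg i a (hAS ha) (hAl ha) x hx hxl (mem_centralizer_iff.1 hxA a ha)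
    · exact le_inf (D.lV i) (comm_symm hAl)
  have hrel : (centralizer (A : Set G)).relIndex (V i) = Nat.card (l i) := by
    have c1 := card_eq (V i) (centralizer (A : Set G))
    rw [hfix, D.cardV i] at c1
    exact (Nat.eq_of_mul_eq_mul_left Nat.card_pos c1).symm
  have hge : Nat.card (l i) ≤ (centralizer (V i : Set G)).relIndex A := by
    rw [← hrel]
    exact hA.thom hVO (D.sqV i)
  set C : Subgroup A := (centralizer (V i : Set G)).subgroupOf A with hC
  let g : A ⧸ C → l i := fun q => ⟨(q.out : A) * v * ((q.out : A) : G)⁻¹ * v⁻¹,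
    hroot _ (hAS (q.out : A).2) (hAl (q.out : A).2)⟩
  have hg : Function.Injective g := by
    intro q q' h
    have h2 := key _ (hAS (q.out : A).2) (hAl (q.out : A).2) _ (hAS (q'.out : A).2) (hAl (q'.out : A).2)
      (congrArg Subtype.val h)
    rw [← Quotient.out_eq' q, ← Quotient.out_eq' q']
    exact QuotientGroup.eq.2 (mem_subgroupOf.2 h2)
  have hcard : Nat.card (A ⧸ C) = (centralizer (V i : Set G)).relIndex A := rfl
  have hle : Nat.card (A ⧸ C) ≤ Nat.card (l i) := Nat.card_le_card_of_injective g hg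
  have hbij : Function.Bijective g := hg.bijective_of_nat_card_le (by rw [hcard]; exact hge)
  have heq : (centralizer (V i : Set G)).relIndex A = Nat.card (l i) := le_antisymm (hcard ▸ hle) hge
  refine ⟨fun t ht htl => ?_, ?_⟩
  · obtain ⟨q, hq⟩ := hbij.2 ⟨t * v * t⁻¹ * v⁻¹, hroot t ht htl⟩
    exact ⟨(q.out : A), (q.out : A).2, key _ (hAS (q.out : A).2) (hAl (q.out : A).2) t ht htl
      (congrArg Subtype.val hq)⟩
  · have c1 := card_eq A (centralizer (V i : Set G))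
    rw [heq, mul_comm] at c1
    exact c1

/-- **the data of THEOREM I(q)** on one side -/
theorem gdat (hML : ML.Final.MLK.{u, u}) {i : Fin 2} (hK : IsKGroup (CC Z i))
    (hk3 : ∀ B : Subgroup G, B ≤ o2 (centralizer (zc (S : Subgroup G) : Set G)) → (∀ b ∈ B, b ^ 2 = 1) →
      (∀ j, B ≤ centralizer (l j : Set G)) →
      (centralizer (B : Set G)).relIndex (TwoZ.NN Z i) ≤ (centralizer (TwoZ.NN Z i : Set G)).relIndex B →
      ∀ n ∈ TwoZ.NN Z i, (∀ b ∈ B, b * n * b⁻¹ * n⁻¹ ∈ l i) → ∀ b ∈ B, b * n = n * b)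
    {A P E : Subgroup G} (hA : Mx (o2 (centralizer (zc (S : Subgroup G) : Set G))) A)
    (hAl : ∀ j, A ≤ centralizer (l j : Set G))
    (hm : ¬ A ≤ centralizer (V (i + 1) : Set G)) (hP : LE S V Z l i P E) :
    ThmIq.GDat P (S : Subgroup G) A E (TwoZ.NN Z i) (V (i + 1)) (l i) (l (i + 1)) := by
  have hAS : A ≤ (S : Subgroup G) := hA.le.trans D.O_le_S
  obtain ⟨hgen, hcard⟩ := D.exists_gen hA (hAl (i + 1)) hm
  exact
    { sqN := D.TN_sq i
      sqZ := fun x hx => D.sqV i x (D.lV i hx)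
      NZ := D.TN_le_cl i
      PN := hP.PC.trans (le_normalizer_V _ _)
      PV := hP.PV
      PZ := hP.PC.trans (D.C_le_N i)
      VN := D.VN i
      SP := hP.SP
      two := D.S2
      syl := syl_not_dvd (D.syl hP.SP)
      fix := hAl i
      disj := by
        rw [eq_bot_iff]
        rintro x ⟨hx, hx'⟩
        exact mem_bot.2 (D.dis' (ne_add_one i).symm hx (D.lV i hx'))
      le := D.lV (i + 1)
      ti := fun g _ hgn z hz hgz => by
        by_contra hz1
        exact hgn (mem_norm_iff.2 (D.fuse_eq hz hz1 hgz))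
      mv := hP.mv
      AS := hAS
      AE := fun a ha => hP.lE a (hAS ha) (hAl (i + 1) ha)
      EP := hP.EP
      nE := hP.nE
      comm := fun a ha v hv => by
        have h1 := inv_mem (D.root (i + 1) v hv a (hAS ha) (hAl (i + 1) ha))
        have e : (v * a * v⁻¹ * a⁻¹)⁻¹ = a * v * a⁻¹ * v⁻¹ := by group
        rwa [e] at h1
      cent := hAl (i + 1)
      gen := fun s hs hsE => hgen s hs (hP.El s hs hsE)
      nrm := hP.nrm
      reg := fun a ha ham v hv hav => by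
        by_contra hvl
        exact ham (D.reg (i + 1) a (hAS ha) (hAl (i + 1) ha) v hv hvl hav)
      ab := comm_of_sq hA.sq
      cardV := D.cardV (i + 1)
      cardA := hcard
      no := fun C hC => D.no_N hML hK (hC.trans hA.le) fun a ha => hA.sq a (hC ha)
      ex := D.mx_eq hML hK hA
      k3 := fun C hC he => hk3 C (hC.trans hA.le) (fun a ha => hA.sq a (hC ha)) (fun j => hC.trans (hAl j)) he.ge }

/-- **THEOREM I(q) over the lines** (helper918 #24444 (F5)): `N_0 ∩ N_1 ≤ l 0 l 1` -/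
theorem inter (hML : ML.Final.MLK.{u, u}) (hK : ∀ i, IsKGroup (CC Z i)) (hP : ∀ i, ∃ P E, LE S V Z l i P E)
    (hAl : ∀ A, Mx (o2 (centralizer (zc (S : Subgroup G) : Set G))) A → ∀ i, A ≤ centralizer (l i : Set G))
    (hg3 : ∀ i, ∃ A : Subgroup G, Mx (o2 (centralizer (zc (S : Subgroup G) : Set G))) A ∧ A ≤ TwoZ.QQ Z i ∧
      ¬ A ≤ centralizer (V i : Set G))
    (hk3 : ∀ (i : Fin 2) (B : Subgroup G), B ≤ o2 (centralizer (zc (S : Subgroup G) : Set G)) →
      (∀ b ∈ B, b ^ 2 = 1) → (∀ j, B ≤ centralizer (l j : Set G)) →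
      (centralizer (B : Set G)).relIndex (TwoZ.NN Z i) ≤ (centralizer (TwoZ.NN Z i : Set G)).relIndex B →
      ∀ n ∈ TwoZ.NN Z i, (∀ b ∈ B, b * n * b⁻¹ * n⁻¹ ∈ l i) → ∀ b ∈ B, b * n = n * b) :
    PT.NN l (l 0) ⊓ PT.NN l (l 1) ≤ l 0 ⊔ l 1 := by
  rw [D.NN_eq, D.NN_eq]
  have h10 : (1 : Fin 2) + 1 = 0 := rfl
  have h01 : (0 : Fin 2) + 1 = 1 := rfl
  obtain ⟨A, hA, hAQ, hAm⟩ := hg3 1
  obtain ⟨A', hA', hAQ', hAm'⟩ := hg3 0
  obtain ⟨P, E, hE⟩ := hP 0
  obtain ⟨P', E', hE'⟩ := hP 1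
  have F := D.gdat hML (hK 0) (hk3 0) hA (hAl A hA) (by rw [h01]; exact hAm) hE
  have F' := D.gdat hML (hK 1) (hk3 1) hA' (hAl A' hA') (by rw [h10]; exact hAm') hE'
  rw [h01] at F
  rw [h10] at F'
  refine ThmIq.inter_le F F' (hAQ.trans (D.Q_cent_TN 1)) (hAQ'.trans (D.Q_cent_TN 0)) (D.Sl 0) (D.Sl 1) ?_
  intro x hx hxS
  have h1 : (TwoZ.NN Z 0 ⊓ TwoZ.NN Z 1) ⊔ (l 0 ⊔ l 1) ≤ TwoZ.NN Z 0 ⊔ l 0 :=
    sup_le (inf_le_left.trans le_sup_left) (sup_le le_sup_right (((D.lV 1).trans (D.VN 0)).trans le_sup_left))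
  have h2 : TwoZ.NN Z 0 ⊔ l 0 ≤ (S : Subgroup G) :=
    sup_le ((D.TN_le_Q 0).trans (D.Q_le_S 0)) (((D.lV 0).trans (D.VQ 0)).trans (D.Q_le_S 0))
  have h3 : x ∈ zc (S : Subgroup G) := mem_zc.2 ⟨h2 (h1 hx), fun b hb => mem_centralizer_iff.1 hxS b hb,
    ThmIq.sq_sup_of (D.TN_le_cl 0) (D.TN_sq 0) (fun x hx => D.sqV 0 x (D.lV 0 hx)) x (h1 hx)⟩
  rw [D.zT] at h3
  exact sup_le_sup (D.Zl 0) (D.Zl 1) h3

end LFr

end Cfsg.Agent.Omega.KL.TwoZ.Line

end

section


/-!
# (F2) over the lines (helper918 #24444 (C)): the maximal `A ≤ O₂(C_G(Ω₁Z(S)))` centralise the lines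

**`LFr.mx_le_cl`** : `Mx O A → A ≤ C(l i)`; no coordinates: `S` is cyclic on `l i`, `C_S(l i)` acts regularly and the
lines on `V i` are pairwise disjoint.
-/

set_option autoImplicit false
set_option linter.unusedSectionVars false

namespace Cfsg.Agent.Omega.KL.TwoZ.Line

open Subgroup Cfsg Cfsg.Agent.Omega.MinPar
open Cfsg.Agent.ZN (o2 zc)
open Cfsg.Agent.Omega.NoFF.Basic (conj_conj mem_conj conj_le_iff comm_symm)
open Cfsg.Agent.Omega.NoFF.ThmJFam (card_sup_inf card_conj)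
open Cfsg.Agent.Omega.TC.LemZ (card_eq)
open Cfsg.Agent.Omega.KL.TwoS (Mx comm_of_sq)
open Cfsg.Agent.Omega.OM
open scoped Pointwise

universe u

variable {G : Type u} [Group G]

/-- two elements which act on `l` as elements of a cyclic group and have trivial squares -/
theorem cyc_two {t0 : G} {l : Subgroup G} (ht0 : t0 ∈ normalizer (l : Set G)) {a t : G} {m n : ℤ}
    (ha : a * a = 1) (ht : t * t = 1) (ham : ∀ v ∈ l, a * v * a⁻¹ = t0 ^ m * v * (t0 ^ m)⁻¹)
    (htn : ∀ v ∈ l, t * v * t⁻¹ = t0 ^ n * v * (t0 ^ n)⁻¹) (htl : t ∉ centralizer (l : Set G)) :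
    a ∈ centralizer (l : Set G) ∨ a * t ∈ centralizer (l : Set G) := by
  have mem_c : ∀ g : G, g ∈ centralizer (l : Set G) ↔ ∀ v ∈ l, g * v * g⁻¹ = v := by
    intro g
    rw [mem_centralizer_iff]
    constructor
    · intro h v hv
      rw [← h v hv, mul_inv_cancel_right]
    · intro h v hv
      calc v * g = (g * v * g⁻¹) * g := by rw [h v hv]
        _ = g * v := by group
  let H : AddSubgroup ℤ :=
    { carrier := {k | t0 ^ k ∈ centralizer (l : Set G)}
      zero_mem' := by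
        show t0 ^ (0 : ℤ) ∈ centralizer (l : Set G)
        rw [zpow_zero]
        exact one_mem _
      add_mem' := fun {a b} (ha : t0 ^ a ∈ centralizer (l : Set G)) (hb : t0 ^ b ∈ centralizer (l : Set G)) => by
        show t0 ^ (a + b) ∈ centralizer (l : Set G)
        rw [zpow_add]
        exact mul_mem ha hb
      neg_mem' := fun {a} (ha : t0 ^ a ∈ centralizer (l : Set G)) => by
        show t0 ^ (-a) ∈ centralizer (l : Set G)
        rw [zpow_neg]
        exact inv_mem ha }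
  have hln : ∀ (k : ℤ), ∀ v ∈ l, t0 ^ k * v * (t0 ^ k)⁻¹ ∈ l := fun k v hv =>
    (mem_normalizer_iff.1 (zpow_mem ht0 k) v).1 hv
  have dbl : ∀ (g : G) (k : ℤ), g * g = 1 → (∀ v ∈ l, g * v * g⁻¹ = t0 ^ k * v * (t0 ^ k)⁻¹) → k + k ∈ H := by
    intro g k hg hgk
    show t0 ^ (k + k) ∈ centralizer (l : Set G)
    rw [mem_c]
    intro v hv
    have h1 := hgk _ (hln k v hv)
    rw [← hgk v hv] at h1
    have e1 : g * (g * v * g⁻¹) * g⁻¹ = v := by
      calc g * (g * v * g⁻¹) * g⁻¹ = (g * g) * v * (g * g)⁻¹ := by group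
        _ = v := by rw [hg]; group
    rw [e1, hgk v hv] at h1
    rw [zpow_add]
    calc t0 ^ k * t0 ^ k * v * (t0 ^ k * t0 ^ k)⁻¹ = t0 ^ k * (t0 ^ k * v * (t0 ^ k)⁻¹) * (t0 ^ k)⁻¹ := by group
      _ = v := h1.symm
  have toC : ∀ (g : G) (k : ℤ), (∀ v ∈ l, g * v * g⁻¹ = t0 ^ k * v * (t0 ^ k)⁻¹) → k ∈ H →
      g ∈ centralizer (l : Set G) := by
    intro g k hgk hk
    rw [mem_c]
    intro v hv
    rw [hgk v hv]
    exact (mem_c _).1 hk v hv
  obtain ⟨N, hN⟩ := Int.subgroup_cyclic H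
  have mem_H : ∀ k : ℤ, k ∈ H ↔ ∃ c : ℤ, c * N = k := by
    intro k
    rw [hN, AddSubgroup.mem_closure_singleton]
    simp only [smul_eq_mul]
  obtain ⟨α, hα⟩ := (mem_H _).1 (dbl a m ha ham)
  obtain ⟨β, hβ⟩ := (mem_H _).1 (dbl t n ht htn)
  rcases Int.even_or_odd' α with ⟨α', h | h⟩
  · left
    refine toC a m ham ((mem_H _).2 ⟨α', ?_⟩)
    rw [h] at hα
    linarith
  · rcases Int.even_or_odd' β with ⟨β', h' | h'⟩
    · exfalso
      refine htl (toC t n htn ((mem_H _).2 ⟨β', ?_⟩))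
      rw [h'] at hβ
      linarith
    · right
      refine toC (a * t) (m + n) (fun v hv => ?_) ((mem_H _).2 ⟨α' + β' + 1, ?_⟩)
      · have e1 : a * t * v * (a * t)⁻¹ = a * (t * v * t⁻¹) * a⁻¹ := by group
        rw [e1, htn v hv, ham _ (hln n v hv), zpow_add]
        group
      · rw [h] at hα
        rw [h'] at hβ
        linarith

namespace LFr

variable [Finite G] {S : Sylow 2 G} {V Z l : Fin 2 → Subgroup G} (D : LFr S V Z l)

include D

/-- elements of `C_S(l i)` with the same commutator with one `v ∈ V i - l i` agree on `V i` -/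
theorem reg_key {i : Fin 2} {v : G} (hv : v ∈ V i) (hvl : v ∉ l i) {t s : G} (ht : t ∈ (S : Subgroup G))
    (htl : t ∈ centralizer (l i : Set G)) (hs : s ∈ (S : Subgroup G)) (hsl : s ∈ centralizer (l i : Set G))
    (h : t * v * t⁻¹ * v⁻¹ = s * v * s⁻¹ * v⁻¹) : t⁻¹ * s ∈ centralizer (V i : Set G) := by
  refine D.reg i _ (mul_mem (inv_mem ht) hs) (mul_mem (inv_mem htl) hsl) v hv hvl ?_
  have h1 : t * v * t⁻¹ = s * v * s⁻¹ := mul_right_cancel h
  calc t⁻¹ * s * v = t⁻¹ * (s * v * s⁻¹) * s := by group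
    _ = t⁻¹ * (t * v * t⁻¹) * s := by rw [h1]
    _ = v * (t⁻¹ * s) := by group

/-- **(F2)** : the maximal `A ≤ O` centralise the lines -/
theorem mx_le_cl {A : Subgroup G} (hA : Mx (o2 (centralizer (zc (S : Subgroup G) : Set G))) A) (i : Fin 2) :
    A ≤ centralizer (l i : Set G) := by
  by_contra hcon
  obtain ⟨t, htA, htl⟩ := SetLike.not_le_iff_exists.1 hcon
  have hAS : A ≤ (S : Subgroup G) := hA.le.trans D.O_le_S
  have hVO : V i ≤ o2 (centralizer (zc (S : Subgroup G) : Set G)) := (D.VQ i).trans (D.qq_le_O i)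
  have hcm : ∀ a ∈ A, ∀ b ∈ A, a * b = b * a := fun a ha b hb => mem_centralizer_iff.1 (comm_of_sq hA.sq hb) a ha
  have hVc : ∀ x ∈ V i, ∀ y ∈ V i, x * y = y * x := fun x hx y hy => D.V_comm i hx hy
  have hsq : ∀ a ∈ A, a * a = 1 := fun a ha => by rw [← pow_two]; exact hA.sq a ha
  obtain ⟨t0, ht0, hc⟩ := D.cyc i
  set q := Nat.card (l i) with hq
  -- `|A : C_A(l)| = 2`
  have h2 : (centralizer (l i : Set G)).relIndex A = 2 := by
    rw [Subgroup.relIndex_eq_two_iff]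
    refine ⟨t, htA, fun b hb => ?_⟩
    obtain ⟨m, hm⟩ := hc b (hAS hb)
    obtain ⟨n, hn⟩ := hc t (hAS htA)
    rcases cyc_two (D.Sl i ht0) (hsq b hb) (hsq t htA) hm hn htl with h | h
    · refine Or.inr ⟨h, fun h' => htl ?_⟩
      have := mul_mem (inv_mem h) h'
      rwa [inv_mul_cancel_left] at this
    · refine Or.inl ⟨h, fun h' => htl ?_⟩
      have := mul_mem (inv_mem h') h
      rwa [inv_mul_cancel_left] at this
  obtain ⟨v, hv, hvl⟩ := D.exists_notMem i
  obtain ⟨v0, hv0, hv0l, hv0S⟩ := ThmIq.exists_coset (S := (S : Subgroup G)) (K := V i) (K0 := l i) D.S2 (D.sqV i)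
    (fun h => hvl (h hv)) (D.nV i) (D.Sl i)
  set f := Nat.card (l i ⊓ centralizer ({t} : Set G) : Subgroup G) with hf
  have mem_ct : ∀ x : G, x ∈ centralizer ({t} : Set G) ↔ t * x = x * t := by
    intro x
    rw [mem_centralizer_singleton_iff]
    exact eq_comm
  -- `2 f ≤ q`
  have hf2 : 2 * f ≤ q := by
    have c1 := card_eq (l i) (centralizer ({t} : Set G))
    have c2 : (centralizer ({t} : Set G)).relIndex (l i) ≠ 1 := by
      intro h
      rw [relIndex_eq_one] at h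
      exact htl (mem_centralizer_iff.2 fun x hx => ((mem_ct x).1 (h hx)).symm)
    have c3 : (centralizer ({t} : Set G)).relIndex (l i) ≠ 0 := (TwoS.relIndex_pos _ _).ne'
    have c4 : 2 ≤ (centralizer ({t} : Set G)).relIndex (l i) := by omega
    rw [← hf, ← hq] at c1
    rw [c1, mul_comm]
    exact Nat.mul_le_mul_left f c4
  -- `2 ≤ f`
  have hf1 : 2 ≤ f := by
    have h1 : Z i ≤ l i ⊓ centralizer ({t} : Set G) := by
      refine le_inf (D.Zl i) fun z hz => (mem_ct z).2 ?_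
      exact (mem_centralizer_iff.1 (D.Z_cent_S i hz) t (hAS htA))
    have h2 : 1 < Nat.card (Z i) := by
      rw [Subgroup.one_lt_card_iff_ne_bot]
      exact D.ne i
    exact lt_of_lt_of_le h2 (card_le_of_le h1)
  set A0 : Subgroup G := A ⊓ centralizer (l i : Set G) with hA0
  -- `|A_0 : C(V)| ≤ f`
  have h3 : (centralizer (V i : Set G)).relIndex A0 ≤ f := by
    have hcm2 : ∀ a ∈ A0, a * v0 * a⁻¹ * v0⁻¹ ∈ l i ⊓ centralizer ({t} : Set G) := by
      rintro a ⟨ha, hal⟩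
      have h1 := inv_mem (D.root i v0 hv0 a (hAS ha) hal)
      have e : (v0 * a * v0⁻¹ * a⁻¹)⁻¹ = a * v0 * a⁻¹ * v0⁻¹ := by group
      rw [e] at h1
      refine ⟨h1, (mem_ct _).2 ?_⟩
      set x := t * v0 * t⁻¹ * v0⁻¹ with hx
      have hxl : x ∈ l i := hv0S t (hAS htA)
      have e1 : t * v0 * t⁻¹ = x * v0 := by rw [hx]; group
      have hta : t * a * t⁻¹ = a := by rw [hcm t htA a ha, mul_inv_cancel_right]
      have hax : a * x * a⁻¹ = x := by
        rw [← mem_centralizer_iff.1 hal x hxl, mul_inv_cancel_right]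
      have e2 : t * (a * v0 * a⁻¹ * v0⁻¹) * t⁻¹ =
          (t * a * t⁻¹) * (t * v0 * t⁻¹) * (t * a * t⁻¹)⁻¹ * (t * v0 * t⁻¹)⁻¹ := by group
      have e3 : t * (a * v0 * a⁻¹ * v0⁻¹) * t⁻¹ = x * (a * v0 * a⁻¹ * v0⁻¹) * x⁻¹ := by
        rw [e2, hta, e1]
        calc a * (x * v0) * a⁻¹ * (x * v0)⁻¹ = (a * x * a⁻¹) * (a * v0 * a⁻¹) * v0⁻¹ * x⁻¹ := by group
          _ = x * (a * v0 * a⁻¹) * v0⁻¹ * x⁻¹ := by rw [hax]
          _ = _ := by group
      have e4 : x * (a * v0 * a⁻¹ * v0⁻¹) = (a * v0 * a⁻¹ * v0⁻¹) * x :=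
        hVc x (D.lV i hxl) _ (D.lV i h1)
      rw [e4, mul_inv_cancel_right] at e3
      calc t * (a * v0 * a⁻¹ * v0⁻¹) = (t * (a * v0 * a⁻¹ * v0⁻¹) * t⁻¹) * t := by group
        _ = _ := by rw [e3]
    set C : Subgroup A0 := (centralizer (V i : Set G)).subgroupOf A0 with hC
    let g : A0 ⧸ C → (l i ⊓ centralizer ({t} : Set G) : Subgroup G) :=
      fun r => ⟨(r.out : A0) * v0 * ((r.out : A0) : G)⁻¹ * v0⁻¹, hcm2 _ (r.out : A0).2⟩
    have hg : Function.Injective g := by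
      intro r r' h
      have h4 := D.reg_key hv0 hv0l (hAS (r.out : A0).2.1) (r.out : A0).2.2 (hAS (r'.out : A0).2.1)
        (r'.out : A0).2.2 (congrArg Subtype.val h)
      rw [← Quotient.out_eq' r, ← Quotient.out_eq' r']
      exact QuotientGroup.eq.2 (mem_subgroupOf.2 h4)
    exact Nat.card_le_card_of_injective g hg
  -- `|A : C_A(V)| = 2 |A_0 : C_{A_0}(V)|`
  have hVl : centralizer (V i : Set G) ≤ centralizer (l i : Set G) := centralizer_le (D.lV i)
  have h4 : (centralizer (V i : Set G)).relIndex A = 2 * (centralizer (V i : Set G)).relIndex A0 := by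
    have c1 := card_eq A (centralizer (V i : Set G))
    have c2 := card_eq A0 (centralizer (V i : Set G))
    have c3 := card_eq A (centralizer (l i : Set G))
    have e : A0 ⊓ centralizer (V i : Set G) = A ⊓ centralizer (V i : Set G) := by
      apply le_antisymm
      · exact inf_le_inf_right _ inf_le_left
      · exact le_inf (le_inf inf_le_left (inf_le_right.trans hVl)) inf_le_right
    rw [e] at c2
    rw [h2, ← hA0, c1, c2, mul_assoc, mul_comm _ 2] at c3
    exact Nat.eq_of_mul_eq_mul_left Nat.card_pos c3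
  have hth := hA.thom hVO (D.sqV i)
  have cV := card_eq (V i) (centralizer (A : Set G))
  rw [D.cardV i, ← hq] at cV
  by_cases hA0V : A0 ≤ centralizer (V i : Set G)
  · -- `A_0` centralises `V`
    have h5 : (centralizer (V i : Set G)).relIndex A0 = 1 := relIndex_eq_one.2 hA0V
    rw [h4, h5, mul_one] at hth
    set W : Subgroup G := V i ⊓ centralizer ({t} : Set G) with hW
    have hWV : W ≤ V i := inf_le_left
    have hAW : V i ⊓ centralizer (A : Set G) ≤ W := by
      refine inf_le_inf_left _ fun x hx => (mem_ct x).2 ?_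
      exact mem_centralizer_iff.1 hx t htA
    have hWc : q * q ≤ Nat.card W * 2 := by
      rw [cV]
      exact Nat.mul_le_mul (card_le_of_le hAW) hth
    have hWl : W ⊓ l i = l i ⊓ centralizer ({t} : Set G) := by
      apply le_antisymm
      · exact le_inf inf_le_right (inf_le_left.trans inf_le_right)
      · exact le_inf (le_inf (inf_le_left.trans (D.lV i)) inf_le_right) inf_le_left
    have hlW : l i ≤ centralizer (W : Set G) := fun x hx => mem_centralizer_iff.2 fun y hy =>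
      hVc y (hWV hy) x (D.lV i hx)
    -- `V = W l`
    have hsup : V i ≤ W ⊔ l i := by
      have c5 := card_sup_inf (A := W) (B := l i) (comm_symm hlW)
      rw [hWl, ← hf, ← hq] at c5
      have hle : W ⊔ l i ≤ V i := sup_le hWV (D.lV i)
      have c7 : q * q ≤ Nat.card (W ⊔ l i : Subgroup G) := by
        set c := Nat.card (W ⊔ l i : Subgroup G) with hcdef
        have hq0 : 0 < q := Nat.card_pos
        have d1 : q * q * q ≤ c * q := by
          calc q * q * q ≤ (Nat.card W * 2) * q := Nat.mul_le_mul_right q hWc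
            _ = (Nat.card W * q) * 2 := by ring
            _ = (c * f) * 2 := by rw [c5]
            _ = c * (2 * f) := by ring
            _ ≤ c * q := Nat.mul_le_mul_left c hf2
        exact Nat.le_of_mul_le_mul_right d1 hq0
      exact (Subgroup.eq_of_le_of_card_ge hle (by rw [D.cardV i]; exact c7)).ge
    have hVt : ∀ y ∈ V i, t * y * t⁻¹ * y⁻¹ ∈ l i := by
      intro y hy
      obtain ⟨w, hw, x, hx, rfl⟩ := ThmIq.exists_mul_sup (comm_symm hlW) (hsup hy)
      have hw2 := (mem_ct w).1 hw.2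
      have e : t * (w * x) * t⁻¹ * (w * x)⁻¹ = (t * w) * x * t⁻¹ * x⁻¹ * w⁻¹ := by group
      have e2 : (t * w) * x * t⁻¹ * x⁻¹ * w⁻¹ = w * (t * x * t⁻¹ * x⁻¹) * w⁻¹ := by rw [hw2]; group
      have hxt : t * x * t⁻¹ * x⁻¹ ∈ l i :=
        mul_mem ((mem_normalizer_iff.1 (D.Sl i (hAS htA)) x).1 hx) (inv_mem hx)
      rw [e, e2, hVc w (hWV hw) _ (D.lV i hxt), mul_inv_cancel_right]
      exact hxt
    -- the line through a `t`-fixed vector
    have hpt : PT.IsPt l (l i) := ⟨i, 1, by rw [map_one, one_smul]⟩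
    have line : ∀ w ∈ W, w ∉ l i → ∃ k : G, MulAut.conj k • l i ≤ W ∧ w ∈ MulAut.conj k • l i := by
      intro w hw hwl
      have hw1 : w ≠ 1 := fun h => hwl (h ▸ one_mem _)
      obtain ⟨k, hkV, hwk⟩ := D.pts i w hw.1 hw1
      refine ⟨k, fun y hy => ⟨hkV hy, (mem_ct y).2 ?_⟩, hwk⟩
      have hk1 : PT.IsPt l (MulAut.conj k • l i) := ⟨i, k, rfl⟩
      have hk2 : PT.IsPt l (MulAut.conj t • (MulAut.conj k • l i)) := ⟨i, t * k, by rw [conj_conj]⟩
      have h6 : MulAut.conj t • (MulAut.conj k • l i) = MulAut.conj k • l i := by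
        by_contra hne
        have h7 := D.ti _ _ hk2 hk1 hne
        have h8 : w ∈ MulAut.conj t • (MulAut.conj k • l i) ⊓ MulAut.conj k • l i := by
          refine mem_inf.2 ⟨mem_conj.2 ?_, hwk⟩
          have hw3 := (mem_ct w).1 hw.2
          have e : t⁻¹ * w * t = w := by
            calc t⁻¹ * w * t = t⁻¹ * (w * t) := by group
              _ = w := by rw [← hw3]; group
          rw [e]
          exact hwk
        rw [h7, mem_bot] at h8
        exact hw1 h8
      have h9 : t * y * t⁻¹ ∈ MulAut.conj k • l i := by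
        rw [← h6]
        exact conj_mem hy
      have h10 : t * y * t⁻¹ * y⁻¹ ∈ MulAut.conj k • l i ⊓ l i := mem_inf.2 ⟨mul_mem h9 (inv_mem hy), hVt y (hkV hy)⟩
      have h11 : MulAut.conj k • l i ⊓ l i = ⊥ := D.ti _ _ hk1 hpt (fun h => hwl (h ▸ hwk))
      rw [h11, mem_bot, mul_inv_eq_one] at h10
      calc t * y = (t * y * t⁻¹) * t := by group
        _ = y * t := by rw [h10]
    obtain ⟨w, hwW, hwl⟩ : ∃ w ∈ W, w ∉ l i := by
      by_contra hc2
      push Not at hc2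
      have h6 : W ≤ W ⊓ l i := le_inf le_rfl hc2
      rw [hWl] at h6
      have h7 := card_le_of_le h6
      rw [← hf] at h7
      have h8 : q * q ≤ q := by
        calc q * q ≤ Nat.card W * 2 := hWc
          _ ≤ f * 2 := Nat.mul_le_mul_right 2 h7
          _ = 2 * f := mul_comm _ _
          _ ≤ q := hf2
      nlinarith
    obtain ⟨z, hz, hz1⟩ := D.exists_ne i
    have hzl : z ∈ l i := D.Zl i hz
    have hzW : z ∈ W := ⟨D.ZV i hz, (mem_ct z).2 (mem_centralizer_iff.1 (D.Z_cent_S i hz) t (hAS htA))⟩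
    obtain ⟨k, hk, hwk⟩ := line w hwW hwl
    obtain ⟨k', hk', hwk'⟩ := line (z * w) (mul_mem hzW hwW) (fun h => hwl (by
      have := mul_mem (inv_mem hzl) h
      rwa [inv_mul_cancel_left] at this))
    have hne : MulAut.conj k • l i ≠ MulAut.conj k' • l i := by
      intro h
      have h6 : z ∈ MulAut.conj k • l i := by
        have := mul_mem (h ▸ hwk' : z * w ∈ MulAut.conj k • l i) (inv_mem hwk)
        rwa [mul_inv_cancel_right] at this
      by_cases h7 : MulAut.conj k • l i = l i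
      · exact hwl (h7 ▸ hwk)
      · have h8 := D.ti _ _ ⟨i, k, rfl⟩ hpt h7
        have h9 : z ∈ MulAut.conj k • l i ⊓ l i := mem_inf.2 ⟨h6, hzl⟩
        rw [h8, mem_bot] at h9
        exact hz1 h9
    have hbot := D.ti _ _ ⟨i, k, rfl⟩ ⟨i, k', rfl⟩ hne
    have hcc : MulAut.conj k • l i ≤ centralizer ((MulAut.conj k' • l i : Subgroup G) : Set G) := fun x hx =>
      mem_centralizer_iff.2 fun y hy => hVc y (hWV (hk' hy)) x (hWV (hk hx))
    have c8 := card_sup_inf hcc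
    rw [hbot, Subgroup.card_bot, mul_one, card_conj, card_conj, ← hq] at c8
    have h12 : V i ≤ W := by
      have h13 : MulAut.conj k • l i ⊔ MulAut.conj k' • l i ≤ W := sup_le hk hk'
      have h14 := card_le_of_le h13
      rw [c8] at h14
      exact (Subgroup.eq_of_le_of_card_ge hWV (by rw [D.cardV i]; exact h14)).ge
    exact htl (mem_centralizer_iff.2 fun x hx => ((mem_ct x).1 (h12 (D.lV i hx)).2).symm)
  · -- `A_0` moves `V`
    have h5 : V i ⊓ centralizer (A : Set G) ≤ l i ⊓ centralizer ({t} : Set G) := by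
      rintro x ⟨hx, hxA⟩
      refine ⟨?_, (mem_ct x).2 (mem_centralizer_iff.1 hxA t htA)⟩
      by_contra hxl
      exact hA0V fun a ha => D.reg i a (hAS ha.1) ha.2 x hx hxl (mem_centralizer_iff.1 hxA a ha.1)
    have h6 := card_le_of_le h5
    rw [← hf] at h6
    rw [h4] at hth
    have h7 : q * q ≤ f * (2 * f) := by
      rw [cV]
      exact Nat.mul_le_mul h6 (hth.trans (Nat.mul_le_mul_left 2 h3))
    nlinarith

/-- **THEOREM I(q) over the lines**, (F2) plugged -/
theorem inter' (hML : ML.Final.MLK.{u, u}) (hK : ∀ i, IsKGroup (TwoZ.CC Z i)) (hP : ∀ i, ∃ P E, LE S V Z l i P E)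
    (hg3 : ∀ i, ∃ A : Subgroup G, Mx (o2 (centralizer (zc (S : Subgroup G) : Set G))) A ∧ A ≤ TwoZ.QQ Z i ∧
      ¬ A ≤ centralizer (V i : Set G))
    (hk3 : ∀ (i : Fin 2) (B : Subgroup G), B ≤ o2 (centralizer (zc (S : Subgroup G) : Set G)) →
      (∀ b ∈ B, b ^ 2 = 1) → (∀ j, B ≤ centralizer (l j : Set G)) →
      (centralizer (B : Set G)).relIndex (TwoZ.NN Z i) ≤ (centralizer (TwoZ.NN Z i : Set G)).relIndex B →
      ∀ n ∈ TwoZ.NN Z i, (∀ b ∈ B, b * n * b⁻¹ * n⁻¹ ∈ l i) → ∀ b ∈ B, b * n = n * b) :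
    PT.NN l (l 0) ⊓ PT.NN l (l 1) ≤ l 0 ⊔ l 1 :=
  D.inter hML hK hP (fun _ hA i => D.mx_le_cl hA i) hg3 hk3

end LFr

end Cfsg.Agent.Omega.KL.TwoZ.Line

end

section


/-!
# `LE` from 640's `NatS`: the data of THEOREM I(q) over the lines
-/

set_option autoImplicit false
set_option linter.unusedSectionVars false

namespace Cfsg.Agent.Omega.KL.TwoZ.Line

open Subgroup Cfsg Cfsg.Agent.Omega.MinPar
open Cfsg.Agent.ZN (o2 zc)
open Cfsg.Agent.MinSimple.MinParabolic (IsMinPar)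
open Cfsg.Agent.MinSimple.VModule (oddGen oddGen_def)
open Cfsg.Agent.Omega.NOThreeL.RRed (NatS)
open Cfsg.Agent.Omega.NoFF.Basic (conj_conj mem_conj conj_le_iff comm_symm)
open Cfsg.Agent.Omega.NoFF.ThmJFam (card_conj conj_inf)
open Cfsg.Agent.Omega.NOThreeL.Pair (conj_eq_of_mem)
open Cfsg.Agent.ZN.ChoiceSit (Syl exists_syl syl_conj)
open Cfsg.Agent.Omega.TC.LemZ (norm_cent)
open Cfsg.Agent.Omega.KL.TwoS (Mx)
open Cfsg.Agent.Omega.KL.TwoZ (CC)
open Cfsg.Agent.Omega.OM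
open scoped Pointwise

universe u

variable {G : Type u} [Group G] [Finite G] {S : Sylow 2 G} {V Z l : Fin 2 → Subgroup G}

/-- **the data of THEOREM I(q) over the lines from the coordinates of `V (i+1)`** -/
theorem LFr.le_of_natS (D : LFr S V Z l) {i : Fin 2} {F : Type} [Field F] [Finite F] [CharP F 2] {P W : Subgroup G}
    (N : NatS F (S : Subgroup G) P (V (i + 1)) W (l (i + 1))) (hW : Z i ≤ W)
    (hP : IsMinPar (S : Subgroup G) P) : LE S V Z l i P N.E := by
  have hmv : ¬ P ≤ normalizer (l (i + 1) : Set G) := by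
    intro h
    obtain ⟨v, hv, hvl⟩ := D.exists_notMem (i + 1)
    obtain ⟨z, hz, hz1⟩ := D.exists_ne (i + 1)
    obtain ⟨g, hg, hgv⟩ := N.trans hv (fun h' => hvl (h' ▸ one_mem _)) (D.ZV _ hz) hz1 (D.Z_cent_S _ hz)
    have hgP : g ∈ P := (by
      rw [oddGen_def] at hg
      exact (closure_le _).2 (fun x hx => hx.1) hg)
    apply hvl
    have h1 := (mem_normalizer_iff.1 (h hgP) v).2
    exact h1 (by rw [hgv]; exact D.Zl _ hz)
  refine
    { SP := N.SP
      PC := ?_
      PV := N.nV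
      mv := hmv
      nrm := LE.nrm_of hP N.nV fun h => hmv (h.trans (sup_le ?_ (D.Sl (i + 1))))
      EP := N.E_le
      nE := N.E_norm
      lE := fun s hs hsl => N.cl_le_E hs hsl
      El := fun s hs hsE => N.E_cl hs hsE }
  · rw [← Star.Core.oddGen_sup N.SP N.syl]
    exact sup_le (N.odd_le.trans (centralizer_le hW)) (D.S_le_C i)
  · exact inf_le_right.trans ((centralizer_le (D.lV _)).trans (centralizer_le_normalizer _))

/-- Frattini: `P = C_P(U) N_P(S ∩ C(U))` -/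
theorem frat_of {P U : Subgroup G} (hSP : (S : Subgroup G) ≤ P) (hU : P ≤ normalizer (U : Set G)) {g : G}
    (hg : g ∈ P) : ∃ k ∈ P ⊓ centralizer (U : Set G),
      k⁻¹ * g ∈ normalizer (((S : Subgroup G) ⊓ centralizer (U : Set G) : Subgroup G) : Set G) := by
  set K : Subgroup G := P ⊓ centralizer (U : Set G) with hK
  set T : Subgroup G := (S : Subgroup G) ⊓ centralizer (U : Set G) with hT
  have hTK : T ≤ K := inf_le_inf_right _ hSP
  have hn0 : P ≤ normalizer (K : Set G) := ThmIq.le_norm_of_conj fun g hg y hy =>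
    mem_inf.2 ⟨P.mul_mem (P.mul_mem hg hy.1) (P.inv_mem hg), (mem_normalizer_iff.1 (norm_cent hU hg) y).1 hy.2⟩
  have hn : ∀ x ∈ P, MulAut.conj x • K = K := fun x hx => conj_eq_of_mem (hn0 hx)
  have hsylP : Syl (S : Subgroup G) P := ⟨hSP, S.2, fun R _ hR2 hSR => S.3 hR2 hSR⟩
  have hSK : (S : Subgroup G) ⊓ K = T := by
    rw [hK, ← inf_assoc, inf_eq_left.2 hSP]
  have hsyl : Syl T K := by
    refine ⟨hTK, S.2.to_le inf_le_left, fun Q hQ hQ2 hle => ?_⟩
    obtain ⟨R, hR, hQR⟩ := exists_syl hQ2 (hQ.trans inf_le_left : Q ≤ P)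
    obtain ⟨h, hh, e⟩ := syl_conj hsylP hR
    have e' : MulAut.conj h • (S : Subgroup G) = R := e
    have h1 : Q ≤ MulAut.conj h • T := by
      rw [← hSK, conj_inf, e', hn h hh]
      exact le_inf hQR hQ
    have h2 := card_le_of_le h1
    rw [card_conj] at h2
    exact (Subgroup.eq_of_le_of_card_ge hle h2).symm
  have h1 : MulAut.conj g • T ≤ K := by
    rw [← hn g hg]
    exact conj_le_iff.2 hTK
  obtain ⟨R, hR, hTR⟩ := exists_syl ((S.2.to_le inf_le_left : IsPGroup 2 T).map (MulAut.conj g).toMonoidHom) h1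
  have hTR' : MulAut.conj g • T ≤ R := hTR
  obtain ⟨k, hk, e⟩ := syl_conj hsyl hR
  have e' : MulAut.conj k • T = R := e
  have h2 : MulAut.conj g • T = MulAut.conj k • T := by
    rw [e']
    refine Subgroup.eq_of_le_of_card_ge hTR' ?_
    rw [← e', card_conj, card_conj]
  refine ⟨k, hk, mem_norm_iff.2 ?_⟩
  rw [← conj_conj, h2, conj_conj, inv_mul_cancel, map_one, one_smul]

/-- the same, `P` arbitrary -/
theorem LFr.exists_le_of_natS (D : LFr S V Z l) {i : Fin 2} {F : Type} [Field F] [Finite F] [CharP F 2]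
    {P W : Subgroup G} (N : NatS F (S : Subgroup G) P (V (i + 1)) W (l (i + 1))) (hW : Z i ≤ W) :
    ∃ P' E', LE S V Z l i P' E' := by
  set K : Subgroup G := normalizer (((S : Subgroup G) ⊓ centralizer (V (i + 1) : Set G) : Subgroup G) : Set G) with hK
  have hSK : (S : Subgroup G) ≤ K := ThmIq.le_norm_of_conj fun g hg x hx =>
    mem_inf.2 ⟨(S : Subgroup G).mul_mem ((S : Subgroup G).mul_mem hg hx.1) ((S : Subgroup G).inv_mem hg),
      (mem_normalizer_iff.1 (norm_cent (D.nV (i + 1)) hg) x).1 hx.2⟩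
  have hPC : P ≤ centralizer (Z i : Set G) := by
    rw [← Star.Core.oddGen_sup N.SP N.syl]
    exact sup_le (N.odd_le.trans (centralizer_le hW)) (D.S_le_C i)
  have hmv : ¬ P ≤ normalizer (l (i + 1) : Set G) := by
    intro h
    obtain ⟨v, hv, hvl⟩ := D.exists_notMem (i + 1)
    obtain ⟨z, hz, hz1⟩ := D.exists_ne (i + 1)
    obtain ⟨g, hg, hgv⟩ := N.trans hv (fun h' => hvl (h' ▸ one_mem _)) (D.ZV _ hz) hz1 (D.Z_cent_S _ hz)
    have hgP : g ∈ P := (by
      rw [oddGen_def] at hg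
      exact (closure_le _).2 (fun x hx => hx.1) hg)
    apply hvl
    have h1 := (mem_normalizer_iff.1 (h hgP) v).2
    exact h1 (by rw [hgv]; exact D.Zl _ hz)
  refine ⟨P ⊓ K, N.E ⊓ (P ⊓ K),
    { SP := le_inf N.SP hSK
      PC := inf_le_left.trans hPC
      PV := inf_le_left.trans N.nV
      mv := fun h => hmv fun g hg => ?_
      nrm := inf_le_right
      EP := inf_le_right
      nE := ThmIq.le_norm_of_conj fun g hg x hx => ⟨(mem_normalizer_iff.1 (N.E_norm hg.1) x).1 hx.1,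
        (P ⊓ K).mul_mem ((P ⊓ K).mul_mem hg hx.2) ((P ⊓ K).inv_mem hg)⟩
      lE := fun s hs hsl => ⟨N.cl_le_E hs hsl, N.SP hs, hSK hs⟩
      El := fun s hs hsE => N.E_cl hs hsE.1 }⟩
  obtain ⟨k, hk, hkg⟩ := frat_of N.SP N.nV hg
  have h1 : k⁻¹ * g ∈ P ⊓ K := ⟨P.mul_mem (P.inv_mem hk.1) hg, hkg⟩
  have h2 : k ∈ normalizer (l (i + 1) : Set G) := centralizer_le_normalizer _ (centralizer_le (D.lV _) hk.2)
  have h3 := mul_mem h2 (h h1)
  rwa [mul_inv_cancel_left] at h3

/-- **THEOREM I(q) over the lines from coordinates** -/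
theorem LFr.inter_natS (D : LFr S V Z l) (hML : ML.Final.MLK.{u, u}) (hK : ∀ i, IsKGroup (CC Z i))
    (hN : ∀ i, ∃ (F : Type) (_ : Field F) (_ : Finite F) (_ : CharP F 2) (P : Subgroup G),
      Nonempty (NatS F (S : Subgroup G) P (V i) (V (i + 1)) (l i)))
    (hg3 : ∀ i, ∃ A : Subgroup G, Mx (o2 (centralizer (zc (S : Subgroup G) : Set G))) A ∧ A ≤ TwoZ.QQ Z i ∧
      ¬ A ≤ centralizer (V i : Set G))
    (hk3 : ∀ (i : Fin 2) (B : Subgroup G), B ≤ o2 (centralizer (zc (S : Subgroup G) : Set G)) →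
      (∀ b ∈ B, b ^ 2 = 1) → (∀ j, B ≤ centralizer (l j : Set G)) →
      (centralizer (B : Set G)).relIndex (TwoZ.NN Z i) ≤ (centralizer (TwoZ.NN Z i : Set G)).relIndex B →
      ∀ n ∈ TwoZ.NN Z i, (∀ b ∈ B, b * n * b⁻¹ * n⁻¹ ∈ l i) → ∀ b ∈ B, b * n = n * b) :
    PT.NN l (l 0) ⊓ PT.NN l (l 1) ≤ l 0 ⊔ l 1 :=
  D.inter' hML hK (fun i => by
    obtain ⟨F, iF, iF', iF2, P, ⟨N⟩⟩ := hN (i + 1)
    refine D.exists_le_of_natS N ?_
    rw [PT.add2]
    exact D.ZV i) hg3 hk3

end Cfsg.Agent.Omega.KL.TwoZ.Line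

end
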