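import Cfsg.Agent.Mrg.Omega.KL.TwoZ.LineI
import Cfsg.Agent.Mrg.Omega.KL.TwoM.NoE


/-!
# (K3) over the lines (two natural blocks with field automorphisms; helper918 #24444 (C))

* `LFr.sep_l` : `m ∈ Z (i+1)`, `c m c⁻¹ m⁻¹ ∈ l i` implies `c m c⁻¹ = m`;
* **`LFr.k3`** : `B ≤ O ∩ C(l i)` elementary abelian, exact on `N_i` : `n ∈ N_i`, `[n, B] ≤ l i` implies `[n, B] = 1`
  ((NO) for flags modulo `l i`, helper391's `flag_mod`).
-/

set_option autoImplicit false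
set_option linter.unusedSectionVars false

namespace Cfsg.Agent.Omega.KL.TwoZ.Line

open Subgroup Cfsg Cfsg.Agent.Omega.MinPar
open Cfsg.Agent.ZN (o2 zc)
open Cfsg.Agent.Omega.OM.KTwo (ne_add_one eq_add_one add_one_add_one le_normalizer_V le_V)
open Cfsg.Agent.Omega.NoFF.Basic (conj_conj mem_conj conj_le_iff comm_symm)
open Cfsg.Agent.ZN.ChoiceSit (Syl syl_not_dvd o2_le_syl)
open Cfsg.Agent.MinSimple.VModule (mem_zc zc_le o2_isPGroup o2_le le_o2 le_normalizer_o2 le_centralizer_zc)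
open Cfsg.Agent.Omega.TC.LemZ (card_eq norm_cent)
open Cfsg.Agent.Omega.KL.TwoS (Mx comm_of_sq sq_sup relIndex_le_of_sup relIndex_anti relIndex_pos)
open Cfsg.Agent.Omega.KL.TwoZ (CC)
open Cfsg.Agent.Omega.OM
open scoped Pointwise

universe u

variable {G : Type u} [Group G]

namespace LFr

variable [Finite G] {S : Sylow 2 G} {V Z l : Fin 2 → Subgroup G} (D : LFr S V Z l)

include D

/-- a point meets `m l i`, `m ∈ Z (i+1)`, in `m` only -/
theorem sep_l {i : Fin 2} {c m : G} (hm : m ∈ Z (i + 1)) (h : c * m * c⁻¹ * m⁻¹ ∈ l i) : c * m * c⁻¹ = m := by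
  have hml : m ∈ l (i + 1) := D.Zl _ hm
  have hl : ∀ j, l j ≤ l 0 ⊔ l 1 := by
    intro j
    rcases Fin.exists_fin_two.1 ⟨j, rfl⟩ with e | e
    · rw [e]; exact le_sup_left
    · rw [e]; exact le_sup_right
  have h1 : c * m * c⁻¹ ∈ l 0 ⊔ l 1 := by
    have h2 := mul_mem (hl i h) (hl (i + 1) hml)
    rwa [inv_mul_cancel_right] at h2
  have h3 : ∀ j, c * m * c⁻¹ ∈ l j → c * m * c⁻¹ = m := by
    intro j hj
    by_cases hij : i = j
    · rw [← hij] at hj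
      have h4 : m ∈ l i := by
        have h5 := mul_mem (inv_mem h) hj
        have e : (c * m * c⁻¹ * m⁻¹)⁻¹ * (c * m * c⁻¹) = m := by group
        rwa [e] at h5
      have h6 : m = 1 := D.dis' (ne_add_one i) (D.lV i h4) (D.lV _ hml)
      rw [h6, mul_one, mul_inv_cancel]
    · obtain rfl : j = i + 1 := eq_add_one hij
      have h4 : c * m * c⁻¹ * m⁻¹ ∈ l (i + 1) := mul_mem hj (inv_mem hml)
      have h6 := D.dis' (ne_add_one i) (D.lV i h) (D.lV _ h4)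
      exact mul_inv_eq_one.1 h6
  rcases D.fus2 (MulAut.conj c • l (i + 1)) ⟨i + 1, c, rfl⟩ _ (conj_mem hml) h1 with h2 | h2
  · exact h3 0 h2
  · exact h3 1 h2

/-- **(K3) over the lines** -/
theorem k3 (hML : ML.Final.MLK.{u, u}) {i : Fin 2} (hK : IsKGroup (CC Z i)) {B : Subgroup G}
    (hB : B ≤ o2 (centralizer (zc (S : Subgroup G) : Set G))) (hB2 : ∀ b ∈ B, b ^ 2 = 1)
    (hBl : B ≤ centralizer (l i : Set G))
    (he : (centralizer (B : Set G)).relIndex (TwoZ.NN Z i) ≤ (centralizer (TwoZ.NN Z i : Set G)).relIndex B) :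
    ∀ n ∈ TwoZ.NN Z i, (∀ b ∈ B, b * n * b⁻¹ * n⁻¹ ∈ l i) → ∀ b ∈ B, b * n = n * b := by
  have hMc : TwoZ.NN Z i ⊔ l i ≤ centralizer ((TwoZ.NN Z i ⊔ l i : Subgroup G) : Set G) :=
    comm_of_sq (sq_sup (D.TN_sq i) (fun x hx => D.sqV i x (D.lV i hx)) (D.TN_le_cl i))
  let CW : Subgroup G :=
    { carrier := {x | x ∈ TwoZ.NN Z i ⊔ l i ∧ ∀ b ∈ B, b * x * b⁻¹ * x⁻¹ ∈ l i}
      one_mem' := ⟨one_mem _, fun b _ => by simp⟩
      mul_mem' := by
        rintro x y ⟨hx, hx'⟩ ⟨hy, hy'⟩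
        refine ⟨mul_mem hx hy, fun b hb => ?_⟩
        have e : b * (x * y) * b⁻¹ * (x * y)⁻¹ = (b * x * b⁻¹ * x⁻¹) * (x * (b * y * b⁻¹ * y⁻¹) * x⁻¹) := by group
        rw [e, mem_centralizer_iff.1 (hMc (mem_sup_right (hy' b hb))) x hx, mul_inv_cancel_right]
        exact mul_mem (hx' b hb) (hy' b hb)
      inv_mem' := by
        rintro x ⟨hx, hx'⟩
        refine ⟨inv_mem hx, fun b hb => ?_⟩
        have e : b * x⁻¹ * b⁻¹ * x⁻¹⁻¹ = x⁻¹ * (b * x * b⁻¹ * x⁻¹)⁻¹ * x⁻¹⁻¹ := by group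
        rw [e, mem_centralizer_iff.1 (hMc (mem_sup_right (inv_mem (hx' b hb)))) x⁻¹ (inv_mem hx),
          mul_inv_cancel_right]
        exact inv_mem (hx' b hb) }
  have hsub : CC Z i ⊓ centralizer (Z (i + 1) : Set G) ≤ centralizer (zc (S : Subgroup G) : Set G) :=
    (D.CC_inf_eq i).le
  have hBD : B ≤ CC Z i ⊓ centralizer (Z (i + 1) : Set G) :=
    (hB.trans (o2_le _)).trans (D.CC_inf_eq i).ge
  have h1 : (centralizer (TwoZ.NN Z i : Set G)).relIndex B ≤ CW.relIndex (TwoZ.NN Z i ⊔ l i) := by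
    refine TwoM.flag_mod (Z := Z (i + 1)) hML D.S2 (syl_not_dvd (D.syl (D.S_le_C i))) (D.S_le_C (i + 1)) hK
      (D.C_le_N i) le_sup_left
      (sup_le (((D.TN_le_Q i).trans (D.Q_le_S i)).trans (D.S_le_C i))
        ((((D.lV i).trans (D.VQ i)).trans (D.Q_le_S i)).trans (D.S_le_C i)))
      (fun x hx => ?_) (fun c _ m hm h => D.sep_l hm h) ((le_inf hB hBD).trans (FlagNO.o2_inf_sub hsub)) hB2
      (fun x hx b hb => hx.2 b hb)
    have h2 : x ^ 2 = 1 := sq_sup (D.TN_sq i) (fun x hx => D.sqV i x (D.lV i hx)) (D.TN_le_cl i) x hx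
    rw [← pow_two, h2]
    exact one_mem _
  -- `|N_i l_i : C(B)| = |N_i : C(B)|`
  have h2 : (centralizer (B : Set G)).relIndex (TwoZ.NN Z i ⊔ l i) ≤ (centralizer (B : Set G)).relIndex (TwoZ.NN Z i) :=
    relIndex_le_of_sup le_sup_left hMc
      (sup_le le_sup_left (le_trans (le_inf le_sup_right (comm_symm hBl)) le_sup_right))
  have h3 : (TwoZ.NN Z i ⊔ l i) ⊓ centralizer (B : Set G) ≤ CW := by
    rintro x ⟨hx, hx2⟩
    refine ⟨hx, fun a ha => ?_⟩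
    rw [mem_centralizer_iff.1 hx2 a ha, mul_inv_cancel_right, mul_inv_cancel]
    exact one_mem _
  have h4 : CW ≤ TwoZ.NN Z i ⊔ l i := fun x hx => hx.1
  have h5 : CW.relIndex (TwoZ.NN Z i ⊔ l i) =
      ((TwoZ.NN Z i ⊔ l i) ⊓ centralizer (B : Set G)).relIndex (TwoZ.NN Z i ⊔ l i) := by
    refine le_antisymm (relIndex_anti h3) ?_
    rw [inf_relIndex_left]
    exact (h2.trans he).trans h1
  have h6 : Nat.card CW ≤ Nat.card ((TwoZ.NN Z i ⊔ l i) ⊓ centralizer (B : Set G) : Subgroup G) := by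
    have c1 := card_eq (TwoZ.NN Z i ⊔ l i) CW
    have c2 := card_eq (TwoZ.NN Z i ⊔ l i) ((TwoZ.NN Z i ⊔ l i) ⊓ centralizer (B : Set G))
    rw [inf_eq_right.2 h4] at c1
    rw [inf_eq_right.2 inf_le_left, ← h5] at c2
    rw [c1] at c2
    exact (Nat.eq_of_mul_eq_mul_right (relIndex_pos _ _) c2).le
  have h7 : CW ≤ centralizer (B : Set G) := by
    rw [← Subgroup.eq_of_le_of_card_ge h3 h6]
    exact inf_le_right
  intro n hn h b hb
  exact mem_centralizer_iff.1 (h7 (show n ∈ CW from ⟨mem_sup_left hn, h⟩)) b hb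

end LFr

end Cfsg.Agent.Omega.KL.TwoZ.Line
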