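import Cfsg.Agent.Mrg.Omega.KL.TwoZ.LineW
import Cfsg.Agent.Mrg.Omega.KL.TwoM.Fr
import Cfsg.Agent.Mrg.Omega.OM.PT.W2


/-!
# Two natural blocks WITH field automorphisms: 391's frame `TwoM.Fr`, (0.2), the end (helper918 #24444 (C))

* `LFr.Z_eq` : `Z i = l i ∩ Ω₁Z(S)`; `LFr.sti` : `C_{C_i}(w) ≤ N_G(Z (i+1))`, `w ∈ Z (i+1)#`; `LFr.sep` : (0.2) modulo `l i`;
* **`LFr.frM : TwoM.Fr S V Z`**;
* **`LFrW.false_of'`** : (G1) and (4) over the lines are contradictory.
-/

set_option autoImplicit false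
set_option linter.unusedSectionVars false
set_option linter.unusedVariables false

namespace Cfsg.Agent.Omega.KL.TwoZ.Line

open Subgroup Cfsg Cfsg.Agent.Omega.MinPar
open Cfsg.Agent.ZN (o2 zc)
open Cfsg.Agent.MinSimple.MinParabolic (IsMinPar)
open Cfsg.Agent.Omega.NoFF.Basic (conj_conj mem_conj conj_le_iff comm_symm comm_mono Z_le_V V_le)
open Cfsg.Agent.Omega.NOThreeL.Pair (conj_eq_of_mem conj_le_normalizer)
open Cfsg.Agent.ZN.ChoiceSit (Syl exists_syl syl_conj o2_le_syl syl_not_dvd)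
open Cfsg.Agent.MinSimple.VModule (mem_zc zc_le le_o2 o2_isPGroup o2_le zc_le_centralizer le_centralizer_zc
  le_normalizer_o2 normalizer_le_normalizer_zc)
open Cfsg.Agent.Omega.TC.LemZ (card_eq le_norm_of norm_cent norm_inf)
open Cfsg.Agent.Omega.KL.TwoS (Mx)
open Cfsg.Agent.Omega.KL.TwoZ (CC V_le_of)
open Cfsg.Agent.Omega.OM
open scoped Pointwise

universe u

variable {G : Type u} [Group G]

namespace LFr

variable [Finite G] {S : Sylow 2 G} {V Z l : Fin 2 → Subgroup G} (D : LFr S V Z l)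
include D

theorem Z_eq (i : Fin 2) : Z i = l i ⊓ zc (S : Subgroup G) :=
  le_antisymm (le_inf (D.Zl i) (D.Z_le_zc i)) fun v hv => D.lZ i v hv.1 (zc_le_centralizer _ hv.2)

/-- an element of `N_G(S)` which fixes a vector of `V i#` fixes the whole configuration -/
theorem nS_fix {n : G} {i : Fin 2} (hn : n ∈ normalizer ((S : Subgroup G) : Set G)) {a : G} (ha : a ∈ Z i)
    (ha1 : a ≠ 1) (h : n * a * n⁻¹ = a) : (∀ k, MulAut.conj n • l k = l k) ∧ (∀ k, MulAut.conj n • V k = V k) ∧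
      ∀ k, n ∈ normalizer (Z k : Set G) := by
  obtain ⟨h1, h2, h3, h4⟩ := D.nS' hn (D.Zl i ha) ha1 (j := i) (by rw [h]; exact D.ZV i ha)
  have hl : ∀ k, MulAut.conj n • l k = l k := fun k => by
    rcases PT.eq_or i k with rfl | rfl
    · exact h1
    · exact h2
  refine ⟨hl, fun k => ?_, fun k => ?_⟩
  · rcases PT.eq_or i k with rfl | rfl
    · exact h3
    · exact h4
  · rw [D.Z_eq k]
    exact norm_inf (A := zpowers n) (zpowers_le.2 (mem_norm_iff.2 (hl k)))
      (zpowers_le.2 (normalizer_le_normalizer_zc _ hn)) (mem_zpowers n)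

/-- `C_{C_i}(w)` normalises `Z (i+1)` -/
theorem sti {i : Fin 2} {w : G} (hw : w ∈ Z (i + 1)) (hw1 : w ≠ 1) :
    CC Z i ⊓ centralizer ({w} : Set G) ≤ normalizer (Z (i + 1) : Set G) := by
  have hS : (S : Subgroup G) ≤ CC Z i ⊓ centralizer ({w} : Set G) := le_inf (D.S_le_C i)
    ((D.S_le_C (i + 1)).trans (centralizer_le (Set.singleton_subset_iff.2 hw)))
  refine MinSimple.MinParabolic.le_of_forall hS ?_ fun R hR hRX => ?_
  · rintro n ⟨⟨-, hn⟩, hnS⟩
    refine (D.nS_fix hnS hw hw1 ?_).2.2 _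
    rw [(mem_centralizer_singleton_iff.1 hn), mul_inv_cancel_right]
  · by_cases hc : R ≤ centralizer (zc (S : Subgroup G) : Set G)
    · exact (hc.trans (centralizer_le (D.Z_le_zc _))).trans (centralizer_le_normalizer _)
    · obtain ⟨-, h1 | ⟨k, hk1, hk2⟩⟩ := D.uni R hR (D.o2_ne hw hw1 hR.le (hRX.trans inf_le_right)) hc
      · exact (D.gal R hR h1 (i + 1) w hw hw1 (hRX.trans inf_le_right)).trans (centralizer_le_normalizer _)
      · rcases PT.eq_or i k with rfl | rfl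
        · obtain ⟨z, hz, hz1⟩ := D.exists_ne k
          exact absurd ((hRX.trans inf_le_left).trans (centralizer_le (Set.singleton_subset_iff.2 hz))) (hk1 z hz hz1)
        · exact absurd (hRX.trans inf_le_right) (hk1 w hw hw1)

theorem mem_ll {i : Fin 2} {x m : G} (hx : x ∈ l i) (hm : m ∈ l (i + 1)) : x * m ∈ l 0 ⊔ l 1 := by
  have h : ∀ k, l k ≤ l 0 ⊔ l 1 := fun k => by
    rcases PT.eq_or 0 k with rfl | rfl
    · exact le_sup_left
    · exact le_sup_right
  exact mul_mem (h _ hx) (h _ hm)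

/-- **(0.2) modulo `l i`** -/
theorem sep {i : Fin 2} {c m : G} (hc : c ∈ CC Z i) (hm : m ∈ Z (i + 1)) (h : c * m * c⁻¹ * m⁻¹ ∈ l i) :
    c * m * c⁻¹ = m := by
  by_cases hm1 : m = 1
  · rw [hm1]; group
  by_contra hne
  set x := c * m * c⁻¹ * m⁻¹ with hx
  have hx1 : x ≠ 1 := fun e => hne (by rw [hx, mul_inv_eq_one] at e; exact e)
  have hml : m ∈ l (i + 1) := D.Zl _ hm
  have e1 : x * m = c * m * c⁻¹ := by rw [hx]; group
  have hxm : x * m ∈ l 0 ⊔ l 1 := D.mem_ll h hml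
  have hpt : x * m ∈ MulAut.conj c • l (i + 1) := by rw [e1]; exact conj_mem hml
  have key : ∀ k, x * m ∉ l k := by
    intro k hk
    rcases PT.eq_or i k with rfl | rfl
    · have h2 : m ∈ l k := by
        have := mul_mem (inv_mem h) hk
        rwa [inv_mul_cancel_left] at this
      exact hm1 (D.dis' (ne_add_one' k) (D.lV _ h2) (D.lV _ hml))
    · have h2 : x ∈ l (i + 1) := by
        have := mul_mem hk (inv_mem hml)
        rwa [mul_inv_cancel_right] at this
      exact hx1 (D.dis' (ne_add_one' i) (D.lV _ h) (D.lV _ h2))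
  rcases D.fus2 _ ⟨i + 1, c, rfl⟩ _ hpt hxm with h3 | h3
  · exact key 0 h3
  · exact key 1 h3
where
  ne_add_one' (i : Fin 2) : i ≠ i + 1 := by fin_cases i <;> decide

/-- **391's frame** -/
theorem frM : TwoM.Fr (S : Subgroup G) V Z where
  char2 := D.char2
  sqV := D.sqV
  ZV := D.ZV
  ne := D.ne
  zT := D.zT
  syl := fun i => D.syl (D.S_le_C i)
  nT := by
    rintro i n ⟨hn, hnS⟩
    obtain ⟨z, hz, hz1⟩ := D.exists_ne i
    obtain ⟨h1, h2, h3⟩ := D.nS_fix hnS hz hz1 (by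
      rw [← mem_centralizer_iff.1 hn z hz, mul_inv_cancel_right])
    exact ⟨⟨h3 _, mem_norm_iff.2 (h2 _)⟩, mem_norm_iff.2 (h2 _)⟩
  nV := D.nV
  VQ := D.VQ
  VC := D.VC
  VN := D.VN
  par := by
    intro i
    by_contra hc
    push Not at hc
    have h1 : CC Z i ≤ normalizer (Z (i + 1) : Set G) := by
      refine MinSimple.MinParabolic.le_of_forall (D.S_le_C i) ?_ fun R hR hRX =>
        (hc R hR hRX).trans (centralizer_le_normalizer _)
      rintro n ⟨hn, hnS⟩
      obtain ⟨z, hz, hz1⟩ := D.exists_ne i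
      exact (D.nS_fix hnS hz hz1 (by
        rw [← mem_centralizer_iff.1 hn z hz, mul_inv_cancel_right])).2.2 _
    have h2 : CC Z i ≤ normalizer (TwoZ.QQ Z (i + 1) : Set G) := fun c hc' =>
      norm_o2_of (norm_cent (A := normalizer (Z (i + 1) : Set G)) le_rfl (h1 hc'))
    have h3 : TwoZ.QQ Z (i + 1) = ⊥ := by
      rcases Fin.exists_fin_two.1 ⟨i, rfl⟩ with e | e
      · subst e
        exact D.nonloc _ (o2_isPGroup _) h2 (le_normalizer_o2 _)
      · subst e
        exact D.nonloc _ (o2_isPGroup _) (le_normalizer_o2 _) h2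
    have h4 := D.Z_le_Q (i + 1) i
    rw [h3, le_bot_iff] at h4
    exact D.ne i h4
  uni := by
    intro i j hij R hR hj hi k
    obtain ⟨z, hz, hz1⟩ := D.exists_ne j
    exact (D.uni R hR (D.o2_ne hz hz1 hR.le (hj.trans (centralizer_le (Set.singleton_subset_iff.2 hz))))
      fun h => hi (h.trans (centralizer_le (D.Z_le_zc i)))).1 k
  dis := D.dis
  nonloc := D.nonloc

end LFr

namespace LFrW

variable [Finite G] {S : Sylow 2 G} {V Z l : Fin 2 → Subgroup G} (D : LFrW S V Z l)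
include D

/-- **fields, `k_1 = k_2 = 1`: (G1) and (4) over the lines are contradictory** -/
theorem false_of' (hML : ML.Final.MLK.{u, u}) (hK : ∀ i, IsKGroup (CC Z i)) (g1 : PT.ThmC2 l (PT.XW l V))
    (inter : PT.NN l (l 0) ⊓ PT.NN l (l 1) ≤ l 0 ⊔ l 1) : False :=
  (D.ptw hML hK g1 inter).false

end LFrW

end Cfsg.Agent.Omega.KL.TwoZ.Line
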