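import Cfsg.Agent.Mrg.Omega.KL.TwoZ.Fr
import Cfsg.Agent.Mrg.Omega.OM.PG.ExactQ
import Cfsg.Agent.Mrg.Omega.KL.TwoZ.Ex
import Cfsg.Agent.Mrg.Omega.OM.PT.Exact
import Cfsg.Agent.Mrg.Omega.KL.TwoZ.NF

section


/-!
# Burnside for two points / two lines (helper918, TEXT W2 #24006 (0.1), (0.2); #24444 (F1))

`S` a Sylow 2-subgroup of `G`, `z i ≤ Ω₁Z(S)`, `z i ≤ l i` (points: `z = l = Z`; lines: `l i` the line through `z i`),
`N_G(S)` permutes the triples `(z i, l i, U i)`, `C_G(m) ≤ N_G(l i)` for `m ∈ z i#`.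

* `BT S z l U` : the data;
* `BT.cen` : `C_G(m) ≤ N_G(l i)`, `m ∈ l i#`;
* `BT.fuse` : `a ∈ l i#`, `gag⁻¹ ∈ l j`: `(l i)^g = l j`, and `i = j` or some `n ∈ N_G(S)` is a swap;
* `BT.ti : PT.TIp l`; `BT.fus`; `BT.fusP` : (0.2);
* `BT.adj_iff`, `BT.lnOn_iff`, `BT.nn_eq`, `BT.xw_eq` : neighbours and lines of `l i` are conjugate under `C i` (`Tra`).
-/

set_option autoImplicit false
set_option linter.unusedSectionVars false

namespace Cfsg.Agent.Omega.KL.TwoZ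

open Subgroup Cfsg Cfsg.Agent.Omega.MinPar
open Cfsg.Agent.ZN (o2 zc)
open Cfsg.Agent.Omega.NoFF.Basic (conj_conj mem_conj conj_le_iff comm_symm comm_mono Z_le_V V_le)
open Cfsg.Agent.Omega.NOThreeL.Pair (conj_eq_of_mem)
open Cfsg.Agent.ZN.ChoiceSit (Syl exists_syl syl_conj)
open Cfsg.Agent.MinSimple.VModule (mem_zc zc_le)
open Cfsg.Agent.Omega.OM (PT.add2 PT.eq_or)
open scoped Pointwise

universe u

variable {G : Type u} [Group G]

namespace Burn

theorem mem_norm_of_conj {g : G} {A : Subgroup G} (h : MulAut.conj g • A = A) : g ∈ normalizer (A : Set G) :=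
  Cfsg.Agent.ZN.ChoiceBase.mem_normalizer_iff_cj.2 h

theorem inv_cj {g : G} {A B : Subgroup G} (h : MulAut.conj g • A = B) : MulAut.conj g⁻¹ • B = A := by
  rw [← h, conj_conj, inv_mul_cancel, map_one, one_smul]

theorem mem_cj {g a : G} {A : Subgroup G} (ha : a ∈ A) : g * a * g⁻¹ ∈ MulAut.conj g • A := ⟨a, ha, rfl⟩

/-- **Burnside** : two elements of `Z(S)` conjugate in `G` are conjugate in `N_G(S)`. -/
theorem burnside [Finite G] {S : Subgroup G} (hS : Syl S ⊤) {a b g : G} (ha : a ∈ centralizer (S : Set G))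
    (hb : b ∈ centralizer (S : Set G)) (h : g * a * g⁻¹ = b) :
    ∃ c ∈ centralizer ({b} : Set G), c * g ∈ normalizer (S : Set G) ∧ c * g * a * (c * g)⁻¹ = b := by
  have h1 : Syl S (centralizer ({b} : Set G)) :=
    ⟨fun s hs => mem_centralizer_singleton_iff.2 (mem_centralizer_iff.1 hb s hs), hS.2.1,
      fun R _ hR2 hSR => hS.2.2 R le_top hR2 hSR⟩
  have h2 : Syl (MulAut.conj g • S) (centralizer ({b} : Set G)) := by
    refine ⟨?_, hS.2.1.of_equiv (Subgroup.equivSMul (MulAut.conj g) S), fun R _ hR2 hSR => ?_⟩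
    · rintro _ ⟨s, hs, rfl⟩
      rw [mem_centralizer_singleton_iff]
      have e := mem_centralizer_iff.1 ha s hs
      change g * s * g⁻¹ * b = b * (g * s * g⁻¹)
      rw [← h]
      calc g * s * g⁻¹ * (g * a * g⁻¹) = g * (s * a) * g⁻¹ := by group
        _ = g * (a * s) * g⁻¹ := by rw [e]
        _ = _ := by group
    · have h3 : S ≤ MulAut.conj g⁻¹ • R := by
        have := conj_le_iff (g := g⁻¹) |>.2 hSR
        rwa [conj_conj, inv_mul_cancel, map_one, one_smul] at this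
      have h4 := hS.2.2 _ le_top (hR2.of_equiv (Subgroup.equivSMul (MulAut.conj g⁻¹) R)) h3
      rw [← h4, conj_conj, mul_inv_cancel, map_one, one_smul]
  obtain ⟨c, hc, hc2⟩ := syl_conj h2 h1
  refine ⟨c, hc, ?_, ?_⟩
  · apply mem_norm_of_conj
    rw [← conj_conj]
    exact hc2
  · have e := mem_centralizer_singleton_iff.1 hc
    calc c * g * a * (c * g)⁻¹ = c * (g * a * g⁻¹) * c⁻¹ := by group
      _ = (c * b) * c⁻¹ := by rw [h]
      _ = b := by rw [e]; group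

/-- `S` Sylow in `G`, `X` normalised by `H ≥ X ≥ S` : `H = X N_H(S)` -/
theorem frattini [Finite G] {S X : Subgroup G} (hS : Syl S ⊤) (hSX : S ≤ X) {g : G}
    (hg : g ∈ normalizer (X : Set G)) : ∃ x ∈ X, x⁻¹ * g ∈ normalizer (S : Set G) := by
  have h1 : Syl S X := ⟨hSX, hS.2.1, fun R _ hR2 hSR => hS.2.2 R le_top hR2 hSR⟩
  have h2 : Syl (MulAut.conj g • S) X := by
    refine ⟨?_, hS.2.1.of_equiv (Subgroup.equivSMul (MulAut.conj g) S), fun R _ hR2 hSR => ?_⟩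
    · have := conj_le_iff (g := g) |>.2 hSX
      rwa [conj_eq_of_mem hg] at this
    · have h3 : S ≤ MulAut.conj g⁻¹ • R := by
        have := conj_le_iff (g := g⁻¹) |>.2 hSR
        rwa [conj_conj, inv_mul_cancel, map_one, one_smul] at this
      have h4 := hS.2.2 _ le_top (hR2.of_equiv (Subgroup.equivSMul (MulAut.conj g⁻¹) R)) h3
      rw [← h4, conj_conj, mul_inv_cancel, map_one, one_smul]
  obtain ⟨x, hx, hx2⟩ := syl_conj h1 h2
  refine ⟨x, hx, ?_⟩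
  apply mem_norm_of_conj
  rw [← conj_conj]
  exact inv_cj hx2

end Burn

open Burn

/-- `n` fixes the triples -/
def Fx (z l U : Fin 2 → Subgroup G) (n : G) : Prop :=
  ∀ j, MulAut.conj n • z j = z j ∧ MulAut.conj n • l j = l j ∧ MulAut.conj n • U j = U j

/-- `n` swaps the triples -/
def Sw (z l U : Fin 2 → Subgroup G) (n : G) : Prop :=
  ∀ j, MulAut.conj n • z j = z (j + 1) ∧ MulAut.conj n • l j = l (j + 1) ∧ MulAut.conj n • U j = U (j + 1)

/-- **the Burnside data**: points (`z = l`) or lines -/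
structure BT (S : Subgroup G) (z l U : Fin 2 → Subgroup G) : Prop where
  syl : Syl S ⊤
  zS : ∀ i, z i ≤ zc S
  zl : ∀ i, z i ≤ l i
  ne : ∀ i, z i ≠ ⊥
  com : l 0 ≤ centralizer (l 1 : Set G)
  dis : l 0 ⊓ l 1 = ⊥
  rep : ∀ i, ∀ a ∈ l i, ∃ h ∈ centralizer (l (i + 1) : Set G), h ∈ normalizer (l i : Set G) ∧ h * a * h⁻¹ ∈ z i
  nS : ∀ n ∈ normalizer (S : Set G), Fx z l U n ∨ Sw z l U n
  ctr : ∀ i, ∀ m ∈ z i, m ≠ 1 → centralizer ({m} : Set G) ≤ normalizer (l i : Set G)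

namespace BT

variable {S : Subgroup G} {z l U : Fin 2 → Subgroup G} (B : BT S z l U)

include B

theorem com' (i : Fin 2) : l i ≤ centralizer (l (i + 1) : Set G) := by
  fin_cases i
  · exact B.com
  · exact comm_symm B.com

theorem dis' (i : Fin 2) : l i ⊓ l (i + 1) = ⊥ := by
  fin_cases i
  · exact B.dis
  · have := B.dis
    rw [inf_comm] at this
    exact this

theorem one_of {i : Fin 2} {x : G} (h : x ∈ l i) (h' : x ∈ l (i + 1)) : x = 1 := by
  have h1 : x ∈ l i ⊓ l (i + 1) := ⟨h, h'⟩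
  rwa [B.dis' i, mem_bot] at h1

theorem exists_ne (i : Fin 2) : ∃ m ∈ z i, m ≠ 1 := by
  by_contra hcon
  push Not at hcon
  exact B.ne i ((eq_bot_iff_forall _).2 hcon)

theorem l_ne (i : Fin 2) : l i ≠ l (i + 1) := by
  intro e
  obtain ⟨m, hm, hm1⟩ := B.exists_ne i
  have h := B.zl i hm
  exact hm1 (B.one_of h (e ▸ h))

theorem z_cent {i : Fin 2} {m : G} (hm : m ∈ z i) : m ∈ centralizer (S : Set G) :=
  mem_centralizer_iff.2 fun s hs => ((mem_zc.1 (B.zS i hm)).2.1 s hs)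

/-- `C_G(m) ≤ N_G(l i)`, `m ∈ l i#` -/
theorem cen {i : Fin 2} {m : G} (hm : m ∈ l i) (hm1 : m ≠ 1) :
    centralizer ({m} : Set G) ≤ normalizer (l i : Set G) := by
  obtain ⟨h, -, hh, hz⟩ := B.rep i m hm
  intro c hc
  have h1 : h * m * h⁻¹ ≠ 1 := by
    intro e
    apply hm1
    calc m = h⁻¹ * (h * m * h⁻¹) * h := by group
      _ = 1 := by rw [e]; group
  have h2 : h * c * h⁻¹ ∈ centralizer ({h * m * h⁻¹} : Set G) := by
    rw [mem_centralizer_singleton_iff]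
    have e := mem_centralizer_singleton_iff.1 hc
    calc h * c * h⁻¹ * (h * m * h⁻¹) = h * (c * m) * h⁻¹ := by group
      _ = h * (m * c) * h⁻¹ := by rw [e]
      _ = _ := by group
  have h3 := B.ctr i _ hz h1 h2
  have h4 := mul_mem (mul_mem (inv_mem hh) h3) hh
  have e : h⁻¹ * (h * c * h⁻¹) * h = c := by group
  rwa [e] at h4

/-- an element of the product of the two in one of them is in a factor -/
theorem one_or {i j : Fin 2} {a b : G} (ha : a ∈ l i) (hb : b ∈ l (i + 1)) (hab : a * b ∈ l j) : a = 1 ∨ b = 1 := by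
  rcases PT.eq_or i j with rfl | rfl
  · right
    have h1 : b ∈ l j := by
      have := mul_mem (inv_mem ha) hab
      rwa [inv_mul_cancel_left] at this
    exact B.one_of h1 hb
  · left
    have h1 : a ∈ l (i + 1) := by
      have := mul_mem hab (inv_mem hb)
      rwa [mul_inv_cancel_right] at this
    exact B.one_of ha h1

variable [Finite G]

theorem fuse_z {i j : Fin 2} {a g : G} (ha : a ∈ z i) (ha1 : a ≠ 1) (hg : g * a * g⁻¹ ∈ z j) :
    MulAut.conj g • l i = l j ∧ (j = i ∨ ∃ n ∈ normalizer (S : Set G), Sw z l U n) := by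
  obtain ⟨c, hc, hn, h1⟩ := burnside B.syl (B.z_cent ha) (B.z_cent hg) rfl
  have h2 : g * a * g⁻¹ ≠ 1 := by
    intro e
    apply ha1
    calc a = g⁻¹ * (g * a * g⁻¹) * g := by group
      _ = 1 := by rw [e]; group
  have h3 : c ∈ normalizer (l j : Set G) := B.ctr j _ hg h2 hc
  have h4 : c * g * a * (c * g)⁻¹ ∈ l j := by rw [h1]; exact B.zl j hg
  have key : MulAut.conj (c * g) • l i = l j → MulAut.conj g • l i = l j := by
    intro h
    rw [← conj_conj] at h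
    have h5 := inv_cj h
    rw [← h5]
    exact conj_eq_of_mem (inv_mem h3)
  rcases B.nS _ hn with h | h
  · have h5 : c * g * a * (c * g)⁻¹ ∈ l i := by
      rw [← (h i).2.1]
      exact mem_cj (B.zl i ha)
    have h6 : j = i := by
      rcases PT.eq_or i j with e | e
      · exact e
      · exfalso
        rw [e] at h4
        have h7 := B.one_of h5 h4
        rw [h1] at h7
        exact h2 h7
    refine ⟨?_, Or.inl h6⟩
    rw [h6]
    rw [h6] at key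
    exact key (h i).2.1
  · have h5 : c * g * a * (c * g)⁻¹ ∈ l (i + 1) := by
      rw [← (h i).2.1]
      exact mem_cj (B.zl i ha)
    have h6 : j = i + 1 := by
      rcases PT.eq_or i j with e | e
      · exfalso
        rw [e] at h4
        have h7 := B.one_of h4 h5
        rw [h1] at h7
        exact h2 h7
      · exact e
    refine ⟨?_, Or.inr ⟨_, hn, h⟩⟩
    rw [h6]
    rw [h6] at key
    exact key (h i).2.1

/-- `a ∈ l i#`, `gag⁻¹ ∈ l j` : `(l i)^g = l j`, and `i = j` or there is a swap in `N_G(S)` -/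
theorem fuse {i j : Fin 2} {a g : G} (ha : a ∈ l i) (ha1 : a ≠ 1) (hg : g * a * g⁻¹ ∈ l j) :
    MulAut.conj g • l i = l j ∧ (j = i ∨ ∃ n ∈ normalizer (S : Set G), Sw z l U n) := by
  obtain ⟨h, -, hh, hz⟩ := B.rep i a ha
  obtain ⟨k, -, hk, hz'⟩ := B.rep j _ hg
  have h1 : h * a * h⁻¹ ≠ 1 := by
    intro e
    apply ha1
    calc a = h⁻¹ * (h * a * h⁻¹) * h := by group
      _ = 1 := by rw [e]; group
  have h2 : (k * g * h⁻¹) * (h * a * h⁻¹) * (k * g * h⁻¹)⁻¹ ∈ z j := by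
    have e : (k * g * h⁻¹) * (h * a * h⁻¹) * (k * g * h⁻¹)⁻¹ = k * (g * a * g⁻¹) * k⁻¹ := by group
    rwa [e]
  obtain ⟨h3, h4⟩ := B.fuse_z hz h1 h2
  refine ⟨?_, h4⟩
  rw [← conj_conj, ← conj_conj, conj_eq_of_mem (inv_mem hh)] at h3
  have h5 := inv_cj h3
  rw [← h5]
  exact conj_eq_of_mem (inv_mem hk)

/-- **(0.1)** : the points are t.i. -/
theorem ti : OM.PT.TIp l := by
  rintro _ _ ⟨i, k, rfl⟩ ⟨j, m, rfl⟩ hne
  rw [eq_bot_iff]
  rintro x ⟨hx, hx'⟩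
  rw [mem_bot]
  by_contra hx1
  apply hne
  obtain ⟨a, ha, rfl⟩ := hx
  replace hx' : k * a * k⁻¹ ∈ MulAut.conj m • l j := hx'
  have ha1 : a ≠ 1 := by
    rintro rfl
    exact hx1 (map_one _)
  have h1 : (m⁻¹ * k) * a * (m⁻¹ * k)⁻¹ ∈ l j := by
    rw [mem_conj] at hx'
    have e : (m⁻¹ * k) * a * (m⁻¹ * k)⁻¹ = m⁻¹ * (k * a * k⁻¹) * m := by group
    rwa [e]
  have h2 := (B.fuse ha ha1 h1).1
  rw [← h2, conj_conj, mul_inv_cancel_left]

/-- `PP.fus` -/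
theorem fus (i : Fin 2) (k : G) (h : MulAut.conj k • l i = l (i + 1)) :
    ∃ s ∈ normalizer (S : Set G), Sw z l U s := by
  obtain ⟨m, hm, hm1⟩ := B.exists_ne i
  have h1 : k * m * k⁻¹ ∈ l (i + 1) := by
    rw [← h]
    exact mem_cj (B.zl i hm)
  rcases (B.fuse (B.zl i hm) hm1 h1).2 with h2 | h2
  · exfalso
    have : ∀ i : Fin 2, i + 1 ≠ i := by decide
    exact this i h2
  · exact h2

/-- **(0.2)** -/
theorem zero_two {i j : Fin 2} {a b g : G} (ha : a ∈ l i) (hb : b ∈ l (i + 1)) (hg : g * (a * b) * g⁻¹ ∈ l j) :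
    a = 1 ∨ b = 1 := by
  obtain ⟨h, hc, -, hz⟩ := B.rep i a ha
  obtain ⟨k, kc, -, kz⟩ := B.rep (i + 1) b hb
  obtain ⟨m, -, -, mz⟩ := B.rep j _ hg
  rw [PT.add2] at kc
  set a' := h * a * h⁻¹ with ha'
  set b' := k * b * k⁻¹ with hb'
  have e1 : h * b = b * h := (mem_centralizer_iff.1 hc b hb).symm
  have e2 : k * a' = a' * k := (mem_centralizer_iff.1 kc a' (B.zl i hz)).symm
  have e3 : (k * h) * (a * b) * (k * h)⁻¹ = a' * b' := by
    calc (k * h) * (a * b) * (k * h)⁻¹ = k * (h * a * h⁻¹) * (h * b) * h⁻¹ * k⁻¹ := by group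
      _ = k * a' * (b * h) * h⁻¹ * k⁻¹ := by rw [e1]
      _ = (k * a') * b * k⁻¹ := by group
      _ = (a' * k) * b * k⁻¹ := by rw [e2]
      _ = a' * b' := by rw [hb']; group
  have e4 : (m * g * (k * h)⁻¹) * (a' * b') * (m * g * (k * h)⁻¹)⁻¹ = m * (g * (a * b) * g⁻¹) * m⁻¹ := by
    rw [← e3]
    group
  have hab : a' * b' ∈ centralizer (S : Set G) := mul_mem (B.z_cent hz) (B.z_cent kz)
  obtain ⟨c, -, hn, h1⟩ := burnside B.syl hab (B.z_cent mz) e4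
  set n := c * (m * g * (k * h)⁻¹) with hndef
  have h2 : (n * a' * n⁻¹) * (n * b' * n⁻¹) ∈ l j := by
    have e : (n * a' * n⁻¹) * (n * b' * n⁻¹) = n * (a' * b') * n⁻¹ := by group
    rw [e, h1]
    exact B.zl j mz
  have hone : ∀ {w x y : G}, x = w * y * w⁻¹ → x = 1 → y = 1 := by
    intro w x y e hx
    calc y = w⁻¹ * (w * y * w⁻¹) * w := by group
      _ = 1 := by rw [← e, hx]; group
  have h3 : n * a' * n⁻¹ = 1 ∨ n * b' * n⁻¹ = 1 := by
    rcases B.nS _ hn with h' | h'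
    · refine B.one_or (i := i) ?_ ?_ h2
      · rw [← (h' i).2.1]
        exact mem_cj (B.zl _ hz)
      · rw [← (h' (i + 1)).2.1]
        exact mem_cj (B.zl _ kz)
    · have ha2 : n * a' * n⁻¹ ∈ l (i + 1) := by
        rw [← (h' i).2.1]
        exact mem_cj (B.zl _ hz)
      have hb2 : n * b' * n⁻¹ ∈ l (i + 1 + 1) := by
        rw [← (h' (i + 1)).2.1]
        exact mem_cj (B.zl _ kz)
      exact B.one_or ha2 hb2 h2
  rcases h3 with h3 | h3
  · left
    exact hone ha' (hone rfl h3)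
  · right
    exact hone hb' (hone rfl h3)

/-- **(0.2)** : a point which meets `l 0 l 1` is `l 0` or `l 1` -/
theorem fusP (a : Subgroup G) (ha : OM.PT.IsPt l a) (x : G) (hx : x ∈ a) (hx' : x ∈ l 0 ⊔ l 1) (hx1 : x ≠ 1) :
    a = l 0 ∨ a = l 1 := by
  have hc : l 1 ≤ normalizer (l 0 : Set G) := (comm_symm B.com).trans (centralizer_le_normalizer _)
  obtain ⟨y, hy, w, hw, rfl⟩ := Cfsg.Agent.Omega.OM.KTwo.exists_mul_of_mem_sup hc hx'
  obtain ⟨i, k, rfl⟩ := ha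
  have h1 : k⁻¹ * (y * w) * k⁻¹⁻¹ ∈ l i := by
    rw [mem_conj] at hx
    rwa [inv_inv]
  rcases B.zero_two (i := 0) (j := i) (g := k⁻¹) hy hw h1 with rfl | rfl
  · right
    rw [one_mul] at hx hx1
    by_contra hne
    have h2 := B.ti _ _ ⟨i, k, rfl⟩ (OM.PT.isPt l 1) hne
    have h3 : w ∈ MulAut.conj k • l i ⊓ l 1 := ⟨hx, hw⟩
    rw [h2, mem_bot] at h3
    exact hx1 h3
  · left
    rw [mul_one] at hx hx1
    by_contra hne
    have h2 := B.ti _ _ ⟨i, k, rfl⟩ (OM.PT.isPt l 0) hne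
    have h3 : y ∈ MulAut.conj k • l i ⊓ l 0 := ⟨hx, hy⟩
    rw [h2, mem_bot] at h3
    exact hx1 h3

omit [Finite G] in
/-- `n ∈ N_G(S) ∩ N_G(l i)` fixes the triples -/
theorem fx_of {i : Fin 2} {n : G} (hn : n ∈ normalizer (S : Set G)) (hl : n ∈ normalizer (l i : Set G)) : Fx z l U n := by
  rcases B.nS n hn with h | h
  · exact h
  · exfalso
    have h1 := (h i).2.1
    rw [conj_eq_of_mem hl] at h1
    exact B.l_ne i h1

end BT

/-- `C i ≤ N_G(l i)` is transitive on the neighbours and lines of `l i` -/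
structure Tra (l U : Fin 2 → Subgroup G) (C : Fin 2 → Subgroup G) : Prop where
  le : ∀ i, C i ≤ normalizer (l i : Set G)
  tr : ∀ i, ∀ g ∈ normalizer (l i : Set G), ∃ c ∈ C i, MulAut.conj g • l (i + 1) = MulAut.conj c • l (i + 1) ∧
    MulAut.conj g • U i = MulAut.conj c • U i

/-- `S ≤ C i ⊴ N_G(l i)` -/
theorem BT.tra [Finite G] {S : Subgroup G} {z l U : Fin 2 → Subgroup G} (B : BT S z l U) {C : Fin 2 → Subgroup G}
    (hS : ∀ i, S ≤ C i) (hle : ∀ i, C i ≤ normalizer (l i : Set G))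
    (hn : ∀ i, normalizer (l i : Set G) ≤ normalizer (C i : Set G)) : Tra l U C := by
  refine ⟨hle, fun i g hg => ?_⟩
  obtain ⟨x, hx, hn'⟩ := frattini B.syl (hS i) (hn i hg)
  have h1 := B.fx_of hn' (mul_mem (inv_mem (hle i hx)) hg)
  refine ⟨x, hx, ?_, ?_⟩
  · have h2 := (h1 (i + 1)).2.1
    rw [← conj_conj] at h2
    have h3 := inv_cj h2
    rw [inv_inv] at h3
    exact h3.symm
  · have h2 := (h1 i).2.2
    rw [← conj_conj] at h2
    have h3 := inv_cj h2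
    rw [inv_inv] at h3
    exact h3.symm

namespace BT

variable [Finite G] {S : Subgroup G} {z l U C : Fin 2 → Subgroup G} (B : BT S z l U) (R : Tra l U C)

include B R

theorem pair {i j : Fin 2} {k : G} (h : l i = MulAut.conj k • l j) :
    ∃ c ∈ C i, MulAut.conj k • l (j + 1) = MulAut.conj c • l (i + 1) ∧
      MulAut.conj k • U j = MulAut.conj c • U i := by
  rcases PT.eq_or i j with rfl | rfl
  · exact R.tr j k (mem_norm_of_conj h.symm)
  · obtain ⟨s, -, hs⟩ := B.fus (i + 1) k (by rw [PT.add2]; exact h.symm)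
    have h1 : MulAut.conj (k * s) • l i = l i := by
      rw [← conj_conj, (hs i).2.1]
      exact h.symm
    obtain ⟨c, hc, h2, h3⟩ := R.tr i _ (mem_norm_of_conj h1)
    refine ⟨c, hc, ?_, ?_⟩
    · rw [← h2, ← conj_conj, (hs (i + 1)).2.1]
    · rw [← h3, ← conj_conj, (hs i).2.2]

theorem adj_iff {i : Fin 2} {u : Subgroup G} : OM.PT.Adj l (l i) u ↔ ∃ c ∈ C i, u = MulAut.conj c • l (i + 1) := by
  constructor
  · rintro ⟨j, k, h, rfl⟩
    obtain ⟨c, hc, h1, -⟩ := B.pair R h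
    exact ⟨c, hc, h1⟩
  · rintro ⟨c, hc, rfl⟩
    exact ⟨i, c, (conj_eq_of_mem (R.le i hc)).symm, rfl⟩

theorem lnOn_iff {i : Fin 2} {m : Subgroup G} : OM.PT.LnOn l U (l i) m ↔ ∃ c ∈ C i, m = MulAut.conj c • U i := by
  constructor
  · rintro ⟨j, k, h, rfl⟩
    obtain ⟨c, hc, -, h1⟩ := B.pair R h
    exact ⟨c, hc, h1⟩
  · rintro ⟨c, hc, rfl⟩
    exact ⟨i, c, (conj_eq_of_mem (R.le i hc)).symm, rfl⟩

theorem nn_eq (i : Fin 2) : OM.PT.NN l (l i) = NoFF.Basic.V (l (i + 1)) (C i) := by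
  apply le_antisymm
  · refine sSup_le fun u hu => ?_
    obtain ⟨c, hc, rfl⟩ := (B.adj_iff R).1 hu
    exact Z_le_V hc
  · exact V_le fun c hc => ((B.adj_iff R).2 ⟨c, hc, rfl⟩).le_NN

theorem xw_eq (i : Fin 2) :
    OM.PT.XW l U (l i) = NoFF.Basic.V (l (i + 1)) (C i) ⊔ NoFF.Basic.V (U i) (C i) := by
  unfold OM.PT.XW
  rw [B.nn_eq R i]
  congr 1
  apply le_antisymm
  · refine iSup_le fun m => ?_
    obtain ⟨c, hc, h⟩ := (B.lnOn_iff R).1 m.2
    rw [h]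
    exact Z_le_V hc
  · exact V_le fun c hc => le_iSup (fun m : {m : Subgroup G // OM.PT.LnOn l U (l i) m} => (m : Subgroup G))
      ⟨_, (B.lnOn_iff R).2 ⟨c, hc, rfl⟩⟩

end BT

end Cfsg.Agent.Omega.KL.TwoZ

end

section


/-!
# `TwoZ.Fr` gives partner points and lines (`OM/PT`) with points `Z i`, lines `V i` (helper918, TEXT W2 #24006)

* `BF T V Z` : 391's `Fr`, `T` Sylow in `G`, `C_G(m) ≤ N_G(Z i)` (`m ∈ Z i#`), `N_G(T)` permutes the pairs `(Z i, V i)`,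
  `[V i, T] ≤ Z i`;
* `BF.bt`, `BF.tra`; `nn_eq`, `xw_eq`, `qq_eq` : `PT.NN = TwoZ.NN`, `PT.XW = W_i N_i`, `O₂(N_G(Z i)) = O₂(C_i)`;
* `BF.pp : PP Z V`; `BF.ti : TIp Z`; `BF.fus2 : Fus2 Z`; `BF.nop : NoP Z`; `BF.xw_eab`, `BF.xw_le`; `BF.thmC2` (from (G1));
* `BF.l0` : LEMMA 0 for neighbours; `BF.stab`.
-/

set_option autoImplicit false
set_option linter.unusedSectionVars false

namespace Cfsg.Agent.Omega.KL.TwoZ

open Subgroup Cfsg Cfsg.Agent.Omega.MinPar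
open Cfsg.Agent.ZN (o2 zc)
open Cfsg.Agent.Omega.OM.KTwo (ne_add_one eq_add_one add_one_add_one le_normalizer_V le_V exists_mul_of_mem_sup)
open Cfsg.Agent.Omega.NoFF.Basic (conj_conj mem_conj conj_le_iff comm_symm comm_mono Z_le_V V_le conj_le_centralizer)
open Cfsg.Agent.Omega.NOThreeL.Pair (conj_eq_of_mem)
open Cfsg.Agent.ZN.ChoiceSit (Syl exists_syl syl_conj o2_le_syl)
open Cfsg.Agent.MinSimple.VModule (mem_zc zc_le le_o2 o2_isPGroup o2_le le_normalizer_o2)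
open Cfsg.Agent.Omega.TC.LemZ (norm_cent)
open Cfsg.Agent.Omega.NO3S.EThree.ExactA (eab_iff eab_sup eab_mono)
open Cfsg.Agent.Omega.OM.PT (PP TIp NoP Fus2 ThmC2 XW Adj IsPt NN_conj XW_conj)
open Cfsg.Agent.Omega.OM.PG.Peel (Nob)
open Burn
open scoped Pointwise

universe u

variable {G : Type u} [Group G]

/-- the frame with the data for Burnside's lemma -/
structure BF [Finite G] (T : Subgroup G) (V Z : Fin 2 → Subgroup G) : Prop extends Fr T V Z where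
  sylG : Syl T ⊤
  ctr : ∀ i, ∀ m ∈ Z i, m ≠ 1 → centralizer ({m} : Set G) ≤ normalizer (Z i : Set G)
  nrm : ∀ n ∈ normalizer (T : Set G), (∀ i, MulAut.conj n • Z i = Z i ∧ MulAut.conj n • V i = V i) ∨
    (∀ i, MulAut.conj n • Z i = Z (i + 1) ∧ MulAut.conj n • V i = V (i + 1))
  com : ∀ i, ∀ x ∈ V i, ∀ t ∈ T, x * t * x⁻¹ * t⁻¹ ∈ Z i

/-- `(NO)` is invariant under conjugation -/
theorem Burn.nob_cj {N B : Subgroup G} (g : G) (h : Nob (MulAut.conj g • N) (MulAut.conj g • B)) : Nob N B := by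
  have e : ∀ A : Subgroup G, centralizer ((MulAut.conj g • A : Subgroup G) : Set G) = MulAut.conj g • centralizer (A : Set G) :=
    fun A => (NoFF.ThmJFam.conj_cent g A).symm
  unfold Nob at *
  rwa [e, e, relIndex_pointwise_smul, relIndex_pointwise_smul] at h

namespace BF

variable [Finite G] {T : Subgroup G} {V Z : Fin 2 → Subgroup G} (D : BF T V Z)

include D

theorem bt : BT T Z Z V where
  syl := D.sylG
  zS := D.Z_le_zc
  zl := fun _ => le_rfl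
  ne := D.ne
  com := (D.Z_cent_T 0).trans (centralizer_le (D.Z_le_T 1))
  dis := (eq_bot_iff_forall _).2 fun x hx => D.dis 0 x (D.ZV 0 hx.1) hx.2
  rep := fun i a ha => ⟨1, one_mem _, one_mem _, by simpa using ha⟩
  nS := fun n hn => (D.nrm n hn).imp (fun h j => ⟨(h j).1, h j⟩) (fun h j => ⟨(h j).1, h j⟩)
  ctr := D.ctr

theorem tra : Tra Z V (CC Z) :=
  D.bt.tra D.T_le_C (fun _ => centralizer_le_normalizer _) fun i =>
    norm_cent (A := normalizer (Z i : Set G)) (N := Z i) le_rfl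

/-- **(0.1)** -/
theorem ti : TIp Z := D.bt.ti

/-- `N_G(Z i) = C_i (N_G(T) ∩ N_G(Z 0) ∩ N_G(Z 1) ∩ N_G(V 0) ∩ N_G(V 1))` -/
theorem norm {i : Fin 2} {g : G} (hg : g ∈ normalizer (Z i : Set G)) :
    ∃ c ∈ CC Z i, ∃ n ∈ normalizer (T : Set G), (∀ j, n ∈ normalizer (Z j : Set G) ∧ n ∈ normalizer (V j : Set G)) ∧
      g = c * n := by
  obtain ⟨x, hx, hn⟩ := frattini D.sylG (D.T_le_C i)
    (norm_cent (A := normalizer (Z i : Set G)) (N := Z i) le_rfl hg)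
  have h1 := D.bt.fx_of hn (mul_mem (inv_mem (centralizer_le_normalizer (Z i : Set G) hx)) hg)
  exact ⟨x, hx, _, hn, fun j => ⟨mem_norm_of_conj (h1 j).1, mem_norm_of_conj (h1 j).2.2⟩, by group⟩

theorem adj_iff {i : Fin 2} {u : Subgroup G} : Adj Z (Z i) u ↔ ∃ c ∈ CC Z i, u = MulAut.conj c • Z (i + 1) :=
  D.bt.adj_iff D.tra

theorem lnOn_iff {i : Fin 2} {m : Subgroup G} : OM.PT.LnOn Z V (Z i) m ↔ ∃ c ∈ CC Z i, m = MulAut.conj c • V i :=
  D.bt.lnOn_iff D.tra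

theorem nn_eq (i : Fin 2) : OM.PT.NN Z (Z i) = NN Z i := D.bt.nn_eq D.tra i

theorem xw_eq (i : Fin 2) : XW Z V (Z i) = WW V Z i ⊔ NN Z i := by
  rw [D.bt.xw_eq D.tra i, sup_comm]

theorem T_syl (i : Fin 2) : Syl T (normalizer (Z i : Set G)) :=
  ⟨(D.T_le_C i).trans (centralizer_le_normalizer _), D.sylG.2.1, fun R _ hR2 hTR => D.sylG.2.2 R le_top hR2 hTR⟩

/-- `O₂(N_G(Z i)) = O₂(C_i)` -/
theorem qq_eq (i : Fin 2) : OM.PG.QQ (Z i) = QQ Z i := by
  apply le_antisymm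
  · exact le_o2 ((o2_le_syl (D.T_syl i)).trans (D.T_le_C i)) (o2_isPGroup _)
      ((centralizer_le_normalizer _).trans (le_normalizer_o2 _))
  · refine le_o2 ((o2_le _).trans (centralizer_le_normalizer _)) (o2_isPGroup _) fun g hg => ?_
    exact norm_o2_of (norm_cent (A := normalizer (Z i : Set G)) (N := Z i) le_rfl hg)

/-- **`PP Z V`** -/
theorem pp : PP Z V where
  fus := fun i k h => by
    obtain ⟨s, -, hs⟩ := D.bt.fus i k h
    exact ⟨s, fun j => ⟨(hs j).1, (hs j).2.2⟩⟩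
  ZU := D.ZV
  UN := fun i => by
    rw [D.nn_eq (i + 1)]
    have h := D.V_le_N (i + 1)
    rwa [OM.PT.add2] at h
  sq := D.Z_sq
  ne := D.ne
  N_le_Q := fun i => by
    rw [D.nn_eq i, D.qq_eq i]
    exact D.N_le_Q i
  Q_le_cent := fun i => by
    rw [D.nn_eq i, D.qq_eq i]
    exact D.Q_le_cent_N i
  UQ := fun i x hx y hy => by
    rw [D.qq_eq i] at hy
    exact D.com i x hx y (D.Q_le_T i hy)
  nonLoc := fun R hR h1 h2 =>
    D.nonloc R hR ((centralizer_le_normalizer _).trans h1) ((centralizer_le_normalizer _).trans h2)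

/-- **(0.2)** -/
theorem fus2 : Fus2 Z := by
  intro a ha x hx hx'
  by_cases hx1 : x = 1
  · left
    rw [hx1]
    exact one_mem _
  · rcases D.bt.fusP a ha x hx hx' hx1 with rfl | rfl
    · exact Or.inl hx
    · exact Or.inr hx

/-- (0.2), the form of `PcQ` -/
theorem fusP : ∀ a : Subgroup G, IsPt Z a → ∀ x ∈ a, x ∈ Z 0 ⊔ Z 1 → x ≠ 1 → a = Z 0 ∨ a = Z 1 := D.bt.fusP

/-- (0.2) for elements -/
theorem zero_two {i j : Fin 2} {a b g : G} (ha : a ∈ Z i) (hb : b ∈ Z (i + 1)) (hg : g * (a * b) * g⁻¹ ∈ Z j) :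
    a = 1 ∨ b = 1 := D.bt.zero_two ha hb hg

theorem xw_eab (i : Fin 2) : IsElementaryAbelian 2 (XW Z V (Z i)) := by
  rw [D.xw_eq i, eab_iff]
  have h := (D.X_facts i).2.1
  exact ⟨KL.TwoS.comm_of_sq h, h⟩

theorem xw_le (i : Fin 2) : XW Z V (Z i) ≤ OM.PG.QQ (Z i) := by
  rw [D.xw_eq i, D.qq_eq i]
  exact (D.X_facts i).1

/-- **(NO)** -/
theorem nop (hML : ML.Final.MLK.{u, u}) (hK : ∀ i, IsKGroup (CC Z i)) : NoP Z := by
  rintro _ _ ⟨i, k, rfl, rfl⟩ B hB hBQ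
  refine nob_cj k⁻¹ ?_
  rw [← NN_conj, conj_conj, inv_mul_cancel, map_one, one_smul]
  have h1 : MulAut.conj k⁻¹ • B ≤ QQ Z i := by
    rw [← D.qq_eq i]
    have h2 := conj_le_iff (g := k⁻¹) |>.2 hBQ
    rwa [← OM.PG.QQ_conj, conj_conj, inv_mul_cancel, map_one, one_smul] at h2
  rw [D.nn_eq (i + 1)]
  exact D.no_N hML (hK (i + 1)) (h1.trans (D.Q_le_O i)) (sq_conj (eab_iff.1 hB).2)

/-- `ThmC2` from (G1), in the weak form `[X_i, A] ≤ N_i` -/
theorem thmC2 (hG : ∀ i, ∀ A : Subgroup G, A ≤ CC Z i → IsPGroup 2 A →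
    (∀ a ∈ A, ∀ x ∈ WW V Z i ⊔ NN Z i, a * x * a⁻¹ * x⁻¹ ∈ NN Z i ⊔ Z i) → A ≤ centralizer (NN Z i : Set G)) :
    ThmC2 Z (XW Z V) := by
  rintro _ ⟨i, k, rfl⟩ B hB hBc hcom
  have h1 : MulAut.conj k⁻¹ • B ≤ CC Z i := by
    have h2 := conj_le_centralizer (g := k⁻¹) hBc
    rwa [conj_conj, inv_mul_cancel, map_one, one_smul] at h2
  have h3 := hG i (MulAut.conj k⁻¹ • B) h1 (hB.of_equiv (Subgroup.equivSMul (MulAut.conj k⁻¹) B)) ?_
  · have h4 := conj_le_centralizer (g := k) h3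
    rwa [conj_conj, mul_inv_cancel, map_one, one_smul, ← D.nn_eq i, ← NN_conj] at h4
  · intro a ha x hx
    rw [mem_conj, inv_inv] at ha
    rw [← D.xw_eq i] at hx
    have hx' : k * x * k⁻¹ ∈ XW Z V (MulAut.conj k • Z i) := by
      rw [XW_conj]
      exact mem_cj hx
    have h5 := hcom _ hx' _ ha
    rw [NN_conj, D.nn_eq i, mem_conj] at h5
    have e : k⁻¹ * (k * x * k⁻¹ * (k * a * k⁻¹) * (k * x * k⁻¹)⁻¹ * (k * a * k⁻¹)⁻¹) * k = (a * x * a⁻¹ * x⁻¹)⁻¹ := by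
      group
    rw [e] at h5
    have h6 := inv_mem h5
    rw [inv_inv] at h6
    exact mem_sup_left h6

/-- LEMMA 0 for the neighbours -/
theorem l0 {i : Fin 2} {K : Subgroup G} (h : CC Z i ≤ K ⊔ (CC Z i ⊓ normalizer (Z (i + 1) : Set G)))
    (hn : CC Z i ≤ normalizer (K : Set G)) {u u' : Subgroup G} (hu : Adj Z (Z i) u) (hu' : Adj Z (Z i) u') :
    ∃ x ∈ K, MulAut.conj x • u = u' := by
  have key : ∀ u, Adj Z (Z i) u → ∃ x ∈ K, u = MulAut.conj x • Z (i + 1) := by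
    intro u hu
    obtain ⟨c, hc, rfl⟩ := D.adj_iff.1 hu
    have h1 : CC Z i ⊓ normalizer (Z (i + 1) : Set G) ≤ normalizer (K : Set G) := inf_le_left.trans hn
    obtain ⟨x, hx, d, hd, rfl⟩ := exists_mul_of_mem_sup h1 (h hc)
    refine ⟨x, hx, ?_⟩
    rw [← conj_conj x d, conj_eq_of_mem hd.2]
  obtain ⟨x, hx, rfl⟩ := key u hu
  obtain ⟨y, hy, rfl⟩ := key u' hu'
  refine ⟨y * x⁻¹, mul_mem hy (inv_mem hx), ?_⟩
  rw [conj_conj, inv_mul_cancel_right]

end BF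

end Cfsg.Agent.Omega.KL.TwoZ

end

section


/-!
# The frame `NF` of TEXT W2 gives all the inputs of `OM/PT` (points `Z i`, lines `V i`)

* `NF.bf : BF T V Z`; `NF.tr : Tr Z V`; `NF.pts : Pts Z V`; `NF.rtU : RtU Z V`; `NF.eabV`;
* `NF.false_of_pt` : TEXT W2 (8) over the frame: (G1), (4), (7) give a contradiction.
-/

set_option autoImplicit false
set_option linter.unusedSectionVars false

namespace Cfsg.Agent.Omega.KL.TwoZ

open Subgroup Cfsg Cfsg.Agent.Omega.MinPar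
open Cfsg.Agent.ZN (o2 zc)
open Cfsg.Agent.Omega.NoFF.Basic (conj_conj mem_conj conj_le_iff comm_symm comm_mono Z_le_V V_le conj_le_centralizer)
open Cfsg.Agent.Omega.NOThreeL.Pair (conj_eq_of_mem)
open Cfsg.Agent.Omega.NO3S.EThree.ExactA (eab_iff)
open Cfsg.Agent.Omega.OM.PT (Tr Pts RtU XW)
open Burn
open scoped Pointwise

universe u

variable {G : Type u} [Group G]

namespace NF

variable [Finite G] {T : Subgroup G} {V Z : Fin 2 → Subgroup G} (D : NF T V Z)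

include D

theorem bf : BF T V Z where
  toFr := D.toFr
  sylG := D.sylG
  ctr := D.ctr
  nrm := D.nrm
  com := fun i x hx t ht => by
    have h1 := inv_mem (D.com i t ht x hx)
    have e : (t * x * t⁻¹ * x⁻¹)⁻¹ = x * t * x⁻¹ * t⁻¹ := by group
    rwa [e] at h1

theorem exists_ne (i : Fin 2) : ∃ m ∈ Z i, m ≠ 1 := D.bf.bt.exists_ne i

/-- `v ∈ V i#` is conjugate into `Z i` under an element of `C_G(Z (i+1))` normalising `V i` -/
theorem exists_r {i : Fin 2} {v : G} (hv : v ∈ V i) (hv1 : v ≠ 1) :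
    ∃ r ∈ CC Z (i + 1), r ∈ normalizer (V i : Set G) ∧ r * v * r⁻¹ ∈ Z i := by
  obtain ⟨j, hij, R, hR, hRj, hRi⟩ := D.exists_par i
  obtain ⟨r, hr, h⟩ := D.tra hij hR hRj hRi v hv hv1
  have hj : j = i + 1 := (OM.PT.eq_or i j).resolve_left hij
  subst hj
  exact ⟨r, hRj hr, D.uni i (i + 1) hij.symm R hR hRj hRi i hr, h⟩

theorem tr : Tr Z V := by
  intro i k hk
  obtain ⟨m, hm, hm1⟩ := D.exists_ne i
  have h1 : k * m * k⁻¹ ∈ V i := hk (mem_cj hm)
  have h2 : k * m * k⁻¹ ≠ 1 := by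
    intro e
    apply hm1
    calc m = k⁻¹ * (k * m * k⁻¹) * k := by group
      _ = 1 := by rw [e]; group
  obtain ⟨r, hr, -, h3⟩ := D.exists_r h1 h2
  have h4 : (r * k) * m * (r * k)⁻¹ ∈ Z i := by
    have e : (r * k) * m * (r * k)⁻¹ = r * (k * m * k⁻¹) * r⁻¹ := by group
    rwa [e]
  have h5 := (D.bf.bt.fuse hm hm1 h4).1
  refine ⟨r⁻¹, ?_, conj_eq_of_mem (centralizer_le_normalizer _ (inv_mem hr))⟩
  rw [← conj_conj] at h5
  exact inv_cj h5

theorem pts : Pts Z V := by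
  intro i x hx hx1
  obtain ⟨r, -, hr, h⟩ := D.exists_r hx hx1
  refine ⟨r⁻¹, ?_, ?_⟩
  · have h1 := conj_le_iff (g := r⁻¹) |>.2 (D.ZV i)
    rwa [conj_eq_of_mem (inv_mem hr)] at h1
  · rw [mem_conj, inv_inv]
    exact h

theorem rtU : RtU Z V := by
  intro i
  refine ⟨fun y hy v hv hvZ h => ?_, D.card i, fun hle => ?_⟩
  · rw [D.bf.qq_eq i] at hy
    exact D.free i y (D.Q_le_T i hy) v hv hvZ h
  · obtain ⟨m, hm, hm1⟩ := D.exists_ne i
    have h1 : V i = Z i := le_antisymm hle (D.ZV i)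
    have h2 := D.card i
    rw [h1] at h2
    have h3 : 0 < Nat.card (Z i) := Nat.card_pos
    have h4 : Nat.card (Z i) = 1 := by
      have h5 : Nat.card (Z i) * 1 = Nat.card (Z i) * Nat.card (Z i) := by rw [mul_one]; exact h2
      exact (Nat.eq_of_mul_eq_mul_left h3 h5).symm
    rw [Subgroup.card_eq_one] at h4
    exact D.ne i h4

theorem eabV (i : Fin 2) : IsElementaryAbelian 2 (V i) :=
  eab_iff.2 ⟨KL.TwoS.comm_of_sq (D.sqV i), D.sqV i⟩

/-- **TEXT W2 (8)** over the frame -/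
theorem false_of_pt (hML : ML.Final.MLK.{u, u}) (hK : ∀ i, IsKGroup (CC Z i))
    (hG : ∀ i, ∀ A : Subgroup G, A ≤ CC Z i → IsPGroup 2 A →
      (∀ a ∈ A, ∀ x ∈ WW V Z i ⊔ NN Z i, a * x * a⁻¹ * x⁻¹ ∈ NN Z i ⊔ Z i) → A ≤ centralizer (NN Z i : Set G))
    (hI : NN Z 0 ⊓ NN Z 1 ≤ Z 0 ⊔ Z 1)
    (hPC : ∀ i, WW V Z i ⊔ NN Z i ≤ centralizer (NN Z (i + 1) : Set G)) : False := by
  refine OM.PT.false_of_pc D.bf.pp D.tr D.bf.ti D.pts D.eabV D.rtU D.bf.xw_eab D.bf.xw_le (D.bf.nop hML hK)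
    (D.bf.thmC2 hG) ?_ D.bf.fus2 fun i => ?_
  · rw [D.bf.nn_eq, D.bf.nn_eq]
    exact hI
  · rw [D.bf.xw_eq, D.bf.nn_eq]
    exact hPC i

end NF

end Cfsg.Agent.Omega.KL.TwoZ

end
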