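import Cfsg.Agent.Omega.KL.TwoZ.CycFix
import Cfsg.Agent.Mrg.Omega.KL.TwoZ.Ex
import Cfsg.Agent.Mrg.Omega.OM.PT.Exact
import Cfsg.Agent.Mrg.Omega.All.Basic
import Cfsg.Agent.Mrg.Omega.KL.FlagNO


/-!
# Two natural blocks WITH field automorphisms: the frame over the lines `l 0`, `l 1` (helper918 #24444 (C), (F1), (F2))

`S` is a Sylow 2-subgroup of `G`, `V i` the two blocks, `l i ≤ V i` the `F_(q_i)`-line through `Z i = C_{l i}(S)`,
`Ω₁Z(S) = Z 0 × Z 1`.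

* `LFr` : the frame; `LFr.ctr` : `C_G(z) ≤ N_G(l i)` for `z ∈ Z i#`; `LFr.cz_le` : `C_G(Ω₁Z(S)) ≤ C_G(l 0 l 1) S`;
* `LFr.fuse` : a conjugate of `l i` which meets `l j` is `l j`, with the whole configuration;
* `LFr.pp`, `tr`, `ti`, `pts`, `rtU`, `eab`, `xw_eab`, `xw_le`, `noP`, `fus2` : the input of `PT.false_of_pc` for the
  points `l i` and the lines `V i`.
-/

set_option autoImplicit false
set_option linter.unusedSectionVars false
set_option linter.unusedVariables false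

namespace Cfsg.Agent.Omega.KL.TwoZ.Line

open Subgroup Cfsg Cfsg.Agent.Omega.MinPar
open Cfsg.Agent.ZN (o2 zc)
open Cfsg.Agent.Omega.OM.KTwo (ne_add_one eq_add_one add_one_add_one le_normalizer_V le_V exists_mul_of_mem_sup)
open Cfsg.Agent.MinSimple.MinParabolic (IsMinPar)
open Cfsg.Agent.Omega.NoFF.Basic (conj_conj mem_conj conj_le_iff comm_symm comm_mono Z_le_V V_le)
open Cfsg.Agent.Omega.NOThreeL.Pair (conj_eq_of_mem conj_le_normalizer)
open Cfsg.Agent.ZN.ChoiceSit (Syl exists_syl syl_conj o2_le_syl syl_not_dvd)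
open Cfsg.Agent.MinSimple.VModule (mem_zc zc_le normalizer_le_normalizer_zc le_o2
  o2_isPGroup o2_le zc_le_centralizer le_centralizer_zc le_normalizer_o2 oddGen oddGen_def)
open Cfsg.Agent.Omega.TC.LemZ (card_eq le_norm_of norm_cent norm_inf)
open Cfsg.Agent.Omega.KL.TwoZ (CC V_le_of norm_V norm_o2_of sq_conj sq_V)
open Cfsg.Agent.Omega.OM
open scoped Pointwise

universe u

variable {G : Type u} [Group G]

/-- **two natural blocks `V i`, lines `l i`, with field automorphisms** -/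
structure LFr [Finite G] (S : Sylow 2 G) (V Z l : Fin 2 → Subgroup G) : Prop where
  char2 : ∀ i, centralizer (Z i : Set G) ⊓ centralizer (o2 (centralizer (Z i : Set G)) : Set G) ≤
    o2 (centralizer (Z i : Set G))
  sqV : ∀ i, ∀ x ∈ V i, x ^ 2 = 1
  Zl : ∀ i, Z i ≤ l i
  lV : ∀ i, l i ≤ V i
  ne : ∀ i, Z i ≠ ⊥
  zT : zc (S : Subgroup G) = Z 0 ⊔ Z 1
  lZ : ∀ i, ∀ v ∈ l i, v ∈ centralizer ((S : Subgroup G) : Set G) → v ∈ Z i
  com : V 0 ≤ centralizer (V 1 : Set G)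
  dis : V 0 ⊓ V 1 = ⊥
  nV : ∀ i, (S : Subgroup G) ≤ normalizer (V i : Set G)
  nS : ∀ n ∈ normalizer ((S : Subgroup G) : Set G), (∀ j, MulAut.conj n • l j = l j ∧ MulAut.conj n • V j = V j) ∨
    ∀ j, MulAut.conj n • l j = l (j + 1) ∧ MulAut.conj n • V j = V (j + 1)
  /-- LEMMA PERM (#23931, #24327) -/
  perm : ∀ i, centralizer (zc (S : Subgroup G) : Set G) ≤ normalizer (l i : Set G)
  /-- `S` induces a cyclic group (of field automorphisms) on `l i` -/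
  cyc : ∀ i, ∃ t ∈ (S : Subgroup G), ∀ s ∈ (S : Subgroup G), ∃ n : ℤ, ∀ v ∈ l i, s * v * s⁻¹ = t ^ n * v * (t ^ n)⁻¹
  /-- a local minimal parabolic which moves `Ω₁Z(S)` normalises the lines or moves all of `Z i#` for one `i`, and then its
  elements of odd order centralise the other block -/
  uni : ∀ R : Subgroup G, IsMinPar (S : Subgroup G) R → o2 R ≠ ⊥ →
    ¬ R ≤ centralizer (zc (S : Subgroup G) : Set G) →
    (∀ k, R ≤ normalizer (V k : Set G)) ∧ ((∀ k, R ≤ normalizer (l k : Set G)) ∨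
      ∃ i, (∀ z ∈ Z i, z ≠ 1 → ¬ R ≤ centralizer ({z} : Set G)) ∧
        ∀ g ∈ R, Odd (orderOf g) → g ∈ centralizer (V (i + 1) : Set G))
  /-- a minimal parabolic which normalises the lines induces on `l i` what `S` induces: if it fixes a vector of `Z i#`,
  it centralises `Z i` -/
  gal : ∀ R : Subgroup G, IsMinPar (S : Subgroup G) R → (∀ k, R ≤ normalizer (l k : Set G)) → ∀ i, ∀ z ∈ Z i, z ≠ 1 →
    R ≤ centralizer ({z} : Set G) → R ≤ centralizer (Z i : Set G)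
  /-- the block group is transitive on `V i#` -/
  trV : ∀ i, ∀ v ∈ V i, ∃ h ∈ centralizer (V (i + 1) : Set G), h ∈ normalizer (V i : Set G) ∧ h * v * h⁻¹ ∈ Z i
  /-- the torus -/
  tor : ∀ i, ∀ v ∈ l i, ∃ h ∈ centralizer (V (i + 1) : Set G), h ∈ normalizer (V i : Set G) ∧
    h ∈ normalizer (l i : Set G) ∧ h * v * h⁻¹ ∈ Z i
  VQ : ∀ i, V i ≤ o2 (centralizer (Z i : Set G))
  VC : ∀ i, ∀ c ∈ centralizer (Z i : Set G), MulAut.conj c • V i ≤ centralizer (V i : Set G)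
  VN : ∀ i, V (i + 1) ≤ NoFF.Basic.V (Z (i + 1)) (centralizer (Z i : Set G))
  /-- `C_S(l i)` acts on `V i` as a root group -/
  root : ∀ i, ∀ x ∈ V i, ∀ y ∈ (S : Subgroup G), y ∈ centralizer (l i : Set G) → x * y * x⁻¹ * y⁻¹ ∈ l i
  reg : ∀ i, ∀ y ∈ (S : Subgroup G), y ∈ centralizer (l i : Set G) → ∀ v ∈ V i, v ∉ l i → y * v = v * y →
    y ∈ centralizer (V i : Set G)
  cardV : ∀ i, Nat.card (V i) = Nat.card (l i) * Nat.card (l i)
  nonloc : NonLoc (centralizer (Z 0 : Set G)) (centralizer (Z 1 : Set G))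

theorem mem_norm_iff {g : G} {A : Subgroup G} : g ∈ normalizer (A : Set G) ↔ MulAut.conj g • A = A := by
  refine ⟨conj_eq_of_mem, fun h => ?_⟩
  rw [mem_normalizer_iff]
  intro x
  constructor
  · intro hx
    rw [← h, mem_conj]
    have e : g⁻¹ * (g * x * g⁻¹) * g = x := by group
    rwa [e]
  · intro hx
    rw [← h, mem_conj] at hx
    have e : g⁻¹ * (g * x * g⁻¹) * g = x := by group
    rwa [e] at hx

theorem conj_mem {g x : G} {A : Subgroup G} (h : x ∈ A) : g * x * g⁻¹ ∈ MulAut.conj g • A := by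
  rw [mem_conj]
  have e : g⁻¹ * (g * x * g⁻¹) * g = x := by group
  rwa [e]

theorem inv_conj {g : G} {A B : Subgroup G} (h : MulAut.conj g • A = B) : MulAut.conj g⁻¹ • B = A := by
  rw [← h, conj_conj, inv_mul_cancel, map_one, one_smul]

namespace LFr

variable [Finite G] {S : Sylow 2 G} {V Z l : Fin 2 → Subgroup G} (D : LFr S V Z l)

include D

/-! ### Easy facts -/

theorem S2 : IsPGroup 2 (S : Subgroup G) := S.2

theorem Z_le_zc (i : Fin 2) : Z i ≤ zc (S : Subgroup G) := by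
  rw [D.zT]
  rcases Fin.exists_fin_two.1 ⟨i, rfl⟩ with h | h
  · rw [h]; exact le_sup_left
  · rw [h]; exact le_sup_right

theorem S_le_C (i : Fin 2) : (S : Subgroup G) ≤ CC Z i :=
  (le_centralizer_zc _).trans (centralizer_le (D.Z_le_zc i))

theorem Z_cent_S (i : Fin 2) : Z i ≤ centralizer ((S : Subgroup G) : Set G) := comm_symm (D.S_le_C i)

theorem Z_le_S (i : Fin 2) : Z i ≤ (S : Subgroup G) := (D.Z_le_zc i).trans (zc_le _)

theorem syl {X : Subgroup G} (h : (S : Subgroup G) ≤ X) : Syl (S : Subgroup G) X := by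
  refine ⟨h, S.2, fun R _ hR2 hSR => ?_⟩
  exact S.3 hR2 hSR

theorem Sl (i : Fin 2) : (S : Subgroup G) ≤ normalizer (l i : Set G) := (le_centralizer_zc _).trans (D.perm i)

theorem ZV (i : Fin 2) : Z i ≤ V i := (D.Zl i).trans (D.lV i)

/-- a subgroup of `C_G(z)` over `S` is local -/
theorem o2_ne {i : Fin 2} {z : G} (hz : z ∈ Z i) (hz1 : z ≠ 1) {R : Subgroup G} (hSR : (S : Subgroup G) ≤ R)
    (hRz : R ≤ centralizer ({z} : Set G)) : o2 R ≠ ⊥ := by
  have h0 : zpowers z ≤ (S : Subgroup G) := by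
    rw [zpowers_le]
    exact D.Z_le_S i hz
  have h1 : zpowers z ≤ o2 R := by
    refine le_o2 (h0.trans hSR) (S.2.to_le h0) ?_
    refine hRz.trans (le_trans ?_ (centralizer_le_normalizer _))
    intro x hx
    rw [mem_centralizer_singleton_iff] at hx
    rw [mem_centralizer_iff]
    rintro _ ⟨k, rfl⟩
    exact ((show Commute x z from hx).zpow_right k).symm
  intro hc
  rw [hc, le_bot_iff, zpowers_eq_bot] at h1
  exact hz1 h1

theorem comm' (i : Fin 2) : V i ≤ centralizer (V (i + 1) : Set G) := by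
  fin_cases i
  · exact D.com
  · exact comm_symm D.com

theorem dis' {i j : Fin 2} (h : i ≠ j) {x : G} (hi : x ∈ V i) (hj : x ∈ V j) : x = 1 := by
  have h1 : x ∈ V 0 ⊓ V 1 := by
    fin_cases i <;> fin_cases j
    · exact absurd rfl h
    · exact ⟨hi, hj⟩
    · exact ⟨hj, hi⟩
    · exact absurd rfl h
  rwa [D.dis, mem_bot] at h1

theorem exists_ne (i : Fin 2) : ∃ z ∈ Z i, z ≠ 1 := by
  by_contra hc
  push Not at hc
  exact D.ne i (eq_bot_iff.2 fun x hx => mem_bot.2 (hc x hx))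

theorem V_comm (i : Fin 2) {x y : G} (hx : x ∈ V i) (hy : y ∈ V i) : x * y = y * x :=
  mem_centralizer_iff.1 (TwoS.comm_of_sq (D.sqV i) hy) x hx

/-- `N_G(S)` on the configuration: `n` maps `l i` to `l j` as soon as the image meets `l j` -/
theorem nS' {n a : G} {i j : Fin 2} (hn : n ∈ normalizer ((S : Subgroup G) : Set G)) (ha : a ∈ l i) (ha1 : a ≠ 1)
    (h : n * a * n⁻¹ ∈ V j) : MulAut.conj n • l i = l j ∧ MulAut.conj n • l (i + 1) = l (j + 1) ∧
      MulAut.conj n • V i = V j ∧ MulAut.conj n • V (i + 1) = V (j + 1) := by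
  have hb1 : n * a * n⁻¹ ≠ 1 := fun h => ha1 (conj_eq_one_iff.1 h)
  rcases D.nS n hn with h1 | h1
  · have h2 : n * a * n⁻¹ ∈ V i := by
      rw [← (h1 i).2]
      exact conj_mem (D.lV i ha)
    have hij : i = j := by
      by_contra hne
      exact hb1 (D.dis' hne h2 h)
    subst hij
    exact ⟨(h1 i).1, (h1 _).1, (h1 i).2, (h1 _).2⟩
  · have h2 : n * a * n⁻¹ ∈ V (i + 1) := by
      rw [← (h1 i).2]
      exact conj_mem (D.lV i ha)
    have hij : i + 1 = j := by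
      by_contra hne
      exact hb1 (D.dis' hne h2 h)
    subst hij
    exact ⟨(h1 i).1, (h1 _).1, (h1 i).2, (h1 _).2⟩

/-! ### (F1) -/

/-- the elements of odd order of `C_G(Ω₁Z(S))` centralise the lines -/
theorem odd_cent (i : Fin 2) : oddGen (centralizer (zc (S : Subgroup G) : Set G)) ≤ centralizer (l i : Set G) := by
  rw [oddGen_def, closure_le]
  rintro g ⟨hg, hgo⟩
  set X : Subgroup G := centralizer (zc (S : Subgroup G) : Set G) with hX
  have hSX : (S : Subgroup G) ≤ X := le_centralizer_zc _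
  let _ : CommGroup (l i) :=
    { (inferInstance : Group (l i)) with
      mul_comm := fun x y => Subtype.ext (D.V_comm i (D.lV i x.2) (D.lV i y.2)) }
  let act : MulDistribMulAction X (l i) :=
    { smul := fun x v => ⟨(x : G) * v * (x : G)⁻¹, (mem_normalizer_iff.1 (D.perm i x.2) v).1 v.2⟩
      one_smul := fun v => Subtype.ext (by show (1 : G) * v * (1 : G)⁻¹ = v; simp)
      mul_smul := fun x y v => Subtype.ext (by
        show (x * y : G) * v * (x * y : G)⁻¹ = x * (y * v * (y : G)⁻¹) * (x : G)⁻¹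
        group)
      smul_mul := fun x v w => Subtype.ext (by
        show (x : G) * (v * w) * (x : G)⁻¹ = (x * v * (x : G)⁻¹) * (x * w * (x : G)⁻¹)
        group)
      smul_one := fun x => Subtype.ext (by show (x : G) * 1 * (x : G)⁻¹ = 1; simp) }
  have hact : ∀ (x : X) (v : l i), ((x • v : l i) : G) = (x : G) * v * (x : G)⁻¹ := fun _ _ => rfl
  obtain ⟨t, ht, hc⟩ := D.cyc i
  have h1 := CycFix.fix_odd (A := X) (l := l i) (fun v => Subtype.ext (by
      have := D.sqV i v (D.lV i v.2)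
      rw [pow_two] at this
      exact this)) ((S : Subgroup G).subgroupOf X) (S.2.comap_of_injective _ X.subtype_injective)
    (syl_not_dvd (D.syl hSX)) ⟨t, hSX ht⟩ ht (by
      rintro ⟨p, hp⟩ hpS
      obtain ⟨n, hn⟩ := hc p hpS
      refine ⟨n, fun v => Subtype.ext ?_⟩
      rw [hact, hact]
      show p * v * p⁻¹ = ((⟨t, hSX ht⟩ ^ n : X) : G) * v * ((⟨t, hSX ht⟩ ^ n : X) : G)⁻¹
      rw [coe_zpow]
      exact hn v v.2) (by
      intro v hv a
      have hvZ : (v : G) ∈ Z i := by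
        refine D.lZ i v v.2 (mem_centralizer_iff.2 fun s hs => ?_)
        have h2 := congrArg Subtype.val (hv ⟨s, hSX hs⟩ hs)
        have h3 : s * (v : G) * s⁻¹ = v := h2
        calc s * (v : G) = (s * v * s⁻¹) * s := by group
          _ = v * s := by rw [h3]
      refine Subtype.ext ?_
      rw [hact]
      have h4 := mem_centralizer_iff.1 a.2 v (D.Z_le_zc i hvZ)
      rw [← h4, mul_inv_cancel_right]) ⟨g, hg⟩ (by
      rw [← orderOf_injective X.subtype X.subtype_injective]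
      exact hgo)
  refine mem_centralizer_iff.2 fun v hv => ?_
  have h5 := congrArg Subtype.val (h1 ⟨v, hv⟩)
  have h6 : g * v * g⁻¹ = v := h5
  calc v * g = (g * v * g⁻¹) * g := by rw [h6]
    _ = g * v := by group

/-- `C_G(Ω₁Z(S)) ≤ C_G(l 0 l 1) S` -/
theorem cz_le : centralizer (zc (S : Subgroup G) : Set G) ≤
    (centralizer (l 0 : Set G) ⊓ centralizer (l 1 : Set G)) ⊔ (S : Subgroup G) := by
  have hSX : (S : Subgroup G) ≤ centralizer (zc (S : Subgroup G) : Set G) := le_centralizer_zc _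
  have h1 := Star.Core.oddGen_sup hSX (syl_not_dvd (D.syl hSX))
  rw [← h1]
  exact sup_le_sup_right (le_inf (D.odd_cent 0) (D.odd_cent 1)) _

/-- the stabiliser of the configuration -/
def conf (V l : Fin 2 → Subgroup G) (i : Fin 2) : Subgroup G :=
  normalizer (l i : Set G) ⊓ normalizer (l (i + 1) : Set G) ⊓ normalizer (V i : Set G) ⊓
    normalizer (V (i + 1) : Set G)

theorem S_le_conf (i : Fin 2) : (S : Subgroup G) ≤ conf V l i :=
  le_inf (le_inf (le_inf (D.Sl i) (D.Sl _)) (D.nV i)) (D.nV _)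

theorem conf_of {g : G} {i : Fin 2} (h : MulAut.conj g • l i = l i ∧ MulAut.conj g • l (i + 1) = l (i + 1) ∧
      MulAut.conj g • V i = V i ∧ MulAut.conj g • V (i + 1) = V (i + 1)) : g ∈ conf V l i :=
  ⟨⟨⟨mem_norm_iff.2 h.1, mem_norm_iff.2 h.2.1⟩, mem_norm_iff.2 h.2.2.1⟩, mem_norm_iff.2 h.2.2.2⟩

/-- `C_G(z) ≤ C_G(l i) Stab` for `z ∈ Z i#` -/
theorem ctr' {i : Fin 2} {z : G} (hz : z ∈ Z i) (hz1 : z ≠ 1) :
    centralizer ({z} : Set G) ≤ centralizer (l i : Set G) ⊔ conf V l i := by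
  have hSz : (S : Subgroup G) ≤ centralizer ({z} : Set G) :=
    (D.S_le_C i).trans (centralizer_le (Set.singleton_subset_iff.2 hz))
  refine MinSimple.MinParabolic.le_of_forall hSz ?_ fun R hR hRX => ?_
  · rintro n ⟨hn, hnS⟩
    refine le_sup_right (a := centralizer (l i : Set G)) (D.conf_of (D.nS' hnS (D.Zl i hz) hz1 (j := i) ?_))
    have h1 : n * z * n⁻¹ = z := by
      rw [(mem_centralizer_singleton_iff.1 hn), mul_inv_cancel_right]
    rw [h1]
    exact D.ZV i hz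
  · by_cases hc : R ≤ centralizer (zc (S : Subgroup G) : Set G)
    · refine (hc.trans D.cz_le).trans (sup_le_sup ?_ (D.S_le_conf i))
      rcases Fin.exists_fin_two.1 ⟨i, rfl⟩ with h | h
      · rw [h]; exact inf_le_left
      · rw [h]; exact inf_le_right
    · obtain ⟨hV, h1 | ⟨k, hk1, hk2⟩⟩ := D.uni R hR (D.o2_ne hz hz1 hR.le hRX) hc
      · exact (le_inf (le_inf (le_inf (h1 i) (h1 _)) (hV i)) (hV _)).trans le_sup_right
      · rcases PT.eq_or k i with rfl | rfl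
        · exact absurd hRX (hk1 z hz hz1)
        · have h2 : oddGen R ≤ centralizer (l (k + 1) : Set G) := by
            rw [oddGen_def, closure_le]
            rintro g ⟨hg, hgo⟩
            exact centralizer_le (D.lV _) (hk2 g hg hgo)
          rw [← Star.Core.oddGen_sup hR.le (syl_not_dvd (D.syl hR.le))]
          exact sup_le_sup h2 (D.S_le_conf _)

theorem ctr {i : Fin 2} {z : G} (hz : z ∈ Z i) (hz1 : z ≠ 1) :
    centralizer ({z} : Set G) ≤ normalizer (l i : Set G) :=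
  (D.ctr' hz hz1).trans (sup_le (centralizer_le_normalizer _) (inf_le_left.trans (inf_le_left.trans inf_le_left)))

theorem C_le_N (i : Fin 2) : CC Z i ≤ normalizer (l i : Set G) := by
  obtain ⟨z, hz, hz1⟩ := D.exists_ne i
  exact (centralizer_le (Set.singleton_subset_iff.2 hz)).trans (D.ctr hz hz1)

/-- products of `C_G(l i)` and elements normalising `l i` -/
theorem mul_of_sup {i : Fin 2} {x : G} (h : x ∈ centralizer (l i : Set G) ⊔ conf V l i) :
    ∃ c ∈ centralizer (l i : Set G), ∃ m ∈ conf V l i, c * m = x := by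
  have hn : conf V l i ≤ normalizer ((centralizer (l i : Set G) : Subgroup G) : Set G) :=
    norm_cent (inf_le_left.trans (inf_le_left.trans inf_le_left))
  obtain ⟨c, hc, m, hm, e⟩ := exists_mul_of_mem_sup hn h
  exact ⟨c, hc, m, hm, e.symm⟩

/-- **a conjugate of `l i` which meets `l j` is `l j`, with the whole configuration** -/
theorem fuse {i j : Fin 2} {g a : G} (ha : a ∈ l i) (ha1 : a ≠ 1) (h : g * a * g⁻¹ ∈ l j) :
    ∃ c ∈ centralizer (l j : Set G), ∃ m, c * m = g ∧ MulAut.conj m • l i = l j ∧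
      MulAut.conj m • l (i + 1) = l (j + 1) ∧ MulAut.conj m • V i = V j ∧ MulAut.conj m • V (i + 1) = V (j + 1) := by
  obtain ⟨h1, h1c, h1V, h1l, h1Z⟩ := D.tor i a ha
  obtain ⟨h2, h2c, h2V, h2l, h2Z⟩ := D.tor j _ h
  set a1 := h1 * a * h1⁻¹ with ha1'
  set b1 := h2 * (g * a * g⁻¹) * h2⁻¹ with hb1'
  have e1 : (h2 * g * h1⁻¹) * a1 * (h2 * g * h1⁻¹)⁻¹ = b1 := by rw [ha1', hb1']; group
  obtain ⟨n, hn, hn1⟩ := All.HOne.burnside S (D.Z_le_zc i h1Z) (D.Z_le_zc j h2Z) e1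
  have ha1ne : a1 ≠ 1 := fun e => ha1 (conj_eq_one_iff.1 e)
  have hb1ne : b1 ≠ 1 := fun e => ha1ne (conj_eq_one_iff.1 (hn1.trans e))
  obtain ⟨n1, n2, n3, n4⟩ := D.nS' hn (D.Zl i h1Z) ha1ne (j := j) (by rw [hn1]; exact D.ZV j h2Z)
  -- `x = h2 g h1⁻¹ n⁻¹` centralises `b1`
  have hx : h2 * g * h1⁻¹ * n⁻¹ ∈ centralizer ({b1} : Set G) := by
    rw [mem_centralizer_singleton_iff]
    have e2 : n⁻¹ * b1 * n = a1 := by rw [← hn1]; group
    calc h2 * g * h1⁻¹ * n⁻¹ * b1 = (h2 * g * h1⁻¹) * (n⁻¹ * b1 * n) * n⁻¹ := by group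
      _ = ((h2 * g * h1⁻¹) * a1 * (h2 * g * h1⁻¹)⁻¹) * (h2 * g * h1⁻¹ * n⁻¹) := by rw [e2]; group
      _ = b1 * (h2 * g * h1⁻¹ * n⁻¹) := by rw [e1]
  obtain ⟨c, hc, m, hm, hcm⟩ := D.mul_of_sup (D.ctr' h2Z hb1ne hx)
  refine ⟨h2⁻¹ * c * h2, ?_, h2⁻¹ * m * n * h1, ?_, ?_, ?_, ?_, ?_⟩
  · have h3 := (mem_normalizer_iff.1 (norm_cent (A := normalizer (l j : Set G)) le_rfl (inv_mem h2l)) c).1 hc
    rwa [inv_inv] at h3
  · have e3 : h2⁻¹ * c * h2 * (h2⁻¹ * m * n * h1) = h2⁻¹ * (c * m) * n * h1 := by group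
    rw [e3, hcm]
    group
  all_goals have hm' := hm
  · obtain ⟨⟨⟨hm1, hm2⟩, hm3⟩, hm4⟩ := hm'
    rw [← conj_conj, ← conj_conj, ← conj_conj, conj_eq_of_mem h1l, n1, conj_eq_of_mem hm1,
      conj_eq_of_mem (inv_mem h2l)]
  · obtain ⟨⟨⟨hm1, hm2⟩, hm3⟩, hm4⟩ := hm'
    have h1' : h1 ∈ normalizer (l (i + 1) : Set G) := centralizer_le_normalizer _ (centralizer_le (D.lV _) h1c)
    have h2' : h2 ∈ normalizer (l (j + 1) : Set G) := centralizer_le_normalizer _ (centralizer_le (D.lV _) h2c)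
    rw [← conj_conj, ← conj_conj, ← conj_conj, conj_eq_of_mem h1', n2, conj_eq_of_mem hm2,
      conj_eq_of_mem (inv_mem h2')]
  · obtain ⟨⟨⟨hm1, hm2⟩, hm3⟩, hm4⟩ := hm'
    rw [← conj_conj, ← conj_conj, ← conj_conj, conj_eq_of_mem h1V, n3, conj_eq_of_mem hm3,
      conj_eq_of_mem (inv_mem h2V)]
  · obtain ⟨⟨⟨hm1, hm2⟩, hm3⟩, hm4⟩ := hm'
    have h1' : h1 ∈ normalizer (V (i + 1) : Set G) := centralizer_le_normalizer _ h1c
    have h2' : h2 ∈ normalizer (V (j + 1) : Set G) := centralizer_le_normalizer _ h2c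
    rw [← conj_conj, ← conj_conj, ← conj_conj, conj_eq_of_mem h1', n4, conj_eq_of_mem hm4,
      conj_eq_of_mem (inv_mem h2')]

theorem fuse_eq {i j : Fin 2} {g a : G} (ha : a ∈ l i) (ha1 : a ≠ 1) (h : g * a * g⁻¹ ∈ l j) :
    MulAut.conj g • l i = l j := by
  obtain ⟨c, hc, m, rfl, h1, -⟩ := D.fuse ha ha1 h
  rw [← conj_conj, h1, conj_eq_of_mem (centralizer_le_normalizer _ hc)]

/-! ### The points and lines of 683's `PT` -/

/-- `N_G(l i) ≤ C_G(l i) Stab` -/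
theorem norm_eq {i : Fin 2} {g : G} (hg : g ∈ normalizer (l i : Set G)) :
    ∃ c ∈ centralizer (l i : Set G), ∃ m ∈ conf V l i, c * m = g := by
  obtain ⟨z, hz, hz1⟩ := D.exists_ne i
  obtain ⟨c, hc, m, hm, h1, h2, h3, h4⟩ := D.fuse (D.Zl i hz) hz1 ((mem_normalizer_iff.1 hg z).1 (D.Zl i hz))
  exact ⟨c, hc, m, D.conf_of ⟨h1, h2, h3, h4⟩, hm⟩

theorem adj_iff {i : Fin 2} {u : Subgroup G} :
    PT.Adj l (l i) u ↔ ∃ c ∈ centralizer (l i : Set G), u = MulAut.conj c • l (i + 1) := by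
  constructor
  · rintro ⟨j, k, h1, rfl⟩
    obtain ⟨z, hz, hz1⟩ := D.exists_ne j
    obtain ⟨c, hc, m, rfl, h2, h3, -, -⟩ := D.fuse (j := i) (g := k) (D.Zl j hz) hz1 (by
      rw [h1]; exact conj_mem (D.Zl j hz))
    exact ⟨c, hc, by rw [← conj_conj, h3]⟩
  · rintro ⟨c, hc, rfl⟩
    exact ⟨i, c, (conj_eq_of_mem (centralizer_le_normalizer _ hc)).symm, rfl⟩

theorem lnOn_iff {i : Fin 2} {x : Subgroup G} :
    PT.LnOn l V (l i) x ↔ ∃ c ∈ centralizer (l i : Set G), x = MulAut.conj c • V i := by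
  constructor
  · rintro ⟨j, k, h1, rfl⟩
    obtain ⟨z, hz, hz1⟩ := D.exists_ne j
    obtain ⟨c, hc, m, rfl, h2, -, h3, -⟩ := D.fuse (j := i) (g := k) (D.Zl j hz) hz1 (by
      rw [h1]; exact conj_mem (D.Zl j hz))
    exact ⟨c, hc, by rw [← conj_conj, h3]⟩
  · rintro ⟨c, hc, rfl⟩
    exact ⟨i, c, (conj_eq_of_mem (centralizer_le_normalizer _ hc)).symm, rfl⟩

theorem cl_le (i : Fin 2) : centralizer (l i : Set G) ≤ CC Z i := centralizer_le (D.Zl i)

theorem Q_le_S (i : Fin 2) : TwoZ.QQ Z i ≤ (S : Subgroup G) := o2_le_syl (D.syl (D.S_le_C i))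

theorem Z_le_Q (i j : Fin 2) : Z j ≤ TwoZ.QQ Z i := by
  refine le_trans (le_inf ((D.Z_le_S j).trans (D.S_le_C i)) ?_) (D.char2 i)
  exact (D.Z_cent_S j).trans (centralizer_le (D.Q_le_S i))

/-- **`N_i` is the same in both frames** -/
theorem NN_eq (i : Fin 2) : PT.NN l (l i) = TwoZ.NN Z i := by
  apply le_antisymm
  · refine sSup_le fun u hu => ?_
    obtain ⟨c, hc, rfl⟩ := D.adj_iff.1 hu
    have h1 : l (i + 1) ≤ TwoZ.NN Z i := (D.lV _).trans (D.VN i)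
    have h2 : MulAut.conj c • TwoZ.NN Z i = TwoZ.NN Z i :=
      conj_eq_of_mem (le_normalizer_V (Z (i + 1)) (CC Z i) (D.cl_le i hc))
    rw [← h2]
    exact conj_le_iff.2 h1
  · refine V_le fun c hc => ?_
    have h1 : MulAut.conj c • l i = l i := conj_eq_of_mem (D.C_le_N i hc)
    have h2 : PT.Adj l (l i) (MulAut.conj c • l (i + 1)) := ⟨i, c, h1.symm, rfl⟩
    exact (conj_le_iff.2 (D.Zl _)).trans h2.le_NN

theorem TN_le_Q (i : Fin 2) : TwoZ.NN Z i ≤ TwoZ.QQ Z i := V_le_of (D.Z_le_Q i (i + 1)) (le_normalizer_o2 _)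

theorem HH_norm_NN (i : Fin 2) : normalizer (l i : Set G) ≤ normalizer (PT.NN l (l i) : Set G) := PT.PP.HH_le_NN _

theorem S_le_H (i : Fin 2) : (S : Subgroup G) ≤ normalizer (l i : Set G) := D.Sl i

theorem PQ_le_S (i : Fin 2) : o2 (normalizer (l i : Set G)) ≤ (S : Subgroup G) := o2_le_syl (D.syl (D.Sl i))

/-- `O₂(N_G(l i))` centralises `l i` -/
theorem PQ_le_cl (i : Fin 2) : o2 (normalizer (l i : Set G)) ≤ centralizer (l i : Set G) := by
  intro q hq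
  refine mem_centralizer_iff.2 fun v hv => ?_
  obtain ⟨h, -, -, h1, h2⟩ := D.tor i v hv
  have h3 : h * q * h⁻¹ ∈ o2 (normalizer (l i : Set G)) := (mem_normalizer_iff.1 (le_normalizer_o2 _ h1) q).1 hq
  have h4 := mem_centralizer_iff.1 (D.S_le_C i (D.PQ_le_S i h3)) _ h2
  have e1 : v * q = h⁻¹ * ((h * v * h⁻¹) * (h * q * h⁻¹)) * h := by group
  have e2 : q * v = h⁻¹ * ((h * q * h⁻¹) * (h * v * h⁻¹)) * h := by group
  rw [e1, e2, h4]

/-- `O₂(N_G(l i)) = O₂(C_G(Z i)) ∩ C_G(l i)` -/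
theorem PQ_eq (i : Fin 2) : o2 (normalizer (l i : Set G)) = TwoZ.QQ Z i ⊓ centralizer (l i : Set G) := by
  apply le_antisymm
  · refine le_inf ?_ (D.PQ_le_cl i)
    exact le_o2 ((D.PQ_le_S i).trans (D.S_le_C i)) (o2_isPGroup _) ((D.C_le_N i).trans (le_normalizer_o2 _))
  · have h1 : TwoZ.QQ Z i ⊓ centralizer (l i : Set G) ≤ o2 (centralizer (l i : Set G)) := by
      refine le_o2 inf_le_right ((o2_isPGroup _).to_le inf_le_left) (le_norm_of fun c hc q hq => ⟨?_, ?_⟩)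
      · exact (mem_normalizer_iff.1 (le_normalizer_o2 _ (D.cl_le i hc)) q).1 hq.1
      · exact (centralizer (l i : Set G)).mul_mem ((centralizer (l i : Set G)).mul_mem hc hq.2) ((centralizer (l i : Set G)).inv_mem hc)
    refine h1.trans (le_o2 ((o2_le _).trans (centralizer_le_normalizer _)) (o2_isPGroup _) ?_)
    intro g hg
    exact norm_o2_of (norm_cent (A := normalizer (l i : Set G)) le_rfl hg)

theorem PQ_le_Q (i : Fin 2) : o2 (normalizer (l i : Set G)) ≤ TwoZ.QQ Z i := by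
  rw [D.PQ_eq]; exact inf_le_left

theorem Q_cent_TN (i : Fin 2) : TwoZ.QQ Z i ≤ centralizer (TwoZ.NN Z i : Set G) :=
  comm_symm (V_le_of ((D.Z_cent_S (i + 1)).trans (centralizer_le (D.Q_le_S i))) (norm_cent (le_normalizer_o2 _)))

theorem TN_le_cl (i : Fin 2) : TwoZ.NN Z i ≤ centralizer (l i : Set G) := by
  have h1 : l i ≤ TwoZ.QQ Z i := (D.lV i).trans (D.VQ i)
  exact comm_symm (h1.trans (D.Q_cent_TN i))

/-- **the axioms of `PT`** -/
theorem pp : PT.PP l V where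
  fus := by
    intro i k h
    obtain ⟨z, hz, hz1⟩ := D.exists_ne i
    obtain ⟨c, hc, m, -, h1, h2, h3, h4⟩ := D.fuse (j := i + 1) (g := k) (D.Zl i hz) hz1 (by
      rw [← h]; exact conj_mem (D.Zl i hz))
    refine ⟨m, fun j => ?_⟩
    rcases PT.eq_or i j with rfl | rfl
    · exact ⟨h1, h3⟩
    · exact ⟨h2, h4⟩
  ZU := D.lV
  UN := by
    intro i
    rw [D.NN_eq]
    have h1 : V (i + 1 + 1) ≤ TwoZ.NN Z (i + 1) := D.VN (i + 1)
    have e : V (i + 1 + 1) = V i := by rw [PT.add2]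
    rwa [e] at h1
  sq := fun i x hx => D.sqV i x (D.lV i hx)
  ne := fun i h => D.ne i (le_bot_iff.1 (h ▸ D.Zl i))
  N_le_Q := by
    intro i
    show PT.NN l (l i) ≤ o2 (normalizer (l i : Set G))
    rw [D.PQ_eq, D.NN_eq]
    exact le_inf (D.TN_le_Q i) (D.TN_le_cl i)
  Q_le_cent := by
    intro i
    rw [D.NN_eq]
    exact (D.PQ_le_Q i).trans (D.Q_cent_TN i)
  UQ := fun i x hx y hy => D.root i x hx y (D.PQ_le_S i hy) (D.PQ_le_cl i hy)
  nonLoc := fun U hU h0 h1 => D.nonloc U hU ((D.C_le_N 0).trans h0) ((D.C_le_N 1).trans h1)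

theorem tr : PT.Tr l V := by
  intro i k h
  obtain ⟨z, hz, hz1⟩ := D.exists_ne i
  obtain ⟨h1, h1c, h1V, h1Z⟩ := D.trV i (k * z * k⁻¹) (h (conj_mem (D.Zl i hz)))
  have h2 : MulAut.conj (h1 * k) • l i = l i := by
    refine D.fuse_eq (D.Zl i hz) hz1 ?_
    have e : (h1 * k) * z * (h1 * k)⁻¹ = h1 * (k * z * k⁻¹) * h1⁻¹ := by group
    rw [e]
    exact D.Zl i h1Z
  refine ⟨h1⁻¹, ?_, ?_⟩
  · rw [← conj_conj] at h2
    exact inv_conj h2
  · exact conj_eq_of_mem (inv_mem (centralizer_le_normalizer _ (centralizer_le (D.lV _) h1c)))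

theorem ti : PT.TIp l := by
  rintro _ _ ⟨i, k, rfl⟩ ⟨j, m, rfl⟩ hne
  by_contra hb
  obtain ⟨x, hx, hx1⟩ : ∃ x ∈ MulAut.conj k • l i ⊓ MulAut.conj m • l j, x ≠ 1 := by
    by_contra hc
    push Not at hc
    exact hb (eq_bot_iff.2 fun x hx => mem_bot.2 (hc x hx))
  apply hne
  have h1 := mem_conj.1 hx.1
  have h2 := mem_conj.1 hx.2
  have h3 : MulAut.conj (m⁻¹ * k) • l i = l j := by
    refine D.fuse_eq h1 (fun e => hx1 ?_) ?_
    · have e1 : x = k * (k⁻¹ * x * k) * k⁻¹ := by group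
      rw [e1, e]; group
    · have e1 : (m⁻¹ * k) * (k⁻¹ * x * k) * (m⁻¹ * k)⁻¹ = m⁻¹ * x * m := by group
      rw [e1]; exact h2
  rw [← h3, conj_conj, mul_inv_cancel_left]

theorem pts : PT.Pts l V := by
  intro i x hx hx1
  obtain ⟨h, -, hV, hZ⟩ := D.trV i x hx
  refine ⟨h⁻¹, ?_, ?_⟩
  · have h1 : MulAut.conj h⁻¹ • V i = V i := conj_eq_of_mem (inv_mem hV)
    rw [← h1]
    exact conj_le_iff.2 (D.lV i)
  · rw [mem_conj, inv_inv]
    exact D.Zl i hZ

theorem eab (i : Fin 2) : IsElementaryAbelian 2 (V i) :=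
  NO3S.EThree.ExactA.eab_iff.2 ⟨TwoS.comm_of_sq (D.sqV i), D.sqV i⟩

theorem rtU : PT.RtU l V := by
  intro i
  refine ⟨fun y hy v hv hv1 h => ?_, D.cardV i, fun h => ?_⟩
  · exact D.reg i y (D.PQ_le_S i hy) (D.PQ_le_cl i hy) v hv hv1 h
  · have h1 := card_le_of_le h
    have h2 : 1 < Nat.card (l i) := by
      rw [Subgroup.one_lt_card_iff_ne_bot]
      exact fun e => D.ne i (le_bot_iff.1 (e ▸ D.Zl i))
    rw [D.cardV i] at h1
    nlinarith

/-- `W_i` and `X_i` -/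
theorem ln_le_W {i : Fin 2} {x : Subgroup G} (h : PT.LnOn l V (l i) x) :
    x ≤ TwoZ.WW V Z i := by
  obtain ⟨c, hc, rfl⟩ := D.lnOn_iff.1 h
  exact Z_le_V (D.cl_le i hc)

theorem W_le_Q (i : Fin 2) : TwoZ.WW V Z i ≤ TwoZ.QQ Z i := V_le_of (D.VQ i) (le_normalizer_o2 _)

theorem W_comm (i : Fin 2) : TwoZ.WW V Z i ≤ centralizer (TwoZ.WW V Z i : Set G) := by
  refine V_le fun c hc => comm_symm (V_le fun d hd => ?_)
  have h1 := D.VC i (c⁻¹ * d) (mul_mem (inv_mem hc) hd)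
  have h2 : MulAut.conj c • (MulAut.conj (c⁻¹ * d) • V i) ≤ MulAut.conj c • centralizer (V i : Set G) :=
    conj_le_iff.2 h1
  rw [conj_conj, mul_inv_cancel_left, NoFF.ThmJFam.conj_cent] at h2
  exact h2

theorem W_sq (i : Fin 2) : ∀ x ∈ TwoZ.WW V Z i, x ^ 2 = 1 := sq_V (D.sqV i) (D.W_comm i)

theorem TN_comm (i : Fin 2) : TwoZ.NN Z i ≤ centralizer (TwoZ.NN Z i : Set G) := (D.TN_le_Q i).trans (D.Q_cent_TN i)

theorem TN_sq (i : Fin 2) : ∀ x ∈ TwoZ.NN Z i, x ^ 2 = 1 :=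
  sq_V (fun x hx => D.sqV _ x (D.ZV _ hx)) (D.TN_comm i)

theorem XW_le (i : Fin 2) : PT.XW l V (l i) ≤ TwoZ.NN Z i ⊔ TwoZ.WW V Z i := by
  unfold PT.XW
  rw [D.NN_eq]
  exact sup_le_sup_left (iSup_le fun x => D.ln_le_W x.2) _

/-- `X_i = ⟨lines on l i⟩ N_i` is elementary abelian -/
theorem xw_eab (i : Fin 2) : IsElementaryAbelian 2 (PT.XW l V (l i)) := by
  have hN : IsElementaryAbelian 2 (TwoZ.NN Z i) := NO3S.EThree.ExactA.eab_iff.2 ⟨D.TN_comm i, D.TN_sq i⟩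
  have hW : IsElementaryAbelian 2 (TwoZ.WW V Z i) := NO3S.EThree.ExactA.eab_iff.2 ⟨D.W_comm i, D.W_sq i⟩
  have hNW : TwoZ.NN Z i ≤ centralizer (TwoZ.WW V Z i : Set G) :=
    comm_symm ((D.W_le_Q i).trans (D.Q_cent_TN i))
  exact NO3S.EThree.ExactA.eab_mono (NO3S.EThree.ExactA.eab_sup hN hW hNW) (D.XW_le i)

theorem V_le_PQ (i : Fin 2) : V i ≤ o2 (normalizer (l i : Set G)) := by
  rw [D.PQ_eq]
  exact le_inf (D.VQ i) (comm_symm ((D.lV i).trans (TwoS.comm_of_sq (D.sqV i))))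

theorem xw_le (i : Fin 2) : PT.XW l V (l i) ≤ OM.PG.QQ (l i) := by
  refine sup_le (D.pp.N_le_Q i) (iSup_le fun x => ?_)
  obtain ⟨c, hc, hx⟩ := D.lnOn_iff.1 x.2
  rw [hx]
  have h1 : MulAut.conj c • o2 (normalizer (l i : Set G)) = o2 (normalizer (l i : Set G)) :=
    conj_eq_of_mem (le_normalizer_o2 _ (centralizer_le_normalizer _ hc))
  show MulAut.conj c • V i ≤ o2 (normalizer (l i : Set G))
  rw [← h1]
  exact conj_le_iff.2 (D.V_le_PQ i)

/-- **(NO)** -/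
theorem noP (hML : ML.Final.MLK.{u, u}) (hK : ∀ i, IsKGroup (CC Z i)) : PT.NoP l := by
  rintro _ _ ⟨i, k, rfl, rfl⟩ B hB hBQ
  have hB' : MulAut.conj k⁻¹ • B ≤ OM.PG.QQ (l i) := by
    have h1 := conj_le_iff (g := k⁻¹) |>.2 hBQ
    rwa [OM.PG.QQ_conj, OM.PG.inv_conj_conj] at h1
  have hB2 : ∀ b ∈ MulAut.conj k⁻¹ • B, b ^ 2 = 1 := sq_conj fun b hb => hB.2 b hb
  have key : OM.PG.Peel.Nob (PT.NN l (l (i + 1))) (MulAut.conj k⁻¹ • B) := by
    unfold OM.PG.Peel.Nob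
    rw [D.NN_eq]
    have e : Z (i + 1 + 1) = Z i := by rw [PT.add2]
    have hN : TwoZ.NN Z (i + 1) = NoFF.Basic.V (Z i) (CC Z (i + 1)) := by
      show NoFF.Basic.V (Z (i + 1 + 1)) (CC Z (i + 1)) = _
      rw [e]
    have hsq := D.TN_sq (i + 1)
    rw [hN] at hsq ⊢
    refine FlagNO.flag_no hML D.S2 (D.S_le_C (i + 1)) (syl_not_dvd (D.syl (D.S_le_C (i + 1))))
      (D.S_le_C i) (hK (i + 1)) hsq ?_ hB2
    -- `B ≤ O₂(C_G(Ω₁Z(S)))`
    refine (hB'.trans (D.PQ_le_Q i)).trans (le_o2 ?_ (o2_isPGroup _) ?_)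
    · exact le_inf ((D.Q_le_S i).trans (D.S_le_C _)) ((D.Q_le_S i).trans (D.S_le_C _))
    · exact inf_le_right.trans (le_normalizer_o2 _)
  have h1 := OM.PG.PeelQ.nob_conj key k
  rw [← PT.NN_conj, OM.PG.conj_inv_conj] at h1
  exact h1

/-- **(0.2)** -/
theorem fus2 : PT.Fus2 l := by
  rintro _ ⟨i, k, rfl⟩ x hx hx01
  have hc01 : l 1 ≤ normalizer (l 0 : Set G) :=
    (((D.lV 1).trans (comm_symm D.com)).trans (centralizer_le (D.lV 0))).trans (centralizer_le_normalizer _)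
  obtain ⟨u, hu, v, hv, rfl⟩ := exists_mul_of_mem_sup hc01 hx01
  by_cases hu1 : u = 1
  · right; rw [hu1, one_mul]; exact hv
  by_cases hv1 : v = 1
  · left; rw [hv1, mul_one]; exact hu
  exfalso
  obtain ⟨g0, g0c, g0V, g0l, g0Z⟩ := D.tor 0 u hu
  obtain ⟨g1, g1c, g1V, g1l, g1Z⟩ := D.tor 1 v hv
  set u' := g0 * u * g0⁻¹ with hu'
  set v' := g1 * v * g1⁻¹ with hv'
  -- `x' = (g0 g1) (u v) (g0 g1)⁻¹ = u' v'`
  have hg1u : g1 * u * g1⁻¹ = u := by
    have h1 : u * g1 = g1 * u := mem_centralizer_iff.1 g1c u (D.lV 0 hu)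
    rw [← h1, mul_inv_cancel_right]
  have hg0v : g0 * v' * g0⁻¹ = v' := by
    have h1 : v' * g0 = g0 * v' := mem_centralizer_iff.1 g0c v' (D.ZV 1 g1Z)
    rw [← h1, mul_inv_cancel_right]
  have e1 : (g0 * g1) * (u * v) * (g0 * g1)⁻¹ = u' * v' := by
    calc (g0 * g1) * (u * v) * (g0 * g1)⁻¹ = (g0 * (g1 * u * g1⁻¹) * g0⁻¹) * (g0 * (g1 * v * g1⁻¹) * g0⁻¹) := by group
      _ = u' * v' := by rw [hg1u, ← hv', hg0v]
  have hu'1 : u' ≠ 1 := fun e => hu1 (conj_eq_one_iff.1 e)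
  have hv'1 : v' ≠ 1 := fun e => hv1 (conj_eq_one_iff.1 e)
  have hx1 : u * v ≠ 1 := by
    intro e
    have e2 : u = v⁻¹ := eq_inv_of_mul_eq_one_left e
    exact hu1 (D.dis' (i := 0) (j := 1) (by decide) (D.lV 0 hu) (by rw [e2]; exact inv_mem (D.lV 1 hv)))
  -- `a = k⁻¹ x k ∈ l i`, its torus conjugate lies in `Z i`
  have ha := mem_conj.1 hx
  obtain ⟨h, hc, hV, hl, hZ⟩ := D.tor i _ ha
  set y := h * (k⁻¹ * (u * v) * k) * h⁻¹ with hy
  have e3 : (g0 * g1 * k * h⁻¹) * y * (g0 * g1 * k * h⁻¹)⁻¹ = u' * v' := by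
    rw [← e1, hy]; group
  have hy1 : y ≠ 1 := by
    intro e
    apply hx1
    have e4 : u * v = k * (k⁻¹ * (u * v) * k) * k⁻¹ := by group
    rw [e4, conj_eq_one_iff.1 e]; group
  obtain ⟨n, hn, hn1⟩ := All.HOne.burnside S (D.Z_le_zc i hZ)
    (mul_mem (D.Z_le_zc 0 g0Z) (D.Z_le_zc 1 g1Z)) e3
  have hmem : ∃ j, u' * v' ∈ l j := by
    rcases D.nS n hn with h1 | h1
    · exact ⟨i, by rw [← hn1, ← (h1 i).1]; exact conj_mem (D.Zl i hZ)⟩
    · exact ⟨i + 1, by rw [← hn1, ← (h1 i).1]; exact conj_mem (D.Zl i hZ)⟩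
  obtain ⟨j, hj⟩ := hmem
  rcases PT.eq_or 0 j with rfl | rfl
  · have h2 : v' ∈ V 0 := by
      have := mul_mem (inv_mem (D.ZV 0 g0Z)) (D.lV 0 hj)
      rwa [inv_mul_cancel_left] at this
    exact hv'1 (D.dis' (i := 0) (j := 1) (by decide) h2 (D.ZV 1 g1Z))
  · have h2 : u' ∈ V 1 := by
      have := mul_mem (D.lV _ hj) (inv_mem (D.ZV 1 g1Z))
      rwa [mul_inv_cancel_right] at this
    exact hu'1 (D.dis' (i := 0) (j := 1) (by decide) (D.ZV 0 g0Z) h2)

/-- **What is left for two natural blocks with field automorphisms**: (G1), (4) and (5)-(7) for the lines. -/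
theorem false_of (hML : ML.Final.MLK.{u, u}) (hK : ∀ i, IsKGroup (CC Z i)) (hG : PT.ThmC2 l (PT.XW l V))
    (hI : PT.NN l (l 0) ⊓ PT.NN l (l 1) ≤ l 0 ⊔ l 1)
    (hPC : ∀ i, PT.XW l V (l i) ≤ centralizer (PT.NN l (l (i + 1)) : Set G)) : False :=
  PT.false_of_pc D.pp D.tr D.ti D.pts D.eab D.rtU D.xw_eab D.xw_le (D.noP hML hK) hG hI D.fus2 hPC

end LFr

end Cfsg.Agent.Omega.KL.TwoZ.Line
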