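import Cfsg.Agent.Mrg.Omega.KL.TwoZ.Line
import Cfsg.Agent.Mrg.Omega.OM.PT.PTW
import Cfsg.Agent.Mrg.Omega.OM.TV.OfT


/-!
# Two natural blocks WITH field automorphisms: `LFr` gives 401's points-level frame `PTW` (helper918 #24444 (C))

* `LFrW` : `LFr`, the tori, `C_O(B) = l 0 l 1` for `B = C_S(l 0 l 1)`;
* `LFrW.ptw` : the frame `PTW l V (C_S(l 0 l 1))` from (G1) and (4);
* `bf_of` : the field `bf` from `Ω₁Z(J(O)) = l 0 l 1`.
-/

set_option autoImplicit false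
set_option linter.unusedSectionVars false
set_option linter.unusedVariables false

namespace Cfsg.Agent.Omega.KL.TwoZ.Line

open Subgroup Cfsg Cfsg.Agent.Omega.MinPar
open Cfsg.Agent.ZN (o2 zc)
open Cfsg.Agent.Omega.NoFF.Basic (conj_conj mem_conj conj_le_iff comm_symm comm_mono Z_le_V V_le)
open Cfsg.Agent.Omega.NOThreeL.Pair (conj_eq_of_mem conj_le_normalizer)
open Cfsg.Agent.ZN.ChoiceSit (Syl exists_syl syl_conj o2_le_syl syl_not_dvd)
open Cfsg.Agent.MinSimple.VModule (mem_zc zc_le le_o2 o2_isPGroup o2_le zc_le_centralizer le_centralizer_zc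
  le_normalizer_o2)
open Cfsg.Agent.Omega.KL.TwoS (Mx)
open Cfsg.Agent.Omega.KL.TwoZ (CC)
open Cfsg.Agent.Omega.OM
open scoped Pointwise

universe u

variable {G : Type u} [Group G]

/-- `C_S(l 0 l 1)` -/
def BB [Finite G] (S : Sylow 2 G) (l : Fin 2 → Subgroup G) : Subgroup G :=
  (S : Subgroup G) ⊓ (centralizer (l 0 : Set G) ⊓ centralizer (l 1 : Set G))

theorem BB_le [Finite G] (S : Sylow 2 G) (l : Fin 2 → Subgroup G) (i : Fin 2) : BB S l ≤ centralizer (l i : Set G) := by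
  fin_cases i
  · exact inf_le_right.trans inf_le_left
  · exact inf_le_right.trans inf_le_right

/-- **two natural blocks with field automorphisms, complete data** -/
structure LFrW [Finite G] (S : Sylow 2 G) (V Z l : Fin 2 → Subgroup G) : Prop extends LFr S V Z l where
  /-- the torus on `l i` -/
  torZ : ∀ i, ∀ x ∈ l i, x ≠ 1 → ∀ y ∈ l i, y ≠ 1 → ∃ h : G, h ∈ centralizer (V (i + 1) : Set G) ∧
    MulAut.conj h • l i = l i ∧ MulAut.conj h • V i = V i ∧ h * x * h⁻¹ = y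
  /-- the torus on `V i / l i` -/
  torU : ∀ i, ∀ x ∈ V i, x ∉ l i → ∀ y ∈ V i, y ∉ l i → ∃ h : G, h ∈ centralizer (V (i + 1) : Set G) ∧
    MulAut.conj h • l i = l i ∧ MulAut.conj h • V i = V i ∧ y⁻¹ * (h * x * h⁻¹) ∈ l i
  /-- `C_O(C_S(l 0 l 1))` has `Ω₁ = l 0 l 1` -/
  bf : ∀ n ∈ o2 (centralizer (zc (S : Subgroup G) : Set G)), n ^ 2 = 1 → (∀ b ∈ BB S l, b * n = n * b) →
    n ∈ l 0 ⊔ l 1

/-- **`bf` from `Ω₁Z(J(O)) = l 0 l 1`** (371's LEMMA ZJ): members of `AA(O)` centralise the lines and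
`{n ∈ O | n² = 1, [n, AA(O)] = 1} ≤ l 0 l 1`. -/
theorem bf_of [Finite G] {S : Sylow 2 G} {l : Fin 2 → Subgroup G}
    (aa : ∀ A, Mx (o2 (centralizer (zc (S : Subgroup G) : Set G))) A → ∀ i, A ≤ centralizer (l i : Set G))
    (zj : ∀ n ∈ o2 (centralizer (zc (S : Subgroup G) : Set G)), n ^ 2 = 1 →
      (∀ A, Mx (o2 (centralizer (zc (S : Subgroup G) : Set G))) A → ∀ a ∈ A, a * n = n * a) → n ∈ l 0 ⊔ l 1) :
    ∀ n ∈ o2 (centralizer (zc (S : Subgroup G) : Set G)), n ^ 2 = 1 → (∀ b ∈ BB S l, b * n = n * b) →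
      n ∈ l 0 ⊔ l 1 := by
  intro n hn hn2 h
  refine zj n hn hn2 fun A hA a ha => h a ⟨?_, aa A hA 0 ha, aa A hA 1 ha⟩
  have hSC : (S : Subgroup G) ≤ centralizer (zc (S : Subgroup G) : Set G) := le_centralizer_zc _
  have hS : Syl (S : Subgroup G) (centralizer (zc (S : Subgroup G) : Set G)) :=
    ⟨hSC, S.2, fun R _ hR2 hSR => S.3 hR2 hSR⟩
  exact o2_le_syl hS (hA.le ha)

namespace LFr

variable [Finite G] {S : Sylow 2 G} {V Z l : Fin 2 → Subgroup G} (D : LFr S V Z l)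
include D

theorem tr4 (i : Fin 2) (k : G) (h : MulAut.conj k • l i ≤ V i) : ∃ m : G, MulAut.conj m • l i = MulAut.conj k • l i ∧
    MulAut.conj m • l (i + 1) = l (i + 1) ∧ MulAut.conj m • V i = V i ∧ MulAut.conj m • V (i + 1) = V (i + 1) := by
  obtain ⟨z, hz, hz1⟩ := D.exists_ne i
  obtain ⟨h1, h1c, h1V, h1Z⟩ := D.trV i (k * z * k⁻¹) (h (conj_mem (D.Zl i hz)))
  have h2 : MulAut.conj (h1 * k) • l i = l i := by
    refine D.fuse_eq (D.Zl i hz) hz1 ?_
    have e : (h1 * k) * z * (h1 * k)⁻¹ = h1 * (k * z * k⁻¹) * h1⁻¹ := by group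
    rw [e]
    exact D.Zl i h1Z
  refine ⟨h1⁻¹, ?_, ?_, ?_, ?_⟩
  · rw [← conj_conj] at h2
    exact inv_conj h2
  · exact conj_eq_of_mem (inv_mem (centralizer_le_normalizer _ (centralizer_le (D.lV _) h1c)))
  · exact conj_eq_of_mem (inv_mem h1V)
  · exact conj_eq_of_mem (inv_mem (centralizer_le_normalizer _ h1c))

theorem Q_le_O (i : Fin 2) : TwoZ.QQ Z i ≤ o2 (centralizer (zc (S : Subgroup G) : Set G)) := by
  refine le_o2 ((D.Q_le_S i).trans (le_centralizer_zc _)) (o2_isPGroup _) ?_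
  exact (centralizer_le (D.Z_le_zc i)).trans (le_normalizer_o2 _)

/-- `O₂(N_G(l i) / C(N_i)) = 1` -/
theorem core (i : Fin 2) : PT.Pc.CoreP l i := by
  obtain ⟨z, hz, hz1⟩ := D.exists_ne (i + 1)
  refine TV.coreP_of (T := (S : Subgroup G)) (z := Z (i + 1)) (D.syl (D.Sl i)) ?_ (D.Z_cent_S _) ?_
  · rw [D.NN_eq]
    exact OM.KTwo.le_V _ _
  · intro E hE hN
    rw [D.NN_eq]
    exact V_le fun c hc => by
      have h1 : MulAut.conj c • E = E := conj_eq_of_mem (hN (D.C_le_N i hc))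
      rw [← h1]
      exact conj_le_iff.2 hE

end LFr

namespace LFrW

variable [Finite G] {S : Sylow 2 G} {V Z l : Fin 2 → Subgroup G} (D : LFrW S V Z l)
include D

/-- **the points-level frame for the lines** -/
theorem ptw (hML : ML.Final.MLK.{u, u}) (hK : ∀ i, IsKGroup (CC Z i)) (g1 : PT.ThmC2 l (PT.XW l V))
    (inter : PT.NN l (l 0) ⊓ PT.NN l (l 1) ≤ l 0 ⊔ l 1) : PT.PTW l V (BB S l) where
  toPP := D.pp
  ti := D.ti
  fus2 := D.fus2
  sqU := D.eab
  tr := D.tr4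
  pts := D.pts
  rt := D.rtU
  ab := D.xw_eab
  le := D.xw_le
  cen := D.PQ_le_cl
  no := D.noP hML hK
  g1 := g1
  core := D.core
  inter := inter
  B2 := S.2.to_le inf_le_left
  BH := fun i => inf_le_left.trans (D.Sl i)
  BU := by
    intro i x hx b hb
    have h1 := inv_mem (D.root i x hx b hb.1 (BB_le S l i hb))
    have e : (x * b * x⁻¹ * b⁻¹)⁻¹ = b * x * b⁻¹ * x⁻¹ := by group
    rwa [e] at h1
  Bfix := by
    intro i n hn hb
    rw [D.NN_eq] at hn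
    refine D.bf n (D.Q_le_O i (D.TN_le_Q i hn)) (D.TN_sq i n hn) fun b hb' => ?_
    have h1 := hb b hb'
    calc b * n = (b * n * b⁻¹) * b := by group
      _ = n * b := by rw [h1]
  torZ := D.torZ
  torU := D.torU

end LFrW

end Cfsg.Agent.Omega.KL.TwoZ.Line
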