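import Cfsg.Agent.Mrg.Omega.KL.TwoZ.NF
import Cfsg.Agent.Mrg.Omega.KL.TwoZ.FrN


/-!
# TEXT W2 (helper918 #24006 (0)): the frame `NF` gives `FrN`

* `NF.frN_fus` : Burnside : a conjugate of an element of `Z 0 Z 1` in `Z 0 Z 1` is its conjugate under `N_G(T)`;
* `NF.frN_ab` : (0.2) no `ab`, `a ∈ Z i#`, `b ∈ Z (i+1)#`, is conjugate into `Z (i+1)`;
* **`NF.frN`** : `FrN T V Z`.
-/

set_option autoImplicit false
set_option linter.unusedSectionVars false

namespace Cfsg.Agent.Omega.KL.TwoZ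

open Subgroup Cfsg Cfsg.Agent.Omega.MinPar
open Cfsg.Agent.ZN (o2 zc)
open Cfsg.Agent.Omega.OM.KTwo (ne_add_one eq_add_one add_one_add_one)
open Cfsg.Agent.MinSimple.MinParabolic (IsMinPar)
open Cfsg.Agent.Omega.NoFF.Basic (conj_conj mem_conj conj_le_iff)
open Cfsg.Agent.MinSimple.VModule (mem_zc zc_le)
open Cfsg.Agent.ZN.ChoiceSit (Syl exists_syl syl_conj)
open scoped Pointwise Matrix

universe u

variable {G : Type u} [Group G]

namespace NF

variable [Finite G] {T : Subgroup G} {V Z : Fin 2 → Subgroup G} (D : NF T V Z)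

include D

/-- **Burnside** : conjugate elements of `C_G(T)` are conjugate under `N_G(T)` -/
theorem frN_fus {g x : G} (hx : x ∈ centralizer (T : Set G)) (hgx : g * x * g⁻¹ ∈ centralizer (T : Set G)) :
    ∃ n ∈ normalizer (T : Set G), n * x * n⁻¹ = g * x * g⁻¹ := by
  set H : Subgroup G := centralizer ({g * x * g⁻¹} : Set G) with hH
  have hT : T ≤ H := by
    intro t ht
    rw [hH, mem_centralizer_singleton_iff]
    exact mem_centralizer_iff.1 hgx t ht
  have hT' : MulAut.conj g • T ≤ H := by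
    intro s hs
    rw [mem_conj] at hs
    rw [hH, mem_centralizer_singleton_iff]
    have h1 := mem_centralizer_iff.1 hx _ hs
    calc s * (g * x * g⁻¹) = g * ((g⁻¹ * s * g) * x) * g⁻¹ := by group
      _ = g * (x * (g⁻¹ * s * g)) * g⁻¹ := by rw [h1]
      _ = g * x * g⁻¹ * s := by group
  have hS : Syl T H := D.sylH hT
  obtain ⟨S, hS', hTS⟩ := exists_syl (D.T_isPGroup.map (MulAut.conj g).toMonoidHom) hT'
  obtain ⟨c, hc, hcS⟩ := syl_conj hS' hS
  have h1 : MulAut.conj (c * g) • T ≤ T := by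
    rw [← conj_conj]
    have h2 : MulAut.conj c • S = T := hcS
    have h3 : MulAut.conj g • T ≤ S := hTS
    exact (conj_le_iff.2 h3).trans h2.le
  have hn : c * g ∈ normalizer (T : Set G) := by
    have h2 : MulAut.conj (c * g) • T = T := by
      refine Subgroup.eq_of_le_of_card_ge h1 (le_of_eq ?_)
      exact (NoFF.ThmJFam.card_conj _ _).symm
    rw [mem_normalizer_iff]
    intro t
    constructor
    · intro ht
      have h3 : t = (c * g)⁻¹ * (c * g * t * (c * g)⁻¹) * (c * g) := by group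
      rw [← h2, mem_conj, ← h3]
      exact ht
    · intro ht
      rw [← h2, mem_conj] at ht
      have h3 : t = (c * g)⁻¹ * (c * g * t * (c * g)⁻¹) * (c * g) := by group
      rw [h3]
      exact ht
  refine ⟨c * g, hn, ?_⟩
  have h3 := mem_centralizer_singleton_iff.1 hc
  calc c * g * x * (c * g)⁻¹ = (c * (g * x * g⁻¹)) * c⁻¹ := by group
    _ = g * x * g⁻¹ := by rw [h3]; group

/-- (0.2) : `z m`, `m ∈ Z (i+1)`, `z ∈ Z i`, conjugate to `m` is `m` -/
theorem frN_ab (i : Fin 2) {g z m : G} (hz : z ∈ Z i) (hm : m ∈ Z (i + 1)) (h : g * m * g⁻¹ = z * m) : z = 1 := by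
  have hcz : ∀ j, Z j ≤ centralizer (T : Set G) := fun j => D.Z_cent_T j
  have h1 : g * m * g⁻¹ ∈ centralizer (T : Set G) := by
    rw [h]
    exact mul_mem (hcz i hz) (hcz _ hm)
  obtain ⟨n, hn, he⟩ := D.frN_fus (hcz _ hm) h1
  have h2 : n * m * n⁻¹ ∈ Z (i + 1) ∨ n * m * n⁻¹ ∈ Z i := by
    rcases D.nrm n hn with h3 | h3
    · left
      rw [← (h3 (i + 1)).1]
      exact ⟨m, hm, rfl⟩
    · right
      have h4 := (h3 (i + 1)).1
      rw [add_one_add_one] at h4
      rw [← h4]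
      exact ⟨m, hm, rfl⟩
  rw [he, h] at h2
  rcases h2 with h3 | h3
  · refine D.dis i z (D.ZV i hz) ?_
    have := mul_mem h3 (inv_mem hm)
    rwa [mul_inv_cancel_right] at this
  · have h4 : m ∈ Z i := by
      have := mul_mem (inv_mem hz) h3
      rwa [inv_mul_cancel_left] at this
    have h5 : m = 1 := D.dis i m (D.ZV i h4) hm
    rw [h5] at h
    rw [mul_one, mul_inv_cancel, mul_one] at h
    exact h.symm

/-- **the frame `FrN` of TEXT W2** -/
theorem frN : FrN T V Z where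
  toFr := D.toFr
  com := fun i w hw t ht => D.com i t ht w hw
  sep := by
    intro i c _ m hm h
    have h1 := D.frN_ab i (g := c) h hm (by group)
    exact mul_inv_eq_one.1 h1
  same := by
    intro i j hij R hR hRj hRi R' hR' hR'j hR'i r' hr'
    obtain ⟨F, iF, iF', e, hN, hA⟩ := D.nat i
    obtain ⟨M, hM⟩ := (hA j hij.symm R' hR' hR'j hR'i).1 r' hr'
    obtain ⟨r, hr, hrM⟩ := (hA j hij.symm R hR hRj hRi).2 M
    refine ⟨r, hr, fun z hz => ?_⟩
    obtain ⟨a, rfl⟩ := (hN.pt z).1 hz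
    rw [hM, hrM]

end NF

end Cfsg.Agent.Omega.KL.TwoZ
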