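import Cfsg.Agent.Mrg.Omega.KL.TwoZ.ThmI
import Cfsg.Agent.Mrg.Omega.KL.TwoZ.NFFrN
import Cfsg.Agent.Mrg.Omega.KL.TwoZ.GThree


/-!
# (4) of TEXT W2 (helper918 #24006) over `NF` from (G1): `N_0 ∩ N_1 ≤ Z_0 Z_1`
-/

set_option autoImplicit false
set_option linter.unusedSectionVars false

namespace Cfsg.Agent.Omega.KL.TwoZ

open Subgroup Cfsg
open Cfsg.Agent.ZN (o2 zc)

universe u

variable {G : Type u} [Group G] [Finite G] {T : Subgroup G} {V Z : Fin 2 → Subgroup G}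

namespace NF

/-- (K3) on `N_i` over `NF` -/
theorem k3N (D : NF T V Z) (hML : ML.Final.MLK.{u, u}) {i : Fin 2} {B : Subgroup G} (hK : IsKGroup (CC Z i))
    (hB : B ≤ o2 (centralizer (zc T : Set G))) (hB2 : ∀ b ∈ B, b ^ 2 = 1)
    (he : (centralizer (B : Set G)).relIndex (NN Z i) ≤ (centralizer (NN Z i : Set G)).relIndex B) :
    ∀ n ∈ NN Z i, (∀ b ∈ B, b * n * b⁻¹ * n⁻¹ ∈ Z i) → ∀ b ∈ B, b * n = n * b := by
  intro n hn hnB b hb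
  exact mem_centralizer_iff.1 (D.frN.k3 hML hK hB hB2 he ⟨mem_sup_left hn, hnB⟩) b hb

/-- **(4) of TEXT W2** -/
theorem inter (D : NF T V Z) (hML : ML.Final.MLK.{u, u}) (hK : ∀ i, IsKGroup (CC Z i)) (hG : ∀ i, GOne V Z i) :
    NN Z 0 ⊓ NN Z 1 ≤ Z 0 ⊔ Z 1 :=
  D.inter_le hML hK (D.toFr.g3 hML hK hG) fun i _ hB hB2 he => D.k3N hML (hK i) hB hB2 he

end NF

end Cfsg.Agent.Omega.KL.TwoZ
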