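import Cfsg.Agent.Mrg.Omega.KL.TwoZ.PTWOf
import Cfsg.Agent.Mrg.Omega.KL.TwoZ.NFInter
import Cfsg.Agent.Mrg.Omega.KL.TwoZ.NFGOne
import Cfsg.Agent.Mrg.Omega.OM.PT.W2


/-!
# TEXT W2 (helper918 #24006): two natural blocks without field automorphisms are impossible

`NF.false` : the frame `NF T V Z` (any `q_0`, `q_1`) with K-groups `C_G(Z i)` is contradictory.
-/

set_option autoImplicit false
set_option linter.unusedSectionVars false

namespace Cfsg.Agent.Omega.KL.TwoZ

open Subgroup Cfsg Cfsg.Agent.Omega.MinPar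

universe u

variable {G : Type u} [Group G] [Finite G] {T : Subgroup G} {V Z : Fin 2 → Subgroup G}

/-- **TEXT W2** -/
theorem NF.false (hML : ML.Final.MLK.{u, u}) (hE : ML.Ex.Two.Ext.{u, u}) (D : NF T V Z)
    (hK : ∀ i, IsKGroup (CC Z i)) : False :=
  (D.ptw hML hK (fun i => D.g1' hML hE hK i) (D.inter hML hK fun i => D.g1' hML hE hK i)).false

end Cfsg.Agent.Omega.KL.TwoZ
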